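/-
helper70, project UMON (S5655: the stabiliser of an orthogonal decomposition into non-degenerate
subspaces is maximal in `SU_n(q)`, INCLUDING the torus case `k = 1`, the monomial group).
Basic definitions.  Paper proofs of all modules: see the headers of the module files in this folder.
-/
import Mathlib
import Cfsg.Agent.Lib.Helper37.UnitaryGen
import Cfsg.Agent.Lib.Helper13.UnitMax
import Cfsg.Agent.Lib.Helper94.Mono.Defs
import Cfsg.Agent.Lib.Helper94.SUSub1

set_option autoImplicit false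

namespace Cfsg.Agent.Lib.Helper70.UMon

open Matrix Cfsg.Agent.S0837 Cfsg.Agent.S0781 Cfsg.Agent.S2644 Cfsg.Agent.Lib.Helper37
open Cfsg.Agent.Lib.Helper13 (UX)
open Cfsg.Agent.Lib.Helper94.Mono (monGL mem_monGL slGL mem_slGL colMono diagUnit dg dg2)
open Cfsg.Agent.Lib.Helper94.SUSub (MemM)

variable {F : Type*} [Field F] (σ : F →+* F) {n : ℕ}

/-- the special unitary group `SU_n`, as a subgroup of `GL_n` -/
def SUn (n : ℕ) : Subgroup (GL (Fin n) F) := UG σ n ⊓ slGL (Fin n) F

theorem mem_SUn {g : GL (Fin n) F} :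
    g ∈ SUn σ n ↔ g ∈ UG σ n ∧ (g : Matrix (Fin n) (Fin n) F).det = 1 := by
  rw [SUn, Subgroup.mem_inf, mem_slGL]

/-- the monomial subgroup `N` of `SU_n` -/
def NU (n : ℕ) : Subgroup (GL (Fin n) F) := monGL (Fin n) F ⊓ SUn σ n

/-- `M` is an overgroup of the monomial group `N` inside `SU_n`. -/
structure Over (M : Subgroup (GL (Fin n) F)) : Prop where
  le : M ≤ SUn σ n
  ge : NU σ n ≤ M

/-- "trivial intersection": an element of `M` with a monomial column is monomial. -/
def TIp (M : Subgroup (GL (Fin n) F)) : Prop :=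
  ∀ x ∈ M, (∃ j, colMono x j) → x ∈ monGL (Fin n) F

/-- "fullness": a non-monomial element of `M` has at most one zero in every column. -/
def Full (M : Subgroup (GL (Fin n) F)) : Prop :=
  ∀ x ∈ M, x ∉ monGL (Fin n) F → ∀ j i i', i ≠ i' → (x : Matrix (Fin n) (Fin n) F) i j = 0 →
    (x : Matrix (Fin n) (Fin n) F) i' j ≠ 0

open Classical in
/-- the support of a vector -/
noncomputable def supp (v : Fin n → F) : Finset (Fin n) := Finset.univ.filter fun i => v i ≠ 0

theorem mem_supp {v : Fin n → F} {i : Fin n} : i ∈ supp v ↔ v i ≠ 0 := by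
  simp [supp]

/-- the unitary reflection `x ↦ x + (ζ - 1) (x,u)/(u,u) u` (unitary when `ζ σ(ζ) = 1`) -/
def refl (u : Fin n → F) (ζ : F) : Matrix (Fin n) (Fin n) F :=
  1 + ((ζ - 1) / hf σ u u) • vecMulVec u (fun i => σ (u i))

theorem refl_mulVec (u : Fin n → F) (ζ : F) (x : Fin n → F) :
    refl σ u ζ *ᵥ x = x + ((ζ - 1) / hf σ u u * hf σ x u) • u := by
  unfold refl
  rw [add_mulVec, one_mulVec, smul_mulVec]
  congr 1
  ext i
  simp only [mulVec, vecMulVec_apply, dotProduct, Pi.smul_apply, smul_eq_mul, hf]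
  have : ∑ j, u i * σ (u j) * x j = (∑ j, x j * σ (u j)) * u i := by
    rw [Finset.sum_mul]
    apply Finset.sum_congr rfl
    intro j _
    ring
  rw [this]
  ring

/-- the diagonal matrix with `c` in position `a` and `1` elsewhere -/
def dmat (a : Fin n) (c : F) : Matrix (Fin n) (Fin n) F :=
  Matrix.diagonal (Function.update (1 : Fin n → F) a c)

/-- `𝒰_a(M)`: non-isotropic vectors `u` with `u_a = 0` all of whose corrected reflections
`R_u(ζ) · diag(ζ⁻¹ at a)` lie in `M`. -/
def InU (M : Subgroup (GL (Fin n) F)) (a : Fin n) (u : Fin n → F) : Prop :=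
  u a = 0 ∧ hf σ u u ≠ 0 ∧ ∀ ζ : F, ζ * σ ζ = 1 → MemM M (refl σ u ζ * dmat a ζ⁻¹)

/-- the monomial matrix `e_k ↦ d k • e_{π k}` -/
def mono (π : Equiv.Perm (Fin n)) (d : Fin n → Fˣ) : GL (Fin n) F where
  val := Matrix.of fun r k => if r = π k then (d k : F) else 0
  inv := Matrix.of fun r k => if k = π r then (((d r)⁻¹ : Fˣ) : F) else 0
  val_inv := by
    ext r k
    rw [Matrix.mul_apply, Matrix.one_apply]
    simp only [Matrix.of_apply]
    rw [Finset.sum_eq_single (π.symm r)]
    · by_cases h : r = k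
      · subst h; simp
      · have : ¬ k = r := fun h' => h h'.symm
        simp [h, this]
    · intro j _ hj
      have : ¬ r = π j := fun h' => hj (by rw [h']; simp)
      simp [this]
    · intro h; exact absurd (Finset.mem_univ _) h
  inv_val := by
    ext r k
    rw [Matrix.mul_apply, Matrix.one_apply]
    simp only [Matrix.of_apply]
    rw [Finset.sum_eq_single (π r)]
    · by_cases h : r = k
      · subst h; simp
      · have : ¬ π r = π k := fun h' => h (π.injective h')
        simp [h, this]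
    · intro j _ hj
      have : ¬ j = π r := hj
      simp [this]
    · intro h; exact absurd (Finset.mem_univ _) h

theorem mono_apply (π : Equiv.Perm (Fin n)) (d : Fin n → Fˣ) (r k : Fin n) :
    ((mono π d : GL (Fin n) F) : Matrix (Fin n) (Fin n) F) r k = if r = π k then (d k : F) else 0 :=
  rfl

theorem mono_mulVec (π : Equiv.Perm (Fin n)) (d : Fin n → Fˣ) (x : Fin n → F) (r : Fin n) :
    (((mono π d : GL (Fin n) F) : Matrix (Fin n) (Fin n) F) *ᵥ x) r =
      (d (π.symm r) : F) * x (π.symm r) := by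
  simp only [mulVec, dotProduct, mono_apply]
  rw [Finset.sum_eq_single (π.symm r)]
  · simp
  · intro j _ hj
    have : ¬ r = π j := fun h' => hj (by rw [h']; simp)
    simp [this]
  · intro h; exact absurd (Finset.mem_univ _) h

theorem mono_mulVec_single (π : Equiv.Perm (Fin n)) (d : Fin n → Fˣ) (k : Fin n) :
    ((mono π d : GL (Fin n) F) : Matrix (Fin n) (Fin n) F) *ᵥ Pi.single k 1 =
      (d k : F) • Pi.single (π k) 1 := by
  ext r
  rw [mono_mulVec]
  simp only [Pi.smul_apply, Pi.single_apply, smul_eq_mul]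
  by_cases h : r = π k
  · subst h; simp
  · have : ¬ π.symm r = k := fun h' => h (by rw [← h']; simp)
    simp [h, this]

theorem mono_mem_monGL (π : Equiv.Perm (Fin n)) (d : Fin n → Fˣ) :
    (mono π d : GL (Fin n) F) ∈ monGL (Fin n) F :=
  ⟨π, fun i j hij => by rw [mono_apply, if_neg hij]⟩

/-- the `(-1)`-eigenspace of a matrix -/
def Vm (A : Matrix (Fin n) (Fin n) F) : Submodule F (Fin n → F) where
  carrier := {v | A *ᵥ v = -v}
  add_mem' := by
    intro a b ha hb
    show A *ᵥ (a + b) = -(a + b)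
    rw [mulVec_add, ha, hb, neg_add]
  zero_mem' := by
    show A *ᵥ 0 = -0
    simp
  smul_mem' := by
    intro c v hv
    show A *ᵥ (c • v) = -(c • v)
    rw [mulVec_smul, hv, smul_neg]

theorem mem_Vm {A : Matrix (Fin n) (Fin n) F} {v : Fin n → F} : v ∈ Vm A ↔ A *ᵥ v = -v := Iff.rfl

/-- the coordinate subspace of the block `l` of the colouring `κ` -/
def blk {t : ℕ} (κ : Fin n → Fin t) (l : Fin t) : Submodule F (Fin n → F) where
  carrier := {v | ∀ r, κ r ≠ l → v r = 0}
  add_mem' := by
    intro a b ha hb r hr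
    rw [Pi.add_apply, ha r hr, hb r hr, add_zero]
  zero_mem' := fun _ _ => rfl
  smul_mem' := by
    intro c v hv r hr
    rw [Pi.smul_apply, hv r hr, smul_zero]

theorem mem_blk {t : ℕ} {κ : Fin n → Fin t} {l : Fin t} {v : Fin n → F} :
    v ∈ blk (F := F) κ l ↔ ∀ r, κ r ≠ l → v r = 0 := Iff.rfl

/-- isotropic vectors `v` whose unitary transvection with parameter `1` lies in `M`
(used in characteristic 2, where `1 + σ 1 = 0`) -/
def X1 (M : Subgroup (GL (Fin n) F)) : Set (Fin n → F) :=
  {v | ∃ hv : hf σ v v = 0, tvGL σ v 1 hv ∈ M}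

/-- the hyperbolic hermitian form on `F²` -/
def h2 (x y : Fin 2 → F) : F := x 0 * σ (y 1) + x 1 * σ (y 0)

/-- coordinates with respect to a pair of vectors -/
def emb (ω ω' : Fin n → F) (x : Fin 2 → F) : Fin n → F := x 0 • ω + x 1 • ω'

/-- the involution `diag(-1 at a, -1 at b)` of `N` -/
def sEl (a b : Fin n) : GL (Fin n) F := dg2 a b (-1)

/-- the involution `e_i ↦ ε e_j`, `e_j ↦ ε e_i`, `e_c ↦ -e_c`, identity on the other `e_k` -/
def zEl (i j c : Fin n) (ε : Fˣ) : GL (Fin n) F :=
  mono (Equiv.swap i j) (Function.update (Function.update (Function.update 1 i ε) j ε) c (-1))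

/-- `g` is unitary, maps the plane `span{u,u'}` into itself, multiplies `e_a` by a scalar of norm 1
and fixes every vector orthogonal to `u`, `u'` and `e_a`. -/
def PlaneAct (a : Fin n) (u u' : Fin n → F) (g : Matrix (Fin n) (Fin n) F) : Prop :=
  (∀ x y, hf σ (g *ᵥ x) (g *ᵥ y) = hf σ x y) ∧
  (∀ x ∈ Submodule.span F ({u, u'} : Set (Fin n → F)), g *ᵥ x ∈ Submodule.span F ({u, u'} : Set (Fin n → F))) ∧
  (∃ c : F, c * σ c = 1 ∧ g *ᵥ Pi.single a 1 = c • Pi.single a 1) ∧
  (∀ y, hf σ y u = 0 → hf σ y u' = 0 → y a = 0 → g *ᵥ y = y)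

section fctx
variable [Fintype F] {σ} {q : ℕ}

/-- standing hypotheses on the field: `|F| = q²` and `σ` is the Frobenius map `x ↦ x^q` -/
structure FCtx (σ : F →+* F) (q : ℕ) : Prop where
  card : Fintype.card F = q ^ 2
  frob : ∀ x, σ x = x ^ q

theorem FCtx.invol (h : FCtx σ q) (a : F) : σ (σ a) = a := by
  rw [h.frob, h.frob, ← pow_mul, ← sq, ← h.card, FiniteField.pow_card]

theorem FCtx.ne_id (h : FCtx σ q) : σ ≠ RingHom.id F := frob_ne_id σ h.card h.frob

theorem FCtx.two_le (h : FCtx σ q) : 2 ≤ q := by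
  by_contra hlt
  have hq : q = 0 ∨ q = 1 := by omega
  have h1 : 1 < Fintype.card F := Fintype.one_lt_card
  rcases hq with rfl | rfl
  · rw [h.card] at h1; norm_num at h1
  · rw [h.card] at h1; norm_num at h1

end fctx

end Cfsg.Agent.Lib.Helper70.UMon
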