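/-
helper70, project UMON (S5655). MODULE UMON-[MONO].   (proved by helper86)
Sheet: Cfsg/Agent/Lib/Helper70/UMon/UMON_SHEET.md

API for the diagonal matrices `dmat`, the elements `dg`, `dg2` of helper94's `Mono/Defs` and the monomial
matrices `mono π d` (Defs: `mono_apply`, `mono_mulVec`, `mono_mulVec_single`, `mono_mem_monGL`).
All statements are direct computations.
-/
import Mathlib
import Cfsg.Agent.Lib.Helper70.UMon.Defs

set_option autoImplicit false

namespace Cfsg.Agent.Lib.Helper70.UMon

open Matrix Module Cfsg.Agent.S0837 Cfsg.Agent.S0781 Cfsg.Agent.S2644 Cfsg.Agent.Lib.Helper37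
open Cfsg.Agent.Lib.Helper13 (UX)
open Cfsg.Agent.Lib.Helper94.Mono (monGL mem_monGL slGL mem_slGL colMono diagUnit dg dg2)
open Cfsg.Agent.Lib.Helper94.SUSub (MemM)

variable {F : Type*} [Field F] {σ : F →+* F} {n : ℕ}

theorem dmat_mulVec (a : Fin n) (c : F) (x : Fin n → F) :
    dmat a c *ᵥ x = Function.update x a (c * x a) := by
  ext i
  rw [dmat, mulVec_diagonal]
  by_cases h : i = a
  · subst h
    rw [Function.update_self, Function.update_self]
  · rw [Function.update_of_ne h, Function.update_of_ne h, Pi.one_apply, one_mul]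

theorem dmat_one (a : Fin n) : dmat a (1 : F) = 1 := by
  unfold dmat
  have : Function.update (1 : Fin n → F) a 1 = 1 := by
    ext i
    by_cases h : i = a
    · subst h; rw [Function.update_self, Pi.one_apply]
    · rw [Function.update_of_ne h]
  rw [this]
  exact Matrix.diagonal_one

theorem dmat_mul_same (a : Fin n) (c c' : F) : dmat a c * dmat a c' = dmat a (c * c') := by
  unfold dmat
  rw [Matrix.diagonal_mul_diagonal]
  congr 1
  ext i
  by_cases h : i = a
  · subst h; rw [Function.update_self, Function.update_self, Function.update_self]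
  · rw [Function.update_of_ne h, Function.update_of_ne h, Function.update_of_ne h, Pi.one_apply,
      mul_one]

theorem dmat_comm (a b : Fin n) (c c' : F) : dmat a c * dmat b c' = dmat b c' * dmat a c := by
  unfold dmat
  rw [Matrix.diagonal_mul_diagonal, Matrix.diagonal_mul_diagonal]
  congr 1
  ext i
  exact mul_comm _ _

theorem dg_val (a : Fin n) (ζ : Fˣ) :
    ((dg a ζ : GL (Fin n) F) : Matrix (Fin n) (Fin n) F) = dmat a (ζ : F) := by
  unfold dg dmat
  rw [Cfsg.Agent.Lib.Helper94.Mono.diagUnit_val]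
  congr 1
  ext i
  by_cases h : i = a
  · subst h; rw [Function.update_self, Function.update_self]
  · rw [Function.update_of_ne h, Function.update_of_ne h, Pi.one_apply, Pi.one_apply, Units.val_one]

theorem dg2_val (a b : Fin n) (ζ : Fˣ) :
    ((dg2 a b ζ : GL (Fin n) F) : Matrix (Fin n) (Fin n) F) = dmat a (ζ : F) * dmat b ((ζ⁻¹ : Fˣ) : F) := by
  unfold dg2
  rw [Units.val_mul, dg_val, dg_val]

theorem dg2_mulVec {a b : Fin n} (hab : a ≠ b) (ζ : Fˣ) (x : Fin n → F) :
    ((dg2 a b ζ : GL (Fin n) F) : Matrix (Fin n) (Fin n) F) *ᵥ x =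
      Function.update (Function.update x a ((ζ : F) * x a)) b (((ζ⁻¹ : Fˣ) : F) * x b) := by
  rw [dg2_val, ← mulVec_mulVec, dmat_mulVec, dmat_mulVec]
  rw [Function.update_of_ne hab, Function.update_comm hab]

theorem mono_mem_UG {π : Equiv.Perm (Fin n)} {d : Fin n → Fˣ}
    (hd : ∀ k, (d k : F) * σ (d k : F) = 1) : (mono π d : GL (Fin n) F) ∈ UG σ n := by
  rw [mem_UG]
  intro x y
  unfold hf
  rw [← Equiv.sum_comp π]
  apply Finset.sum_congr rfl
  intro k _
  rw [mono_mulVec, mono_mulVec, Equiv.symm_apply_apply, map_mul]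
  have := hd k
  calc (d k : F) * x k * (σ (d k : F) * σ (y k))
      = ((d k : F) * σ (d k : F)) * (x k * σ (y k)) := by ring
    _ = x k * σ (y k) := by rw [this, one_mul]

theorem det_mono (π : Equiv.Perm (Fin n)) (d : Fin n → Fˣ) :
    ((mono π d : GL (Fin n) F) : Matrix (Fin n) (Fin n) F).det =
      (((Equiv.Perm.sign π : ℤˣ) : ℤ) : F) * ∏ k, (d k : F) := by
  rw [Matrix.det_apply']
  rw [Finset.sum_eq_single π]
  · congr 1
    apply Finset.prod_congr rfl
    intro k _
    rw [mono_apply, if_pos rfl]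
  · intro τ _ hτ
    obtain ⟨k, hk⟩ : ∃ k, τ k ≠ π k := by
      by_contra h
      simp only [not_exists, not_not] at h
      exact hτ (Equiv.ext h)
    rw [Finset.prod_eq_zero (Finset.mem_univ k), mul_zero]
    rw [mono_apply, if_neg hk]
  · intro h; exact absurd (Finset.mem_univ _) h

theorem mono_mem_NU {π : Equiv.Perm (Fin n)} {d : Fin n → Fˣ}
    (hd : ∀ k, (d k : F) * σ (d k : F) = 1)
    (hdet : (((Equiv.Perm.sign π : ℤˣ) : ℤ) : F) * ∏ k, (d k : F) = 1) :
    (mono π d : GL (Fin n) F) ∈ NU σ n := by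
  unfold NU
  rw [Subgroup.mem_inf, mem_SUn]
  exact ⟨mono_mem_monGL π d, mono_mem_UG hd, by rw [det_mono]; exact hdet⟩

theorem exists_mono_of_mem {g : GL (Fin n) F} (hg : g ∈ monGL (Fin n) F) :
    ∃ (π : Equiv.Perm (Fin n)) (d : Fin n → Fˣ), g = mono π d := by
  obtain ⟨π, hπ⟩ := mem_monGL.mp hg
  have hne : ∀ k, (g : Matrix (Fin n) (Fin n) F) (π k) k ≠ 0 := by
    intro k h0
    have hdet : (g : Matrix (Fin n) (Fin n) F).det = 0 := by
      apply Matrix.det_eq_zero_of_column_eq_zero k
      intro i
      by_cases hi : i = π k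
      · rw [hi, h0]
      · exact hπ i k hi
    have hu : IsUnit (g : Matrix (Fin n) (Fin n) F).det :=
      (Matrix.isUnit_iff_isUnit_det _).mp g.isUnit
    exact hu.ne_zero hdet
  refine ⟨π, fun k => Units.mk0 _ (hne k), ?_⟩
  apply Units.ext
  ext r k
  rw [mono_apply]
  by_cases h : r = π k
  · rw [if_pos h, h]; rfl
  · rw [if_neg h]; exact hπ r k h

theorem mono_mul (π π' : Equiv.Perm (Fin n)) (d d' : Fin n → Fˣ) :
    (mono π d : GL (Fin n) F) * mono π' d' = mono (π * π') (fun k => d (π' k) * d' k) := by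
  apply Units.ext
  ext r k
  rw [Units.val_mul, Matrix.mul_apply, mono_apply]
  rw [Finset.sum_eq_single (π' k)]
  · rw [mono_apply, mono_apply, if_pos rfl]
    by_cases h : r = π (π' k)
    · rw [if_pos h, if_pos (by rw [Equiv.Perm.mul_apply]; exact h), Units.val_mul]
    · rw [if_neg h, if_neg (by rw [Equiv.Perm.mul_apply]; exact h), zero_mul]
  · intro j _ hj
    rw [mono_apply π' d', if_neg hj, mul_zero]
  · intro h; exact absurd (Finset.mem_univ _) h

theorem mono_one : (mono (1 : Equiv.Perm (Fin n)) (1 : Fin n → Fˣ) : GL (Fin n) F) = 1 := by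
  apply Units.ext
  ext r k
  rw [mono_apply, Units.val_one, Matrix.one_apply]
  by_cases h : r = k
  · subst h; simp
  · have : ¬ r = (1 : Equiv.Perm (Fin n)) k := h
    rw [if_neg h, if_neg this]

theorem monoApi_diagUnit_eq_mono (d : Fin n → Fˣ) : (diagUnit d : GL (Fin n) F) = mono 1 d := by
  apply Units.ext
  ext r k
  rw [Cfsg.Agent.Lib.Helper94.Mono.diagUnit_val, mono_apply, Matrix.diagonal_apply]
  by_cases h : r = k
  · subst h; simp
  · have : ¬ r = (1 : Equiv.Perm (Fin n)) k := h
    rw [if_neg h, if_neg this]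

theorem monoApi_prod_update_one (a : Fin n) (c : Fˣ) :
    ∏ k, (Function.update (1 : Fin n → Fˣ) a c) k = c := by
  rw [Finset.prod_update_of_mem (Finset.mem_univ a)]
  simp

theorem monoApi_pm_one_norm {x : Fˣ} (hx : x = 1 ∨ x = -1) : (x : F) * σ (x : F) = 1 := by
  rcases hx with rfl | rfl
  · simp
  · simp

theorem monoApi_pm_one_sq {x : Fˣ} (hx : x = 1 ∨ x = -1) : x * x = 1 := by
  rcases hx with rfl | rfl
  · simp
  · simp

theorem monoApi_upd3_i {i j c : Fin n} (hij : i ≠ j) (hic : i ≠ c) (x y z : Fˣ) :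
    Function.update (Function.update (Function.update (1 : Fin n → Fˣ) i x) j y) c z i = x := by
  rw [Function.update_of_ne hic, Function.update_of_ne hij, Function.update_self]

theorem monoApi_upd3_j {i j c : Fin n} (hjc : j ≠ c) (x y z : Fˣ) :
    Function.update (Function.update (Function.update (1 : Fin n → Fˣ) i x) j y) c z j = y := by
  rw [Function.update_of_ne hjc, Function.update_self]

theorem monoApi_upd3_c {i j c : Fin n} (x y z : Fˣ) :
    Function.update (Function.update (Function.update (1 : Fin n → Fˣ) i x) j y) c z c = z :=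
  Function.update_self _ _ _

theorem monoApi_upd3_other {i j c k : Fin n} (hki : k ≠ i) (hkj : k ≠ j) (hkc : k ≠ c) (x y z : Fˣ) :
    Function.update (Function.update (Function.update (1 : Fin n → Fˣ) i x) j y) c z k = 1 := by
  rw [Function.update_of_ne hkc, Function.update_of_ne hkj, Function.update_of_ne hki, Pi.one_apply]

theorem monoApi_upd3_eq_mul {i j c : Fin n} (hij : i ≠ j) (hic : i ≠ c) (hjc : j ≠ c) (x y z : Fˣ) :
    Function.update (Function.update (Function.update (1 : Fin n → Fˣ) i x) j y) c z =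
      Function.update (1 : Fin n → Fˣ) i x * Function.update (1 : Fin n → Fˣ) j y *
        Function.update (1 : Fin n → Fˣ) c z := by
  ext k
  rw [Pi.mul_apply, Pi.mul_apply]
  by_cases hkc : k = c
  · subst hkc
    rw [monoApi_upd3_c, Function.update_of_ne (Ne.symm hic), Function.update_of_ne (Ne.symm hjc),
      Function.update_self, Pi.one_apply, one_mul, one_mul]
  · by_cases hkj : k = j
    · subst hkj
      rw [monoApi_upd3_j hkc, Function.update_of_ne (Ne.symm hij), Function.update_self,
        Function.update_of_ne hkc, Pi.one_apply, one_mul, mul_one]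
    · by_cases hki : k = i
      · subst hki
        rw [monoApi_upd3_i hkj hkc, Function.update_self, Function.update_of_ne hkj,
          Function.update_of_ne hkc, Pi.one_apply, mul_one, mul_one]
      · rw [monoApi_upd3_other hki hkj hkc, Function.update_of_ne hki, Function.update_of_ne hkj,
          Function.update_of_ne hkc, Pi.one_apply, mul_one, mul_one]

theorem monoApi_prod_upd3 {i j c : Fin n} (hij : i ≠ j) (hic : i ≠ c) (hjc : j ≠ c) (x y z : Fˣ) :
    ∏ k, Function.update (Function.update (Function.update (1 : Fin n → Fˣ) i x) j y) c z k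
      = x * y * z := by
  rw [monoApi_upd3_eq_mul hij hic hjc]
  simp only [Pi.mul_apply]
  rw [Finset.prod_mul_distrib, Finset.prod_mul_distrib, monoApi_prod_update_one, monoApi_prod_update_one,
    monoApi_prod_update_one]

theorem dg2_mem_NU {a b : Fin n} (hab : a ≠ b) {ζ : Fˣ} (hζ : (ζ : F) * σ (ζ : F) = 1) :
    (dg2 a b ζ : GL (Fin n) F) ∈ NU σ n := by
  have h1 : (dg2 a b ζ : GL (Fin n) F) =
      mono 1 (Function.update (1 : Fin n → Fˣ) a ζ * Function.update (1 : Fin n → Fˣ) b ζ⁻¹) := by
    unfold dg2 dg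
    rw [Cfsg.Agent.Lib.Helper94.Mono.diagUnit_mul, monoApi_diagUnit_eq_mono]
  rw [h1]
  apply mono_mem_NU
  · intro k
    rw [Pi.mul_apply]
    by_cases hka : k = a
    · subst hka
      rw [Function.update_self, Function.update_of_ne hab, Pi.one_apply, mul_one]
      exact hζ
    · by_cases hkb : k = b
      · subst hkb
        rw [Function.update_of_ne hka, Function.update_self, Pi.one_apply, one_mul,
          Units.val_inv_eq_inv_val, map_inv₀, ← mul_inv, hζ, inv_one]
      · rw [Function.update_of_ne hka, Function.update_of_ne hkb, Pi.one_apply, mul_one,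
          Units.val_one, map_one, mul_one]
  · rw [Equiv.Perm.sign_one, ← Units.coe_prod]
    simp only [Pi.mul_apply]
    rw [Finset.prod_mul_distrib, monoApi_prod_update_one, monoApi_prod_update_one, mul_inv_cancel]
    simp

/-- every permutation is induced by an element of `N` with entries `±1` (only one sign needed) -/
theorem exists_signed_perm (π : Equiv.Perm (Fin n)) (k₀ : Fin n) :
    ∃ d : Fin n → Fˣ, (∀ k, k ≠ k₀ → d k = 1) ∧ (d k₀ = 1 ∨ d k₀ = -1) ∧
      (mono π d : GL (Fin n) F) ∈ NU σ n := by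
  rcases Int.units_eq_one_or (Equiv.Perm.sign π) with hs | hs
  · refine ⟨1, fun k _ => rfl, Or.inl rfl, ?_⟩
    apply mono_mem_NU
    · intro k
      simp
    · rw [hs]
      simp
  · refine ⟨Function.update 1 k₀ (-1), fun k hk => ?_, Or.inr ?_, ?_⟩
    · rw [Function.update_of_ne hk, Pi.one_apply]
    · rw [Function.update_self]
    · apply mono_mem_NU
      · intro k
        apply monoApi_pm_one_norm
        by_cases hk : k = k₀
        · subst hk; right; rw [Function.update_self]
        · left; rw [Function.update_of_ne hk, Pi.one_apply]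
      · rw [hs, ← Units.coe_prod, monoApi_prod_update_one]
        simp

theorem sEl_mem_NU {a b : Fin n} (hab : a ≠ b) : (sEl a b : GL (Fin n) F) ∈ NU σ n := by
  unfold sEl
  exact dg2_mem_NU hab (monoApi_pm_one_norm (Or.inr rfl))

theorem zEl_mem_NU {i j c : Fin n} (hij : i ≠ j) (hic : i ≠ c) (hjc : j ≠ c) {ε : Fˣ}
    (hε : ε = 1 ∨ ε = -1) : (zEl i j c ε : GL (Fin n) F) ∈ NU σ n := by
  unfold zEl
  apply mono_mem_NU
  · intro k
    apply monoApi_pm_one_norm
    by_cases hkc : k = c
    · subst hkc; right; exact monoApi_upd3_c _ _ _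
    · by_cases hkj : k = j
      · subst hkj; rw [monoApi_upd3_j hkc]; exact hε
      · by_cases hki : k = i
        · subst hki; rw [monoApi_upd3_i hkj hkc]; exact hε
        · left; exact monoApi_upd3_other hki hkj hkc _ _ _
  · rw [Equiv.Perm.sign_swap hij, ← Units.coe_prod, monoApi_prod_upd3 hij hic hjc, monoApi_pm_one_sq hε]
    simp

theorem sEl_mul_self {a b : Fin n} (hab : a ≠ b) : (sEl a b : GL (Fin n) F) * sEl a b = 1 := by
  apply Units.ext
  rw [Units.val_mul, Units.val_one]
  unfold sEl
  rw [dg2_val]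
  have h1 : (((-1 : Fˣ)⁻¹ : Fˣ) : F) = -1 := by simp
  have h2 : ((-1 : Fˣ) : F) = -1 := by simp
  rw [h1, h2]
  calc dmat a (-1 : F) * dmat b (-1) * (dmat a (-1) * dmat b (-1))
      = dmat a (-1) * (dmat b (-1) * dmat a (-1)) * dmat b (-1) := by
        simp only [Matrix.mul_assoc]
    _ = dmat a (-1) * (dmat a (-1) * dmat b (-1)) * dmat b (-1) := by rw [dmat_comm b a]
    _ = (dmat a (-1) * dmat a (-1)) * (dmat b (-1) * dmat b (-1)) := by
        simp only [Matrix.mul_assoc]
    _ = 1 := by
        rw [dmat_mul_same, dmat_mul_same]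
        have : (-1 : F) * (-1) = 1 := by ring
        rw [this, dmat_one, dmat_one, Matrix.mul_one]

theorem zEl_mul_self {i j c : Fin n} (hij : i ≠ j) (hic : i ≠ c) (hjc : j ≠ c) {ε : Fˣ}
    (hε : ε = 1 ∨ ε = -1) : (zEl i j c ε : GL (Fin n) F) * zEl i j c ε = 1 := by
  unfold zEl
  rw [mono_mul, Equiv.swap_mul_self]
  have hee := monoApi_pm_one_sq hε
  have : (fun k => Function.update (Function.update (Function.update (1 : Fin n → Fˣ) i ε) j ε) c (-1)
        (Equiv.swap i j k) *
      Function.update (Function.update (Function.update (1 : Fin n → Fˣ) i ε) j ε) c (-1) k) = 1 := by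
    ext k
    rw [Pi.one_apply]
    by_cases hkc : k = c
    · subst hkc
      rw [Equiv.swap_apply_of_ne_of_ne (Ne.symm hic) (Ne.symm hjc), monoApi_upd3_c]
      simp
    · by_cases hkj : k = j
      · subst hkj
        rw [Equiv.swap_apply_right, monoApi_upd3_i hij hic, monoApi_upd3_j hkc, hee]
      · by_cases hki : k = i
        · subst hki
          rw [Equiv.swap_apply_left, monoApi_upd3_j hjc, monoApi_upd3_i hkj hkc, hee]
        · rw [Equiv.swap_apply_of_ne_of_ne hki hkj, monoApi_upd3_other hki hkj hkc, mul_one]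
  rw [this, mono_one]

/-- the `(-1)`-eigenspace of `s = diag(-1 at a, b)` (characteristic not 2) -/
theorem mem_Vm_sEl (h2 : (2 : F) ≠ 0) {a b : Fin n} (hab : a ≠ b) (v : Fin n → F) :
    v ∈ Vm ((sEl a b : GL (Fin n) F) : Matrix (Fin n) (Fin n) F) ↔ ∀ r, r ≠ a → r ≠ b → v r = 0 := by
  rw [mem_Vm]
  unfold sEl
  rw [dg2_mulVec hab]
  have h1 : (((-1 : Fˣ)⁻¹ : Fˣ) : F) = -1 := by simp
  have h2' : ((-1 : Fˣ) : F) = -1 := by simp
  rw [h1, h2']
  constructor
  · intro h r hra hrb
    have h3 := congrFun h r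
    rw [Function.update_of_ne hrb, Function.update_of_ne hra, Pi.neg_apply] at h3
    have h4 : (2 : F) * v r = 0 := by linear_combination h3
    exact (mul_eq_zero.mp h4).resolve_left h2
  · intro h
    ext r
    rw [Pi.neg_apply]
    by_cases hrb : r = b
    · subst hrb
      rw [Function.update_self, neg_one_mul]
    · rw [Function.update_of_ne hrb]
      by_cases hra : r = a
      · subst hra
        rw [Function.update_self, neg_one_mul]
      · rw [Function.update_of_ne hra, h r hra hrb, neg_zero]

/-- the `(-1)`-eigenspace of `z = zEl i j c ε` (characteristic not 2): `⟨e_i - ε e_j, e_c⟩` -/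
theorem mem_Vm_zEl (h2 : (2 : F) ≠ 0) {i j c : Fin n} (hij : i ≠ j) (hic : i ≠ c) (hjc : j ≠ c)
    {ε : Fˣ} (hε : ε = 1 ∨ ε = -1) (v : Fin n → F) :
    v ∈ Vm ((zEl i j c ε : GL (Fin n) F) : Matrix (Fin n) (Fin n) F) ↔
      v j = -(ε : F) * v i ∧ ∀ r, r ≠ i → r ≠ j → r ≠ c → v r = 0 := by
  rw [mem_Vm]
  unfold zEl
  have hee : (ε : F) * (ε : F) = 1 := by
    rw [← Units.val_mul, monoApi_pm_one_sq hε, Units.val_one]
  have key : ∀ r, (((mono (Equiv.swap i j)
      (Function.update (Function.update (Function.update (1 : Fin n → Fˣ) i ε) j ε) c (-1)) :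
        GL (Fin n) F) : Matrix (Fin n) (Fin n) F) *ᵥ v) r =
      ((Function.update (Function.update (Function.update (1 : Fin n → Fˣ) i ε) j ε) c (-1)
        (Equiv.swap i j r) : Fˣ) : F) * v (Equiv.swap i j r) := by
    intro r
    rw [mono_mulVec, Equiv.symm_swap]
  constructor
  · intro h
    refine ⟨?_, fun r hri hrj hrc => ?_⟩
    · have h3 := congrFun h j
      rw [key, Equiv.swap_apply_right, monoApi_upd3_i hij hic, Pi.neg_apply] at h3
      linear_combination h3
    · have h3 := congrFun h r
      rw [key, Equiv.swap_apply_of_ne_of_ne hri hrj, monoApi_upd3_other hri hrj hrc, Units.val_one, one_mul,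
        Pi.neg_apply] at h3
      have h4 : (2 : F) * v r = 0 := by linear_combination h3
      exact (mul_eq_zero.mp h4).resolve_left h2
  · rintro ⟨hj, h0⟩
    ext r
    rw [key, Pi.neg_apply]
    by_cases hrc : r = c
    · subst hrc
      rw [Equiv.swap_apply_of_ne_of_ne (Ne.symm hic) (Ne.symm hjc), monoApi_upd3_c]
      simp
    · by_cases hrj : r = j
      · subst hrj
        rw [Equiv.swap_apply_right, monoApi_upd3_i hij hic, hj]
        ring
      · by_cases hri : r = i
        · subst hri
          rw [Equiv.swap_apply_left, monoApi_upd3_j hjc, hj]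
          linear_combination (-(v r)) * hee
        · rw [Equiv.swap_apply_of_ne_of_ne hri hrj, monoApi_upd3_other hri hrj hrc, h0 r hri hrj hrc]
          simp

end Cfsg.Agent.Lib.Helper70.UMon
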