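/-
helper70, project UMON (S5655). MODULE UMON-[COORD-ALL].
PLACEHOLDER: exact statement(s) + paper proof; the prover replaces every `sorry` (keep names and statements).
Sheet: Cfsg/Agent/Lib/Helper70/UMon/UMON_SHEET.md

Path (A): if the isotropic vectors of ONE coordinate plane are in `UX σ M` then so are those of EVERY coordinate plane.

Proof.  `UX σ M` is stable under `M ∩ UG` (helper13's `ux_map`).  Given `b' ≠ c'` choose a permutation `π` with `π b' = b`,
`π c' = c` and (by `exists_signed_perm`, with the sign at some index) `g = mono π d ∈ NU σ n ≤ M`, `d k = ±1`.  For `ω`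
isotropic supported on `{b',c'}`, `g ω` is supported on `{b,c}` (`mono_mulVec`) and isotropic, so `g ω ∈ UX`; then
`ω = g⁻¹ (g ω) ∈ UX` by `ux_map` for `g⁻¹ ∈ M`.
-/
import Mathlib
import Cfsg.Agent.Lib.Helper70.UMon.Defs
import Cfsg.Agent.Lib.Helper70.UMon.MonoApi

set_option autoImplicit false

namespace Cfsg.Agent.Lib.Helper70.UMon

open Matrix Module Cfsg.Agent.S0837 Cfsg.Agent.S0781 Cfsg.Agent.S2644 Cfsg.Agent.Lib.Helper37
open Cfsg.Agent.Lib.Helper13 (UX)
open Cfsg.Agent.Lib.Helper94.Mono (monGL mem_monGL slGL mem_slGL colMono diagUnit dg dg2)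
open Cfsg.Agent.Lib.Helper94.SUSub (MemM)

variable {F : Type*} [Field F] {σ : F →+* F} {n : ℕ}

theorem coord_all (hσ2 : ∀ a, σ (σ a) = a) {M : Subgroup (GL (Fin n) F)} (hM : Over σ M) {b c : Fin n}
    (hbc : b ≠ c)
    (h : ∀ ω : Fin n → F, (∀ r, r ≠ b → r ≠ c → ω r = 0) → hf σ ω ω = 0 → ω ∈ UX σ M) :
    ∀ b' c' : Fin n, b' ≠ c' → ∀ ω : Fin n → F, (∀ r, r ≠ b' → r ≠ c' → ω r = 0) → hf σ ω ω = 0 →
      ω ∈ UX σ M := by
  intro b' c' hbc' ω hω hiso
  -- a permutation with `π b' = b`, `π c' = c`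
  obtain ⟨π, hπb, hπc⟩ : ∃ π : Equiv.Perm (Fin n), π b' = b ∧ π c' = c := by
    refine ⟨Equiv.swap (Equiv.swap b' b c') c * Equiv.swap b' b, ?_, ?_⟩
    · rw [Equiv.Perm.mul_apply, Equiv.swap_apply_left]
      apply Equiv.swap_apply_of_ne_of_ne
      · intro hb
        have := (Equiv.swap b' b).injective (hb.symm.trans (Equiv.swap_apply_left b' b).symm)
        exact hbc' this.symm
      · exact hbc
    · rw [Equiv.Perm.mul_apply, Equiv.swap_apply_left]
  obtain ⟨d, -, -, hgN⟩ := exists_signed_perm (σ := σ) π b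
  set g : GL (Fin n) F := mono π d with hg
  have hgM : g ∈ M := hM.ge hgN
  have hgU : g ∈ UG σ n := by
    have h1 : g ∈ SUn σ n := hM.le hgM
    exact ((mem_SUn σ).1 h1).1
  have hgω : (g : Matrix (Fin n) (Fin n) F) *ᵥ ω ∈ UX σ M := by
    apply h
    · intro r hrb hrc
      rw [hg, mono_mulVec]
      have h1 : π.symm r ≠ b' := by
        intro h1
        apply hrb
        rw [← hπb, ← h1, Equiv.apply_symm_apply]
      have h2 : π.symm r ≠ c' := by
        intro h2
        apply hrc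
        rw [← hπc, ← h2, Equiv.apply_symm_apply]
      rw [hω _ h1 h2, mul_zero]
    · rw [hgU, hiso]
  have := Cfsg.Agent.Lib.Helper13.ux_map σ g⁻¹ (M.inv_mem hgM) ((UG σ n).inv_mem hgU) hgω
  rwa [mulVec_mulVec, ← Units.val_mul, inv_mul_cancel, Units.val_one, one_mulVec] at this

end Cfsg.Agent.Lib.Helper70.UMon
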