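/-
helper70, project UMON (S5655). MODULE UMON-[REFL]  (proved by helper93).
Sheet: Cfsg/Agent/Lib/Helper70/UMon/UMON_SHEET.md

Basic properties of the unitary reflections `refl σ u ζ` (Defs: `refl σ u ζ *ᵥ x = x + ((ζ-1)/(u,u) * (x,u)) • u`,
lemma `refl_mulVec`).  All are direct computations with `refl_mulVec` and the `hf` lemmas of `Cfsg.Agent.S0837`
(`hf_add_left`, `hf_smul_left`, `hf_smul_right`, `hf_symm`, ...).  Write `ν = (u,u)` (fixed by σ) and `a = (ζ-1)/ν`.
* `refl_unitary`: `(Rx,Ry) = (x,y) + (x,u)(u,y) [a + σ a + a σ(a) ν]` and the bracket is `(ζ σ ζ - 1)/ν = 0`.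
* `refl_det`: `Matrix.det_one_add_col_mul_row`-type lemma (rank one update): `det = 1 + a * Σ σ(u_i) u_i = ζ`.
* `refl_mul`: `(ξ-1) + (ζ-1) + (ζ-1)(ξ-1) = ζ ξ - 1`.
* `refl_conj`: for unitary `g`: `g R_u(ζ) = R_{g u}(ζ) g` (apply both sides to `x`).
* `refl_smul`: the factor `c σ(c)` cancels.
* `refl_single`: `R_{e_b}(ζ) = diag(ζ at b)`.
-/
import Mathlib
import Cfsg.Agent.Lib.Helper70.UMon.Defs

set_option autoImplicit false

namespace Cfsg.Agent.Lib.Helper70.UMon

open Matrix Module Cfsg.Agent.S0837 Cfsg.Agent.S0781 Cfsg.Agent.S2644 Cfsg.Agent.Lib.Helper37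
open Cfsg.Agent.Lib.Helper13 (UX)
open Cfsg.Agent.Lib.Helper94.Mono (monGL mem_monGL slGL mem_slGL colMono diagUnit dg dg2)
open Cfsg.Agent.Lib.Helper94.SUSub (MemM)

variable {F : Type*} [Field F] {σ : F →+* F} {n : ℕ}

theorem refl_unitary (hσ2 : ∀ a, σ (σ a) = a) {u : Fin n → F} (hu : hf σ u u ≠ 0) {ζ : F}
    (hζ : ζ * σ ζ = 1) (x y : Fin n → F) :
    hf σ (refl σ u ζ *ᵥ x) (refl σ u ζ *ᵥ y) = hf σ x y := by
  rw [refl_mulVec, refl_mulVec]
  have hν : σ (hf σ u u) = hf σ u u := (hf_symm σ hσ2 u u).symm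
  have hyu : σ (hf σ y u) = hf σ u y := (hf_symm σ hσ2 u y).symm
  simp only [hf_add_left, hf_add_right, hf_smul_left, hf_smul_right,
    map_mul, map_div₀, map_sub, map_one, hν, hyu]
  have key : (ζ - 1) / hf σ u u + (σ ζ - 1) / hf σ u u +
      (ζ - 1) / hf σ u u * ((σ ζ - 1) / hf σ u u) * hf σ u u = 0 := by
    field_simp
    linear_combination hζ
  linear_combination (hf σ x u * hf σ u y) * key

theorem refl_det {u : Fin n → F} (hu : hf σ u u ≠ 0) (ζ : F) : (refl σ u ζ).det = ζ := by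
  unfold refl
  rw [← smul_vecMulVec, vecMulVec_eq Unit, det_one_add_replicateCol_mul_replicateRow]
  have : (fun i => σ (u i)) ⬝ᵥ (((ζ - 1) / hf σ u u) • u) = (ζ - 1) / hf σ u u * hf σ u u := by
    rw [dotProduct_smul, smul_eq_mul]
    congr 1
    unfold hf dotProduct
    exact Finset.sum_congr rfl fun i _ => mul_comm _ _
  rw [this, div_mul_cancel₀ _ hu]
  ring

theorem refl_one (u : Fin n → F) : refl σ u 1 = 1 := by
  unfold refl
  rw [sub_self, zero_div, zero_smul, add_zero]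

theorem refl_mul {u : Fin n → F} (hu : hf σ u u ≠ 0) (ζ ξ : F) :
    refl σ u ζ * refl σ u ξ = refl σ u (ζ * ξ) := by
  rw [ext_iff_mulVec]
  intro x
  rw [← mulVec_mulVec, refl_mulVec, refl_mulVec, refl_mulVec, hf_add_left, hf_smul_left, add_assoc,
    ← add_smul]
  congr 2
  field_simp
  ring

theorem refl_conj (g : Matrix (Fin n) (Fin n) F)
    (hg : ∀ x y, hf σ (g *ᵥ x) (g *ᵥ y) = hf σ x y) (u : Fin n → F) (ζ : F) :
    g * refl σ u ζ = refl σ (g *ᵥ u) ζ * g := by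
  rw [ext_iff_mulVec]
  intro x
  rw [← mulVec_mulVec, ← mulVec_mulVec, refl_mulVec, refl_mulVec, mulVec_add, mulVec_smul, hg, hg]

theorem refl_smul (hσ2 : ∀ a, σ (σ a) = a) {c : F} (hc : c ≠ 0) (u : Fin n → F) (ζ : F) :
    refl σ (c • u) ζ = refl σ u ζ := by
  have _ := hσ2
  have hσc : σ c ≠ 0 := (map_ne_zero σ).2 hc
  rw [ext_iff_mulVec]
  intro x
  rw [refl_mulVec, refl_mulVec, hf_smul_left, hf_smul_right, hf_smul_right, smul_smul]
  congr 2
  by_cases hν : hf σ u u = 0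
  · rw [hν]; simp
  · field_simp

theorem refl_single (b : Fin n) (ζ : F) : refl σ (Pi.single b 1) ζ = dmat b ζ := by
  unfold refl dmat
  rw [hf_single_single, if_pos rfl, div_one]
  ext i j
  rw [Matrix.add_apply, Matrix.smul_apply, vecMulVec_apply, one_apply, diagonal_apply, smul_eq_mul]
  by_cases hij : i = j
  · subst hij
    by_cases hib : i = b
    · subst hib
      simp
    · simp [hib]
  · by_cases hib : i = b
    · subst hib
      have : j ≠ i := fun h => hij h.symm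
      simp [hij]
    · simp [hij, Pi.single_eq_of_ne hib]

theorem refl_comm (hσ2 : ∀ a, σ (σ a) = a) {u v : Fin n → F} (huv : hf σ u v = 0) (ζ ξ : F) :
    refl σ u ζ * refl σ v ξ = refl σ v ξ * refl σ u ζ := by
  have hvu : hf σ v u = 0 := by rw [hf_symm σ hσ2, huv, map_zero]
  rw [ext_iff_mulVec]
  intro x
  rw [← mulVec_mulVec, ← mulVec_mulVec, refl_mulVec, refl_mulVec, refl_mulVec, refl_mulVec,
    hf_add_left, hf_add_left, hf_smul_left, hf_smul_left, huv, hvu, mul_zero, mul_zero, add_zero,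
    add_zero, add_assoc, add_assoc, add_comm ((_ : F) • v)]

theorem refl_fix {u x : Fin n → F} (h : hf σ x u = 0) (ζ : F) : refl σ u ζ *ᵥ x = x := by
  rw [refl_mulVec, h, mul_zero, zero_smul, add_zero]

theorem refl_self {u : Fin n → F} (hu : hf σ u u ≠ 0) (ζ : F) : refl σ u ζ *ᵥ u = ζ • u := by
  rw [refl_mulVec, div_mul_cancel₀ _ hu, sub_smul, one_smul, add_sub_cancel]

end Cfsg.Agent.Lib.Helper70.UMon
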