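/-
helper70, project UMON (S5655). MODULE UMON-[INU].
PROVED by helper25 (statements unchanged).
Sheet: Cfsg/Agent/Lib/Helper70/UMon/UMON_SHEET.md

API for `𝒰_a(M)` (`InU σ M a u`: `u a = 0`, `(u,u) ≠ 0`, and `refl σ u ζ * dmat a ζ⁻¹ ∈ M` for all `ζ σ ζ = 1`;
membership of matrices in `M` is helper94's `MemM`, with `MemM.mul`, `MemM.of_mem`, `MemM.of_mul_eq_one`).
* `inU_single`: `refl σ e_b ζ * dmat a ζ⁻¹ = dmat b ζ * dmat a ζ⁻¹` is the matrix of `dg2 b a ζ' ∈ NU σ n ≤ M`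
  (`refl_single`, `dg2_val`, `dg2_mem_NU`; `ζ' : Fˣ` built from `ζ ≠ 0`).
* `inU_refl` (`𝒰_a` is stable under the corrected reflections of its members): `g := refl σ u ζ * dmat a ζ⁻¹ ∈ M` is
  unitary; `g * (refl σ u' ξ * dmat a ξ⁻¹) = (refl σ (g u') ξ * dmat a ξ⁻¹) * g` by `refl_conj` and because `g` commutes with
  `dmat a ξ⁻¹` (`refl σ u ζ` does, as `u a = 0`: `u ⊥ e_a`, `refl_comm` + `refl_single`).  `g u' = refl σ u ζ *ᵥ u'` since
  `u' a = 0`, and `(g u') a = 0`, `(g u', g u') = (u',u')`.  So the new matrix is `g * old * g⁻¹ ∈ M`.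
* `inU_aux`: changing the auxiliary coordinate: `refl u ζ * dmat b ζ⁻¹ = (refl u ζ * dmat a ζ⁻¹) * (dmat a ζ * dmat b ζ⁻¹)`,
  the last factor is `dg2 a b ζ ∈ N`.
* `inU_smul`: `refl_smul`.
-/
import Mathlib
import Cfsg.Agent.Lib.Helper70.UMon.Defs
import Cfsg.Agent.Lib.Helper70.UMon.Refl
import Cfsg.Agent.Lib.Helper70.UMon.MonoApi

set_option autoImplicit false

namespace Cfsg.Agent.Lib.Helper70.UMon

open Matrix Module Cfsg.Agent.S0837 Cfsg.Agent.S0781 Cfsg.Agent.S2644 Cfsg.Agent.Lib.Helper37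
open Cfsg.Agent.Lib.Helper13 (UX)
open Cfsg.Agent.Lib.Helper94.Mono (monGL mem_monGL slGL mem_slGL colMono diagUnit dg dg2)
open Cfsg.Agent.Lib.Helper94.SUSub (MemM)

variable {F : Type*} [Field F] {σ : F →+* F} {n : ℕ}

theorem memM_dg2 {M : Subgroup (GL (Fin n) F)} (hM : Over σ M) {a b : Fin n} (hab : a ≠ b) {ζ : F}
    (hζ : ζ * σ ζ = 1) : MemM M (dmat a ζ * dmat b ζ⁻¹) := by
  have hζ0 : ζ ≠ 0 := by
    intro h
    rw [h, zero_mul] at hζ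
    exact zero_ne_one hζ
  refine ⟨dg2 a b (Units.mk0 ζ hζ0), hM.ge (dg2_mem_NU hab ?_), ?_⟩
  · rw [Units.val_mk0]
    exact hζ
  · rw [dg2_val, Units.val_inv_eq_inv_val, Units.val_mk0]

theorem inU_single (hσ2 : ∀ a, σ (σ a) = a) {M : Subgroup (GL (Fin n) F)} (hM : Over σ M) {a b : Fin n}
    (hab : a ≠ b) : InU σ M a (Pi.single b 1) := by
  refine ⟨?_, ?_, ?_⟩
  · rw [Pi.single_apply, if_neg hab]
  · rw [hf_single_single, if_pos rfl]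
    exact one_ne_zero
  · intro ζ hζ
    rw [refl_single]
    exact memM_dg2 hM (Ne.symm hab) hζ

theorem inU_refl (hσ2 : ∀ a, σ (σ a) = a) {M : Subgroup (GL (Fin n) F)} (hMU : M ≤ UG σ n) {a : Fin n}
    {u u' : Fin n → F} (hu : InU σ M a u) (hu' : InU σ M a u') {ζ : F} (hζ : ζ * σ ζ = 1) :
    InU σ M a (refl σ u ζ *ᵥ u') := by
  obtain ⟨hua, huu, humem⟩ := hu
  obtain ⟨hu'a, hu'u', hu'mem⟩ := hu'
  refine ⟨?_, ?_, ?_⟩
  · rw [refl_mulVec, Pi.add_apply, Pi.smul_apply, hua, hu'a, smul_zero, add_zero]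
  · rw [refl_unitary hσ2 huu hζ]
    exact hu'u'
  · intro ξ hξ
    obtain ⟨g0, hg0, hg0v⟩ := humem ζ hζ
    obtain ⟨h0, hh0, hh0v⟩ := hu'mem ξ hξ
    have hgU : ∀ x y, hf σ ((g0 : Matrix (Fin n) (Fin n) F) *ᵥ x)
        ((g0 : Matrix (Fin n) (Fin n) F) *ᵥ y) = hf σ x y := hMU hg0
    -- `g0 u' = refl u ζ u'`
    have hDu' : dmat a ζ⁻¹ *ᵥ u' = u' := by
      rw [dmat_mulVec, hu'a, mul_zero]
      ext r
      by_cases hr : r = a
      · subst hr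
        rw [Function.update_self, hu'a]
      · rw [Function.update_of_ne hr]
    have hgu' : (g0 : Matrix (Fin n) (Fin n) F) *ᵥ u' = refl σ u ζ *ᵥ u' := by
      rw [hg0v, ← mulVec_mulVec, hDu']
    -- `refl u ζ` commutes with `dmat a ξ⁻¹`
    have hcomm : refl σ u ζ * dmat a ξ⁻¹ = dmat a ξ⁻¹ * refl σ u ζ := by
      rw [← refl_single (σ := σ) a ξ⁻¹]
      apply refl_comm hσ2
      rw [hf_single_right, hua]
    have hDD : dmat a ζ⁻¹ * dmat a ξ⁻¹ = dmat a ξ⁻¹ * dmat a ζ⁻¹ := by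
      rw [dmat_mul_same, dmat_mul_same, mul_comm]
    have hgD : (g0 : Matrix (Fin n) (Fin n) F) * dmat a ξ⁻¹ =
        dmat a ξ⁻¹ * (g0 : Matrix (Fin n) (Fin n) F) := by
      rw [hg0v, Matrix.mul_assoc, hDD, ← Matrix.mul_assoc, hcomm, Matrix.mul_assoc]
    have hkey : (g0 : Matrix (Fin n) (Fin n) F) * (h0 : Matrix (Fin n) (Fin n) F) =
        refl σ (refl σ u ζ *ᵥ u') ξ * dmat a ξ⁻¹ * (g0 : Matrix (Fin n) (Fin n) F) := by
      rw [hh0v, ← Matrix.mul_assoc, refl_conj _ hgU, hgu', Matrix.mul_assoc, hgD, ← Matrix.mul_assoc]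
    refine ⟨g0 * h0 * g0⁻¹, M.mul_mem (M.mul_mem hg0 hh0) (M.inv_mem hg0), ?_⟩
    rw [Units.val_mul, Units.val_mul, hkey, Matrix.mul_assoc, ← Units.val_mul, mul_inv_cancel,
      Units.val_one, Matrix.mul_one]

theorem inU_aux (hσ2 : ∀ a, σ (σ a) = a) {M : Subgroup (GL (Fin n) F)} (hM : Over σ M) {a b : Fin n}
    (hab : a ≠ b) {u : Fin n → F} (hu : InU σ M a u) (hub : u b = 0) : InU σ M b u := by
  obtain ⟨_, huu, humem⟩ := hu
  refine ⟨hub, huu, ?_⟩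
  intro ζ hζ
  have hζ0 : ζ ≠ 0 := by
    intro h
    rw [h, zero_mul] at hζ
    exact zero_ne_one hζ
  have h1 := (humem ζ hζ).mul (memM_dg2 hM hab hζ)
  have h2 : refl σ u ζ * dmat a ζ⁻¹ * (dmat a ζ * dmat b ζ⁻¹) = refl σ u ζ * dmat b ζ⁻¹ := by
    rw [Matrix.mul_assoc, ← Matrix.mul_assoc (dmat a ζ⁻¹), dmat_mul_same, inv_mul_cancel₀ hζ0, dmat_one,
      Matrix.one_mul]
  rw [h2] at h1
  exact h1

theorem inU_smul (hσ2 : ∀ a, σ (σ a) = a) {M : Subgroup (GL (Fin n) F)} {a : Fin n} {u : Fin n → F}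
    (hu : InU σ M a u) {c : F} (hc : c ≠ 0) : InU σ M a (c • u) := by
  obtain ⟨hua, huu, humem⟩ := hu
  refine ⟨?_, ?_, ?_⟩
  · rw [Pi.smul_apply, hua, smul_zero]
  · rw [hf_smul_left, hf_smul_right]
    exact mul_ne_zero hc (mul_ne_zero ((map_ne_zero σ).mpr hc) huu)
  · intro ζ hζ
    rw [refl_smul hσ2 hc]
    exact humem ζ hζ

end Cfsg.Agent.Lib.Helper70.UMon
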