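/-
helper70, project UMON (S5655). MODULE UMON-[CNT].
PROVED (helper70: mu_inv, exists_mu_*; helper95: the card_* lemmas, norm_surj, trace_surj', characteristic facts).
Sheet: Cfsg/Agent/Lib/Helper70/UMon/UMON_SHEET.md

Field facts.  `hC : FCtx σ q` says `|F| = q²`, `σ x = x^q` (Defs: `FCtx.invol`, `FCtx.ne_id`, `FCtx.two_le`).
`μ = {ζ | ζ σ ζ = 1}` is the kernel of the norm `Fˣ → F₀ˣ`, cyclic of order `q+1`; the fixed field `F₀` has `q`
elements, so has `ker(Tr) = {x | x + σ x = 0}` (kernel of the surjective additive map `Tr : F → F₀`).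
Useful landed lemmas: `Cfsg.Agent.Lib.Helper5` (`Cfsg/Agent/Lib/Helper5/UnitaryField.lean`: `card_ker_pow_q_add_one`,
`card_norm_eq`, `exists_norm_eq`, ...), `Cfsg.Agent.Lib.Helper36.exists_mul_map_eq` (norm surjective),
`Cfsg.Agent.S0781.trace_surj`, `Cfsg.Agent.Lib.Helper36.hilbert90_invol`.
* `exists_mu_ord`: a generator `g` of the cyclic group `Fˣ` (order `q²-1`); `ζ = g^(q-1)` has order `q+1 ≥ 5`.
* `exists_mu_sq_ne`: `|μ| = q+1 ≥ 3` but `ζ² = 1` has at most 2 solutions.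
* `exists_mu_trace_ne`: `μ \ {1}` has `q ≥ 3` elements, and `ζ + σ ζ = τ`, `ζ σ ζ = 1` force `ζ² - τ ζ + 1 = 0`
  (at most two solutions).
* `four_le_of_two_eq_zero`: `q = 3` gives `|F| = 9`, characteristic 3.
-/
import Mathlib
import Cfsg.Agent.Lib.Helper70.UMon.Defs
import Cfsg.Agent.Lib.Helper5.UnitaryField
import Cfsg.Agent.Lib.Helper5.UnitarySU2b

set_option autoImplicit false

namespace Cfsg.Agent.Lib.Helper70.UMon

open Matrix Module Cfsg.Agent.S0837 Cfsg.Agent.S0781 Cfsg.Agent.S2644 Cfsg.Agent.Lib.Helper37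
open Cfsg.Agent.Lib.Helper13 (UX)
open Cfsg.Agent.Lib.Helper94.Mono (monGL mem_monGL slGL mem_slGL colMono diagUnit dg dg2)
open Cfsg.Agent.Lib.Helper94.SUSub (MemM)

variable {F : Type*} [Field F] [Fintype F] {σ : F →+* F} {q : ℕ}

theorem mu_inv {ζ : F} (hζ : ζ * σ ζ = 1) : σ ζ = ζ⁻¹ := by
  have h0 : ζ ≠ 0 := by
    rintro rfl
    simp at hζ
  field_simp
  rw [mul_comm]; exact hζ

/-- a generator of the norm-one group -/
theorem exists_mu_gen (hC : FCtx σ q) :
    ∃ ζ : Fˣ, (ζ : F) * σ (ζ : F) = 1 ∧ orderOf ζ = q + 1 := by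
  classical
  set K : Subgroup Fˣ := (powMonoidHom (q + 1) : Fˣ →* Fˣ).ker with hK
  have hcard : Nat.card K = q + 1 := Cfsg.Agent.Lib.Helper5.card_ker_pow_q_add_one hC.card
  haveI : IsCyclic K := inferInstance
  obtain ⟨g, hg⟩ := IsCyclic.exists_generator (α := K)
  have hord : orderOf g = q + 1 := by
    rw [orderOf_eq_card_of_forall_mem_zpowers hg, hcard]
  refine ⟨(g : Fˣ), ?_, ?_⟩
  · have hmem : (g : Fˣ) ∈ (powMonoidHom (q + 1) : Fˣ →* Fˣ).ker := g.2
    rw [MonoidHom.mem_ker, powMonoidHom_apply] at hmem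
    have h1 : ((g : Fˣ) : F) ^ (q + 1) = 1 := by
      have := congrArg (fun u : Fˣ => (u : F)) hmem
      simpa using this
    rw [hC.frob, ← pow_succ']
    exact h1
  · rw [← hord]
    exact (Subgroup.orderOf_coe g)

theorem exists_mu_ord (hC : FCtx σ q) (hq : 4 ≤ q) :
    ∃ ζ : Fˣ, (ζ : F) * σ (ζ : F) = 1 ∧ (ζ : F) ^ 3 ≠ 1 ∧ (ζ : F) ^ 4 ≠ 1 := by
  obtain ⟨ζ, h1, hord⟩ := exists_mu_gen hC
  refine ⟨ζ, h1, ?_, ?_⟩
  · intro h
    have h' : ζ ^ 3 = 1 := by
      apply Units.ext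
      simpa using h
    have := orderOf_dvd_of_pow_eq_one h'
    rw [hord] at this
    have := Nat.le_of_dvd (by norm_num) this
    omega
  · intro h
    have h' : ζ ^ 4 = 1 := by
      apply Units.ext
      simpa using h
    have := orderOf_dvd_of_pow_eq_one h'
    rw [hord] at this
    have := Nat.le_of_dvd (by norm_num) this
    omega

theorem exists_mu_sq_ne (hC : FCtx σ q) :
    ∃ ζ : Fˣ, (ζ : F) * σ (ζ : F) = 1 ∧ (ζ : F) ^ 2 ≠ 1 := by
  obtain ⟨ζ, h1, hord⟩ := exists_mu_gen hC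
  have h2q := hC.two_le
  refine ⟨ζ, h1, ?_⟩
  intro h
  have h' : ζ ^ 2 = 1 := by
    apply Units.ext
    simpa using h
  have := orderOf_dvd_of_pow_eq_one h'
  rw [hord] at this
  have := Nat.le_of_dvd (by norm_num) this
  omega

theorem exists_mu_trace_ne (hC : FCtx σ q) (hq : 3 ≤ q) (τ : F) :
    ∃ ζ : Fˣ, (ζ : F) * σ (ζ : F) = 1 ∧ (ζ : F) ≠ 1 ∧ (ζ : F) + σ (ζ : F) ≠ τ := by
  obtain ⟨g, h1, hord⟩ := exists_mu_gen hC
  -- powers of g are in μ
  have hpow : ∀ k : ℕ, ((g ^ k : Fˣ) : F) * σ ((g ^ k : Fˣ) : F) = 1 := by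
    intro k
    rw [Units.val_pow_eq_pow_val, map_pow, ← mul_pow, h1, one_pow]
  have hne : ∀ k : ℕ, 0 < k → k < q + 1 → ((g ^ k : Fˣ) : F) ≠ 1 := by
    intro k hk0 hk h
    have h' : g ^ k = 1 := Units.ext (by simpa using h)
    have := orderOf_dvd_of_pow_eq_one h'
    rw [hord] at this
    have := Nat.le_of_dvd hk0 this
    omega
  have hinj : ∀ k l : ℕ, k < l → l < q + 1 → ((g ^ k : Fˣ) : F) ≠ ((g ^ l : Fˣ) : F) := by
    intro k l hkl hl h
    have h' : g ^ k = g ^ l := Units.ext h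
    have := pow_injOn_Iio_orderOf (x := g) (by rw [Set.mem_Iio, hord]; omega)
      (by rw [Set.mem_Iio, hord]; omega) h'
    omega
  -- root relation
  have hroot : ∀ ζ : F, ζ * σ ζ = 1 → ζ + σ ζ = τ → ζ ^ 2 - τ * ζ + 1 = 0 := by
    intro ζ hζ ht
    rw [← ht]
    linear_combination (-1 : F) * hζ
  by_contra hcon
  push Not at hcon
  have t1 := hcon (g ^ 1) (hpow 1) (hne 1 (by norm_num) (by omega))
  have t2 := hcon (g ^ 2) (hpow 2) (hne 2 (by norm_num) (by omega))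
  have t3 := hcon (g ^ 3) (hpow 3) (hne 3 (by norm_num) (by omega))
  have r1 := hroot _ (hpow 1) t1
  have r2 := hroot _ (hpow 2) t2
  have r3 := hroot _ (hpow 3) t3
  set a := ((g ^ 1 : Fˣ) : F)
  set b := ((g ^ 2 : Fˣ) : F)
  set c := ((g ^ 3 : Fˣ) : F)
  have hab : a ≠ b := hinj 1 2 (by norm_num) (by omega)
  have hac : a ≠ c := hinj 1 3 (by norm_num) (by omega)
  have hbc : b ≠ c := hinj 2 3 (by norm_num) (by omega)
  have e1 : (a - b) * (a + b - τ) = 0 := by linear_combination r1 - r2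
  have e2 : (a - c) * (a + c - τ) = 0 := by linear_combination r1 - r3
  have s1 : a + b - τ = 0 := (mul_eq_zero.mp e1).resolve_left (sub_ne_zero.mpr hab)
  have s2 : a + c - τ = 0 := (mul_eq_zero.mp e2).resolve_left (sub_ne_zero.mpr hac)
  apply hbc
  linear_combination s1 - s2

theorem card_mu (hC : FCtx σ q) : Nat.card {ζ : F // ζ * σ ζ = 1} = q + 1 := by
  have h := Cfsg.Agent.Lib.Helper5.card_norm_eq hC.card (d := (1 : F)) (one_pow q)
  rw [if_neg one_ne_zero] at h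
  rw [← h]
  exact Nat.card_congr (Equiv.subtypeEquivRight fun x => by rw [hC.frob])

theorem card_fixed (hC : FCtx σ q) : Nat.card {x : F // σ x = x} = q := by
  rw [← Cfsg.Agent.Lib.Helper5.card_fixed hC.card]
  exact Nat.card_congr (Equiv.subtypeEquivRight fun x => by rw [hC.frob])

theorem card_norm_fiber (hC : FCtx σ q) {d : F} (hd : σ d = d) (hd0 : d ≠ 0) :
    Nat.card {x : F // x * σ x = d} = q + 1 := by
  have h := Cfsg.Agent.Lib.Helper5.card_norm_eq hC.card (d := d) (by rw [← hC.frob, hd])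
  rw [if_neg hd0] at h
  rw [← h]
  exact Nat.card_congr (Equiv.subtypeEquivRight fun x => by rw [hC.frob])

theorem norm_surj (hC : FCtx σ q) {a : F} (ha : σ a = a) : ∃ c : F, c * σ c = a := by
  obtain ⟨x, hx⟩ := Cfsg.Agent.Lib.Helper5.exists_norm_eq hC.card (d := a) (by rw [← hC.frob, ha])
  exact ⟨x, by rw [hC.frob, hx]⟩

theorem trace_surj' (hC : FCtx σ q) {a : F} (ha : σ a = a) : ∃ c : F, c + σ c = a :=
  Cfsg.Agent.S0781.trace_surj σ hC.ne_id hC.invol a ha

theorem card_trace_zero (hC : FCtx σ q) : Nat.card {x : F // x + σ x = 0} = q := by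
  obtain ⟨s, hs⟩ : ∃ s : F, σ s ≠ s := by
    by_contra hcon
    push Not at hcon
    exact hC.ne_id (RingHom.ext hcon)
  set t : F := s - σ s with ht
  have ht0 : t ≠ 0 := fun h => hs (sub_eq_zero.mp h).symm
  have hσt : σ t = -t := by rw [ht, map_sub, hC.invol]; ring
  rw [← card_fixed hC]
  apply Nat.card_congr
  exact
    { toFun := fun x => ⟨t⁻¹ * x.1, by
        have hx : σ x.1 = -x.1 := eq_neg_of_add_eq_zero_right x.2
        rw [map_mul, map_inv₀, hσt, hx, inv_neg, neg_mul_neg]⟩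
      invFun := fun y => ⟨t * y.1, by
        rw [map_mul, hσt, y.2]; ring⟩
      left_inv := fun x => Subtype.ext (by simp [ht0])
      right_inv := fun y => Subtype.ext (by simp [ht0]) }

theorem q_cast_eq_zero (hC : FCtx σ q) : (q : F) = 0 := by
  have h : ((Fintype.card F : ℕ) : F) = 0 := Nat.cast_card_eq_zero F
  rw [hC.card, Nat.cast_pow] at h
  exact pow_eq_zero_iff (two_ne_zero) |>.mp h

theorem two_ne_zero_of_three (hC : FCtx σ 3) : (2 : F) ≠ 0 := by
  intro h2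
  have h3 : ((3 : ℕ) : F) = 0 := q_cast_eq_zero hC
  have : (1 : F) = 0 := by
    have : (1 : F) = ((3 : ℕ) : F) - 2 := by push_cast; ring
    rw [this, h3, h2, sub_zero]
  exact one_ne_zero this

theorem four_le_of_two_eq_zero (hC : FCtx σ q) (h2 : (2 : F) = 0) (hq : 3 ≤ q) : 4 ≤ q := by
  by_contra hlt
  have : q = 3 := by omega
  subst this
  exact two_ne_zero_of_three hC h2

end Cfsg.Agent.Lib.Helper70.UMon
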