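/-
helper70, project UMON (S5655). MODULE UMON-[LIFT-A].
PLACEHOLDER: exact statement(s) + paper proof; the prover replaces every `sorry` (keep names and statements).
Sheet: Cfsg/Agent/Lib/Helper70/UMon/UMON_SHEET.md

Lifting plane counting to `GL_n`, part A.  `u, u'` non-isotropic with `u a = u' a = 0`.  Every element of the subgroup
generated by the corrected reflections `refl σ u ζ * dmat a ζ⁻¹`, `refl σ u' ζ * dmat a ζ⁻¹` (`ζ σ ζ = 1`) satisfies
`PlaneAct σ a u u'` (Defs): unitary, maps `span{u,u'}` into itself, multiplies `e_a` by a scalar of norm one, fixes every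
`y` with `(y,u) = (y,u') = 0`, `y a = 0`.

Proof.  `Subgroup.closure_induction`.  Generators: `dmat a ζ⁻¹` fixes every `x` with `x a = 0` (`dmat_mulVec`), is unitary
(`ζ⁻¹ σ(ζ⁻¹) = 1`), `refl` is unitary (`refl_unitary`), `refl σ u ζ *ᵥ x = x + c • u` (`refl_mulVec`), and
`refl σ u ζ` fixes `e_a` as `(e_a, u) = σ (u a) = 0`.  Products: clear.  Inverses: `g⁻¹` is unitary; `g` restricted to the
finite-dimensional `span{u,u'}` is injective hence surjective onto it, so `g⁻¹` preserves it; `g⁻¹ e_a = c⁻¹ e_a`,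
`c⁻¹ σ(c⁻¹) = 1`; `g y = y → g⁻¹ y = y`.
-/
import Mathlib
import Cfsg.Agent.Lib.Helper70.UMon.Defs
import Cfsg.Agent.Lib.Helper70.UMon.Refl
import Cfsg.Agent.Lib.Helper70.UMon.MonoApi

set_option autoImplicit false

namespace Cfsg.Agent.Lib.Helper70.UMon

open Matrix Module Cfsg.Agent.S0837 Cfsg.Agent.S0781 Cfsg.Agent.S2644 Cfsg.Agent.Lib.Helper37
open Cfsg.Agent.Lib.Helper13 (UX)
open Cfsg.Agent.Lib.Helper94.Mono (monGL mem_monGL slGL mem_slGL colMono diagUnit dg dg2)
open Cfsg.Agent.Lib.Helper94.SUSub (MemM)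

variable {F : Type*} [Field F] {σ : F →+* F} {n : ℕ}

/-- `PlaneAct` for the identity matrix. -/
theorem planeAct_one (a : Fin n) (u u' : Fin n → F) :
    PlaneAct σ a u u' (1 : Matrix (Fin n) (Fin n) F) := by
  refine ⟨fun x y => by rw [one_mulVec, one_mulVec], fun x hx => by rw [one_mulVec]; exact hx,
    ⟨1, by rw [map_one, mul_one], by rw [one_mulVec, one_smul]⟩, fun y _ _ _ => one_mulVec y⟩

/-- `PlaneAct` is closed under products. -/
theorem planeAct_mul {a : Fin n} {u u' : Fin n → F} {A B : Matrix (Fin n) (Fin n) F}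
    (hA : PlaneAct σ a u u' A) (hB : PlaneAct σ a u u' B) : PlaneAct σ a u u' (A * B) := by
  obtain ⟨hA1, hA2, ⟨c, hc, hAc⟩, hA4⟩ := hA
  obtain ⟨hB1, hB2, ⟨d, hd, hBd⟩, hB4⟩ := hB
  refine ⟨?_, ?_, ⟨c * d, ?_, ?_⟩, ?_⟩
  · intro x y
    rw [← mulVec_mulVec, ← mulVec_mulVec, hA1, hB1]
  · intro x hx
    rw [← mulVec_mulVec]
    exact hA2 _ (hB2 x hx)
  · rw [map_mul]
    calc c * d * (σ c * σ d) = (c * σ c) * (d * σ d) := by ring
      _ = 1 := by rw [hc, hd, mul_one]
  · rw [← mulVec_mulVec, hBd, mulVec_smul, hAc, smul_smul, mul_comm]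
  · intro y h1 h2 h3
    rw [← mulVec_mulVec, hB4 y h1 h2 h3, hA4 y h1 h2 h3]

/-- `PlaneAct` is closed under inverses. -/
theorem planeAct_inv {a : Fin n} {u u' : Fin n → F} {A A' : Matrix (Fin n) (Fin n) F}
    (hAA' : A * A' = 1) (hA'A : A' * A = 1)
    (hA : PlaneAct σ a u u' A) : PlaneAct σ a u u' A' := by
  obtain ⟨hA1, hA2, ⟨c, hc, hAc⟩, hA4⟩ := hA
  have hback : ∀ x, A *ᵥ (A' *ᵥ x) = x := fun x => by rw [mulVec_mulVec, hAA', one_mulVec]
  have hfront : ∀ x, A' *ᵥ (A *ᵥ x) = x := fun x => by rw [mulVec_mulVec, hA'A, one_mulVec]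
  refine ⟨?_, ?_, ⟨c⁻¹, ?_, ?_⟩, ?_⟩
  · intro x y
    rw [← hA1 (A' *ᵥ x) (A' *ᵥ y), hback, hback]
  · -- the restriction of `A` to the plane is injective, hence surjective
    set W : Submodule F (Fin n → F) := Submodule.span F ({u, u'} : Set (Fin n → F)) with hW
    have hmaps : ∀ x ∈ W, Matrix.mulVecLin A x ∈ W := fun x hx => by
      rw [Matrix.mulVecLin_apply]; exact hA2 x hx
    let f : W →ₗ[F] W := (Matrix.mulVecLin A).restrict hmaps
    have hfinj : Function.Injective f := by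
      intro x y hxy
      have h1 : A *ᵥ (x : Fin n → F) = A *ᵥ (y : Fin n → F) := by
        have := congrArg (fun z : W => (z : Fin n → F)) hxy
        simpa [f, LinearMap.restrict_apply] using this
      apply Subtype.ext
      rw [← hfront (x : Fin n → F), h1, hfront]
    have hfsurj : Function.Surjective f := LinearMap.injective_iff_surjective.mp hfinj
    intro x hx
    obtain ⟨w, hw⟩ := hfsurj ⟨x, hx⟩
    have h1 : A *ᵥ (w : Fin n → F) = x := by
      have := congrArg (fun z : W => (z : Fin n → F)) hw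
      simpa [f, LinearMap.restrict_apply] using this
    rw [← h1, hfront]
    exact w.2
  · have hc0 : c ≠ 0 := by
      intro h0; rw [h0, zero_mul] at hc; exact zero_ne_one hc
    rw [map_inv₀, ← mul_inv, hc, inv_one]
  · have hc0 : c ≠ 0 := by
      intro h0; rw [h0, zero_mul] at hc; exact zero_ne_one hc
    have h1 : A' *ᵥ (c • Pi.single a (1 : F)) = Pi.single a 1 := by rw [← hAc, hfront]
    rw [mulVec_smul] at h1
    calc A' *ᵥ Pi.single a (1 : F) = c⁻¹ • (c • A' *ᵥ Pi.single a (1 : F)) := by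
          rw [smul_smul, inv_mul_cancel₀ hc0, one_smul]
      _ = c⁻¹ • Pi.single a 1 := by rw [h1]
  · intro y h1 h2 h3
    have := hA4 y h1 h2 h3
    calc A' *ᵥ y = A' *ᵥ (A *ᵥ y) := by rw [this]
      _ = y := hfront y

/-- `dmat a c` fixes every vector with vanishing `a`-coordinate. -/
theorem dmat_mulVec_of_apply_eq_zero (a : Fin n) (c : F) {x : Fin n → F} (hx : x a = 0) :
    dmat a c *ᵥ x = x := by
  rw [dmat_mulVec, hx, mul_zero, ← hx, Function.update_eq_self]

/-- `dmat a c` is unitary when `c σ(c) = 1`. -/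
theorem dmat_unitary (a : Fin n) {c : F} (hc : c * σ c = 1) (x y : Fin n → F) :
    hf σ (dmat a c *ᵥ x) (dmat a c *ᵥ y) = hf σ x y := by
  rw [dmat_mulVec, dmat_mulVec]
  unfold hf
  apply Finset.sum_congr rfl
  intro i _
  by_cases h : i = a
  · subst h
    rw [Function.update_self, Function.update_self, map_mul]
    calc c * x i * (σ c * σ (y i)) = (c * σ c) * (x i * σ (y i)) := by ring
      _ = x i * σ (y i) := by rw [hc, one_mul]
  · rw [Function.update_of_ne h, Function.update_of_ne h]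

/-- a corrected reflection `refl σ v ζ * dmat a ζ⁻¹` with `v ∈ {u, u'}` satisfies `PlaneAct`. -/
theorem planeAct_gen (hσ2 : ∀ a, σ (σ a) = a) {a : Fin n} {u u' v : Fin n → F}
    (hua : u a = 0) (hu'a : u' a = 0) (hva : v a = 0) (hv : hf σ v v ≠ 0)
    (hvmem : v ∈ Submodule.span F ({u, u'} : Set (Fin n → F)))
    (hvorth : ∀ y, hf σ y u = 0 → hf σ y u' = 0 → hf σ y v = 0)
    {ζ : F} (hζ : ζ * σ ζ = 1) :
    PlaneAct σ a u u' (refl σ v ζ * dmat a ζ⁻¹) := by
  have hζ0 : ζ ≠ 0 := by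
    intro h0; rw [h0, zero_mul] at hζ; exact zero_ne_one hζ
  have hζi : ζ⁻¹ * σ ζ⁻¹ = 1 := by rw [map_inv₀, ← mul_inv, hζ, inv_one]
  have hspan0 : ∀ x ∈ Submodule.span F ({u, u'} : Set (Fin n → F)), x a = 0 := by
    intro x hx
    induction hx using Submodule.span_induction with
    | mem x hx =>
      rcases hx with rfl | hx
      · exact hua
      · rw [Set.mem_singleton_iff] at hx; rw [hx]; exact hu'a
    | zero => rfl
    | add x y _ _ hx hy => rw [Pi.add_apply, hx, hy, add_zero]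
    | smul c x _ hx => rw [Pi.smul_apply, hx, smul_zero]
  refine ⟨?_, ?_, ⟨ζ⁻¹, hζi, ?_⟩, ?_⟩
  · intro x y
    rw [← mulVec_mulVec, ← mulVec_mulVec, refl_unitary hσ2 hv hζ, dmat_unitary a hζi]
  · intro x hx
    rw [← mulVec_mulVec, dmat_mulVec_of_apply_eq_zero a _ (hspan0 x hx), refl_mulVec]
    exact Submodule.add_mem _ hx (Submodule.smul_mem _ _ hvmem)
  · rw [← mulVec_mulVec, dmat_mulVec]
    have h1 : Function.update (Pi.single a (1 : F)) a (ζ⁻¹ * (Pi.single a (1 : F) : Fin n → F) a) =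
        ζ⁻¹ • Pi.single a (1 : F) := by
      ext i
      by_cases h : i = a
      · subst h; simp
      · simp [Function.update_of_ne h, Pi.single_eq_of_ne h]
    rw [h1, mulVec_smul, refl_mulVec]
    have h2 : hf σ (Pi.single a (1 : F)) v = 0 := by
      unfold hf
      rw [Finset.sum_eq_single a]
      · rw [hva, map_zero, mul_zero]
      · intro j _ hj; rw [Pi.single_eq_of_ne hj, zero_mul]
      · intro h; exact absurd (Finset.mem_univ a) h
    rw [h2, mul_zero, zero_smul, add_zero]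
  · intro y h1 h2 h3
    rw [← mulVec_mulVec, dmat_mulVec_of_apply_eq_zero a _ h3, refl_mulVec, hvorth y h1 h2,
      mul_zero, zero_smul, add_zero]

theorem planeAct_closure (hσ2 : ∀ a, σ (σ a) = a) {a : Fin n} {u u' : Fin n → F}
    (hua : u a = 0) (hu'a : u' a = 0) (hu : hf σ u u ≠ 0) (hu' : hf σ u' u' ≠ 0) :
    ∀ g ∈ Subgroup.closure {g : GL (Fin n) F | ∃ ζ : F, ζ * σ ζ = 1 ∧
        ((g : Matrix (Fin n) (Fin n) F) = refl σ u ζ * dmat a ζ⁻¹ ∨
          (g : Matrix (Fin n) (Fin n) F) = refl σ u' ζ * dmat a ζ⁻¹)},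
      PlaneAct σ a u u' (g : Matrix (Fin n) (Fin n) F) := by
  intro g hg
  induction hg using Subgroup.closure_induction with
  | mem x hx =>
    obtain ⟨ζ, hζ, h | h⟩ := hx
    · rw [h]
      exact planeAct_gen hσ2 hua hu'a hua hu
        (Submodule.subset_span (Set.mem_insert _ _)) (fun y h1 _ => h1) hζ
    · rw [h]
      exact planeAct_gen hσ2 hua hu'a hu'a hu'
        (Submodule.subset_span (Set.mem_insert_of_mem _ (Set.mem_singleton _)))
        (fun y _ h2 => h2) hζ
  | one => exact planeAct_one a u u'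
  | mul x y _ _ ihx ihy =>
    rw [Units.val_mul]
    exact planeAct_mul ihx ihy
  | inv x _ ih =>
    exact planeAct_inv (Units.mul_inv x) (Units.inv_mul x) ih

end Cfsg.Agent.Lib.Helper70.UMon
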