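/-
helper70, project UMON (S5655). MODULE UMON-[LIFT-B].  (proved by helper58)
Sheet: Cfsg/Agent/Lib/Helper70/UMon/UMON_SHEET.md

Lifting plane counting to `GL_n`, part B: the restriction homomorphism.  `(ω, ω')` a hyperbolic pair
(`HP σ ω ω'` of helper37: `(ω,ω) = (ω',ω') = 0`, `(ω',ω) = 1`, hence `(ω,ω') = 1`), `emb ω ω' x = x 0 • ω + x 1 • ω'`
(Defs).  Then `hf σ (emb ω ω' x) (emb ω ω' y) = h2 σ x y`, `emb ω ω'` is injective, and for a subgroup `L₀` of unitary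
matrices mapping the plane `range (emb ω ω')` into itself there is a homomorphism `ρ : L₀ →* GL₂(F)` with
`g (emb x) = emb (ρ g x)`, whose values preserve `h2 σ`.

Proof.  Coordinates: for `p = emb ω ω' x`: `x 0 = hf σ p ω'`, `x 1 = hf σ p ω`.  Define
`ρ g = !![hf (gω) ω', hf (gω') ω'; hf (gω) ω, hf (gω') ω]`; multiplicativity and `ρ 1 = 1` follow from the injectivity
of `emb` and `g (emb x) = emb (ρ g x)`; this makes `ρ g` invertible (inverse `ρ g⁻¹`).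
Unitarity of `ρ g` for `h2` follows from `hf (emb x) (emb y) = h2 x y`.
-/
import Mathlib
import Cfsg.Agent.Lib.Helper70.UMon.Defs

set_option autoImplicit false

namespace Cfsg.Agent.Lib.Helper70.UMon

open Matrix Module Cfsg.Agent.S0837 Cfsg.Agent.S0781 Cfsg.Agent.S2644 Cfsg.Agent.Lib.Helper37
open Cfsg.Agent.Lib.Helper13 (UX)
open Cfsg.Agent.Lib.Helper94.Mono (monGL mem_monGL slGL mem_slGL colMono diagUnit dg dg2)
open Cfsg.Agent.Lib.Helper94.SUSub (MemM)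

variable {F : Type*} [Field F] {σ : F →+* F} {n : ℕ}

theorem hf_emb (hσ2 : ∀ a, σ (σ a) = a) {ω ω' : Fin n → F} (hHP : HP σ ω ω') (x y : Fin 2 → F) :
    hf σ (emb ω ω' x) (emb ω ω' y) = h2 σ x y := by
  unfold emb h2
  simp only [hf_add_left, hf_add_right, hf_smul_left, hf_smul_right, hHP.uu, hHP.vv, hHP.vu,
    hHP.uv hσ2]
  ring

/-- first coordinate of `emb` -/
theorem liftB_coord0 (hσ2 : ∀ a, σ (σ a) = a) {ω ω' : Fin n → F} (hHP : HP σ ω ω') (x : Fin 2 → F) :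
    hf σ (emb ω ω' x) ω' = x 0 := by
  unfold emb
  simp only [hf_add_left, hf_smul_left, hHP.vv, hHP.uv hσ2]
  ring

/-- second coordinate of `emb` -/
theorem liftB_coord1 {ω ω' : Fin n → F} (hHP : HP σ ω ω') (x : Fin 2 → F) :
    hf σ (emb ω ω' x) ω = x 1 := by
  unfold emb
  simp only [hf_add_left, hf_smul_left, hHP.uu, hHP.vu]
  ring

theorem emb_injective (hσ2 : ∀ a, σ (σ a) = a) {ω ω' : Fin n → F} (hHP : HP σ ω ω') :
    Function.Injective (emb ω ω') := by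
  intro x y hxy
  have h0 : x 0 = y 0 := by rw [← liftB_coord0 hσ2 hHP x, ← liftB_coord0 hσ2 hHP y, hxy]
  have h1 : x 1 = y 1 := by rw [← liftB_coord1 hHP x, ← liftB_coord1 hHP y, hxy]
  ext i
  fin_cases i
  · exact h0
  · exact h1

/-- the matrix of `g` on the plane `range (emb ω ω')` in the coordinates of `emb` -/
def liftB_rhoMat (σ : F →+* F) (ω ω' : Fin n → F) (g : Matrix (Fin n) (Fin n) F) : Matrix (Fin 2) (Fin 2) F :=
  !![hf σ (g *ᵥ ω) ω', hf σ (g *ᵥ ω') ω'; hf σ (g *ᵥ ω) ω, hf σ (g *ᵥ ω') ω]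

theorem liftB_mulVec_emb (g : Matrix (Fin n) (Fin n) F) (ω ω' : Fin n → F) (x : Fin 2 → F) :
    g *ᵥ emb ω ω' x = x 0 • (g *ᵥ ω) + x 1 • (g *ᵥ ω') := by
  unfold emb
  rw [mulVec_add, mulVec_smul, mulVec_smul]

theorem liftB_mulVec_emb_eq (hσ2 : ∀ a, σ (σ a) = a) {ω ω' : Fin n → F} (hHP : HP σ ω ω')
    (g : Matrix (Fin n) (Fin n) F)
    (hg : ∀ x : Fin 2 → F, ∃ y : Fin 2 → F, g *ᵥ emb ω ω' x = emb ω ω' y) (x : Fin 2 → F) :
    g *ᵥ emb ω ω' x = emb ω ω' (liftB_rhoMat σ ω ω' g *ᵥ x) := by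
  obtain ⟨y, hy⟩ := hg x
  rw [hy]
  congr 1
  have h0 : y 0 = x 0 * hf σ (g *ᵥ ω) ω' + x 1 * hf σ (g *ᵥ ω') ω' := by
    rw [← liftB_coord0 hσ2 hHP y, ← hy, liftB_mulVec_emb, hf_add_left, hf_smul_left, hf_smul_left]
  have h1 : y 1 = x 0 * hf σ (g *ᵥ ω) ω + x 1 * hf σ (g *ᵥ ω') ω := by
    rw [← liftB_coord1 hHP y, ← hy, liftB_mulVec_emb, hf_add_left, hf_smul_left, hf_smul_left]
  ext i
  fin_cases i
  · simp only [liftB_rhoMat, Fin.zero_eta, Fin.isValue, mulVec, dotProduct, Fin.sum_univ_two, of_apply,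
      cons_val', cons_val_zero, cons_val_fin_one, cons_val_one]
    rw [h0]; ring
  · simp only [liftB_rhoMat, Fin.mk_one, Fin.isValue, mulVec, dotProduct, Fin.sum_univ_two, of_apply,
      cons_val', cons_val_zero, cons_val_fin_one, cons_val_one]
    rw [h1]; ring

theorem exists_rho (hσ2 : ∀ a, σ (σ a) = a) {L₀ : Subgroup (GL (Fin n) F)} {ω ω' : Fin n → F}
    (hHP : HP σ ω ω')
    (hL : ∀ g ∈ L₀, (∀ x y, hf σ ((g : Matrix (Fin n) (Fin n) F) *ᵥ x) ((g : Matrix (Fin n) (Fin n) F) *ᵥ y) = hf σ x y) ∧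
      ∀ x : Fin 2 → F, ∃ y : Fin 2 → F, (g : Matrix (Fin n) (Fin n) F) *ᵥ emb ω ω' x = emb ω ω' y) :
    ∃ ρ : L₀ →* GL (Fin 2) F,
      (∀ (g : L₀) (x : Fin 2 → F), ((g : GL (Fin n) F) : Matrix (Fin n) (Fin n) F) *ᵥ emb ω ω' x =
        emb ω ω' (((ρ g : GL (Fin 2) F) : Matrix (Fin 2) (Fin 2) F) *ᵥ x)) ∧
      ∀ (g : L₀) (x y : Fin 2 → F), h2 σ (((ρ g : GL (Fin 2) F) : Matrix (Fin 2) (Fin 2) F) *ᵥ x)
        (((ρ g : GL (Fin 2) F) : Matrix (Fin 2) (Fin 2) F) *ᵥ y) = h2 σ x y := by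
  have hkey : ∀ (g : L₀) (x : Fin 2 → F),
      ((g : GL (Fin n) F) : Matrix (Fin n) (Fin n) F) *ᵥ emb ω ω' x =
        emb ω ω' (liftB_rhoMat σ ω ω' ((g : GL (Fin n) F) : Matrix (Fin n) (Fin n) F) *ᵥ x) :=
    fun g x => liftB_mulVec_emb_eq hσ2 hHP _ (hL g g.2).2 x
  -- the monoid homomorphism into matrices
  let ρ₀ : L₀ →* Matrix (Fin 2) (Fin 2) F :=
    { toFun := fun g => liftB_rhoMat σ ω ω' ((g : GL (Fin n) F) : Matrix (Fin n) (Fin n) F)
      map_one' := by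
        apply Matrix.mulVec_injective
        funext x
        apply emb_injective hσ2 hHP
        rw [← hkey 1 x]
        simp
      map_mul' := by
        intro g h
        apply Matrix.mulVec_injective
        funext x
        apply emb_injective hσ2 hHP
        rw [← hkey (g * h) x, ← mulVec_mulVec, ← hkey g, ← hkey h, mulVec_mulVec]
        simp }
  refine ⟨ρ₀.toHomUnits, ?_, ?_⟩
  · intro g x
    exact hkey g x
  · intro g x y
    have h1 : ((ρ₀.toHomUnits g : GL (Fin 2) F) : Matrix (Fin 2) (Fin 2) F) =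
        liftB_rhoMat σ ω ω' ((g : GL (Fin n) F) : Matrix (Fin n) (Fin n) F) := rfl
    rw [h1, ← hf_emb hσ2 hHP, ← hkey g x, ← hkey g y, (hL g g.2).1, hf_emb hσ2 hHP]

end Cfsg.Agent.Lib.Helper70.UMon
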