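/-
helper70, project UMON (S5655). MODULE UMON-[PC2-ARITH].   (proved by helper86)
Sheet: Cfsg/Agent/Lib/Helper70/UMon/UMON_SHEET.md

PLANE COUNTING, part 3 (pure arithmetic in the field).  `A ≤ (F,+)` inside `ker Tr = {β | β + σ β = 0}` (which has
`q` elements: `card_trace_zero`), `Γ ≤ Fˣ` inside the fixed field (`q - 1` non-zero elements: `card_fixed`), `Γ A ⊆ A`,
and `q + 1 ≤ |Γ| |A|`.  Claim: `A = ker Tr`.

Proof.  Let `p = char F`, `q = p^f` (`|F| = q²` is a prime power).  `|A| = p^m` (a subgroup of the `p`-group `(F,+)`),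
`m ≤ f` as `A ⊆ ker Tr`.  Let `e = |Γ|`.  `Γ` acts freely by multiplication on `A \ {0}` (and on `ker Tr \ {0}`), so
`e ∣ p^m - 1` and `e ∣ p^f - 1`, hence `e ∣ gcd(p^m - 1, p^f - 1) = p^g - 1`, `g = gcd(m, f)`
(Mathlib: `Nat.pow_sub_one_gcd_pow_sub_one`).
If `m < f` then `g ∣ f - m`, so `g ≤ f - m`, and
`e ≤ p^g - 1 < p^(f-m)`, whence `e p^m < p^f = q`: contradiction.  So `m = f`, `|A| = q = |ker Tr|` and `A = ker Tr`.
-/
import Mathlib
import Cfsg.Agent.Lib.Helper70.UMon.Defs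
import Cfsg.Agent.Lib.Helper70.UMon.Field

set_option autoImplicit false

namespace Cfsg.Agent.Lib.Helper70.UMon

open Matrix Module Cfsg.Agent.S0837 Cfsg.Agent.S0781 Cfsg.Agent.S2644 Cfsg.Agent.Lib.Helper37
open Cfsg.Agent.Lib.Helper13 (UX)
open Cfsg.Agent.Lib.Helper94.Mono (monGL mem_monGL slGL mem_slGL colMono diagUnit dg dg2)
open Cfsg.Agent.Lib.Helper94.SUSub (MemM)
open scoped Pointwise

/-- the arithmetic core of `pc2_arith` -/
theorem pc2_arith_core (p f m e : ℕ) (hp : p.Prime) (hmf : m ≤ f) (h1 : e ∣ p ^ m - 1)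
    (h2 : e ∣ p ^ f - 1) (hcard : p ^ f + 1 ≤ e * p ^ m) : m = f := by
  by_contra hne
  have hlt : m < f := lt_of_le_of_ne hmf hne
  have hg : e ∣ p ^ Nat.gcd m f - 1 := by
    rw [← Nat.pow_sub_one_gcd_pow_sub_one]
    exact Nat.dvd_gcd h1 h2
  have hgpos : 0 < Nat.gcd m f := Nat.gcd_pos_of_pos_right _ (by omega)
  have hgd : Nat.gcd m f ∣ f - m := Nat.dvd_sub (Nat.gcd_dvd_right m f) (Nat.gcd_dvd_left m f)
  have hgle : Nat.gcd m f ≤ f - m := Nat.le_of_dvd (by omega) hgd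
  have h2p : 2 ≤ p := hp.two_le
  have hpg : 2 ≤ p ^ Nat.gcd m f := by
    calc 2 ≤ p := h2p
      _ = p ^ 1 := (pow_one p).symm
      _ ≤ p ^ Nat.gcd m f := Nat.pow_le_pow_right (by omega) hgpos
  have he : e ≤ p ^ Nat.gcd m f - 1 := Nat.le_of_dvd (by omega) hg
  have hpfm : p ^ Nat.gcd m f ≤ p ^ (f - m) := Nat.pow_le_pow_right (by omega) hgle
  have hpm : 0 < p ^ m := pow_pos (by omega) m
  have hlt2 : e < p ^ (f - m) := by omega
  have : e * p ^ m < p ^ (f - m) * p ^ m := Nat.mul_lt_mul_of_pos_right hlt2 hpm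
  rw [← pow_add, Nat.sub_add_cancel hmf] at this
  omega

variable {F : Type*} [Field F] [Fintype F] {σ : F →+* F} {q : ℕ}

theorem pc2_arith (hC : FCtx σ q) (A : AddSubgroup F) (hA : ∀ β ∈ A, β + σ β = 0)
    (Γ : Subgroup Fˣ) (hΓ : ∀ x ∈ Γ, σ ((x : Fˣ) : F) = ((x : Fˣ) : F))
    (hΓA : ∀ x ∈ Γ, ∀ β ∈ A, ((x : Fˣ) : F) * β ∈ A)
    (hcard : q + 1 ≤ Nat.card Γ * Nat.card A) : ∀ β : F, β + σ β = 0 → β ∈ A := by
  classical
  obtain ⟨p, hchar⟩ := CharP.exists F
  have := hchar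
  obtain ⟨k, hp, hk⟩ := FiniteField.card F p
  have hq2 := hC.two_le
  -- `q = p ^ f`
  have hqd : q ∣ p ^ (k : ℕ) := by
    rw [← hk, hC.card, sq]
    exact dvd_mul_right q q
  obtain ⟨f, -, hqf⟩ := (Nat.dvd_prime_pow hp).mp hqd
  -- `|A| = p ^ m`
  have hAd : Nat.card A ∣ p ^ (k : ℕ) := by
    rw [← hk, ← Nat.card_eq_fintype_card]
    exact AddSubgroup.card_addSubgroup_dvd_card A
  obtain ⟨m, -, hAm⟩ := (Nat.dvd_prime_pow hp).mp hAd
  -- the injection `A → ker Tr`
  let ι : A → {x : F // x + σ x = 0} := fun β => ⟨β.1, hA β.1 β.2⟩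
  have hι : Function.Injective ι := by
    intro a b hab
    apply Subtype.ext
    have h' := congrArg Subtype.val hab
    exact h'
  have hK : Nat.card {x : F // x + σ x = 0} = q := card_trace_zero hC
  have hAle : Nat.card A ≤ q := by
    rw [← hK]
    exact Nat.card_le_card_of_injective ι hι
  have hmf : m ≤ f := by
    rw [hAm, hqf] at hAle
    exact (Nat.pow_le_pow_iff_right hp.one_lt).mp hAle
  -- `e ∣ q - 1`
  have he2 : Nat.card Γ ∣ q - 1 := by
    rw [← IsCyclic.exponent_eq_card]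
    apply Monoid.exponent_dvd_of_forall_pow_eq_one
    intro x
    apply Subtype.ext
    apply Units.ext
    have hx := hΓ x.1 x.2
    rw [hC.frob] at hx
    have hx0 : ((x : Fˣ) : F) ≠ 0 := Units.ne_zero _
    have hq1 : q = (q - 1) + 1 := by omega
    rw [hq1, pow_succ] at hx
    have : ((x : Fˣ) : F) ^ (q - 1) = 1 := by
      have h' : ((x : Fˣ) : F) ^ (q - 1) * ((x : Fˣ) : F) = 1 * ((x : Fˣ) : F) := by
        rw [one_mul]; exact hx
      exact mul_right_cancel₀ hx0 h'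
    simpa using this
  -- `e ∣ |A| - 1`
  have he1 : Nat.card Γ ∣ p ^ m - 1 := by
    let t : Set Fˣ := {x | ((x : Fˣ) : F) ∈ A}
    have ht : t * (Γ : Set Fˣ) = t := by
      ext x
      constructor
      · rintro ⟨y, hy, z, hz, rfl⟩
        show ((y * z : Fˣ) : F) ∈ A
        rw [Units.val_mul, mul_comm]
        exact hΓA z hz _ hy
      · intro hx
        exact ⟨x, hx, 1, Γ.one_mem, mul_one x⟩
    have h1 := Subgroup.card_mul_eq_card_subgroup_mul_card_quotient Γ t
    rw [ht] at h1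
    have hAset : (A : Set F) = insert 0 ((fun x : Fˣ => (x : F)) '' t) := by
      ext β
      constructor
      · intro hβ
        by_cases h0 : β = 0
        · left; exact h0
        · right
          exact ⟨Units.mk0 β h0, hβ, rfl⟩
      · rintro (h0 | ⟨x, hx, rfl⟩)
        · rw [h0]; exact A.zero_mem
        · exact hx
    have h0n : (0 : F) ∉ (fun x : Fˣ => (x : F)) '' t := by
      rintro ⟨x, -, hx⟩
      exact Units.ne_zero x hx
    have h2 : Nat.card A = t.ncard + 1 := by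
      have : Nat.card A = (A : Set F).ncard := rfl
      rw [this, hAset, Set.ncard_insert_of_notMem h0n (Set.toFinite _),
        Set.ncard_image_of_injective t Units.val_injective]
    have h3 : t.ncard = Nat.card Γ * Nat.card ((t.image (↑) : Set (Fˣ ⧸ Γ))) := h1
    rw [← hAm, h2, Nat.add_sub_cancel, h3]
    exact dvd_mul_right _ _
  rw [hqf] at he2
  have hcard' : p ^ f + 1 ≤ Nat.card Γ * p ^ m := by
    rw [← hqf, ← hAm]; exact hcard
  have hmf' := pc2_arith_core p f m (Nat.card Γ) hp hmf he1 he2 hcard'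
  have hbij : Function.Bijective ι := by
    apply hι.bijective_of_nat_card_le
    rw [hK, hAm, hqf, hmf']
  intro β hβ
  obtain ⟨a, ha⟩ := hbij.2 ⟨β, hβ⟩
  have : a.1 = β := congrArg Subtype.val ha
  rw [← this]
  exact a.2

end Cfsg.Agent.Lib.Helper70.UMon
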