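/-
helper70, project UMON (S5655). MODULE UMON-[PC2-BOREL].
PROVED by helper15 (statement unchanged; uses `pc2_arith` of [PC2-ARITH] and `q_cast_eq_zero` of [CNT]).
Sheet: Cfsg/Agent/Lib/Helper70/UMon/UMON_SHEET.md
-/
import Mathlib
import Cfsg.Agent.Lib.Helper70.UMon.Defs
import Cfsg.Agent.Lib.Helper70.UMon.Field
import Cfsg.Agent.Lib.Helper70.UMon.PC2Arith

set_option autoImplicit false

namespace Cfsg.Agent.Lib.Helper70.UMon

open Matrix Module Cfsg.Agent.S0837 Cfsg.Agent.S0781 Cfsg.Agent.S2644 Cfsg.Agent.Lib.Helper37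
open Cfsg.Agent.Lib.Helper13 (UX)
open Cfsg.Agent.Lib.Helper94.Mono (monGL mem_monGL slGL mem_slGL colMono diagUnit dg dg2)
open Cfsg.Agent.Lib.Helper94.SUSub (MemM)

variable {F : Type*} [Field F] [Fintype F] {σ : F →+* F} {q : ℕ}

/-- unitarity of an upper triangular matrix -/
theorem pc2borel_unitary {g : GL (Fin 2) F}
    (hg : ∀ x y, h2 σ ((g : Matrix (Fin 2) (Fin 2) F) *ᵥ x) ((g : Matrix (Fin 2) (Fin 2) F) *ᵥ y) = h2 σ x y)
    (h10 : (g : Matrix (Fin 2) (Fin 2) F) 1 0 = 0) :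
    (g : Matrix (Fin 2) (Fin 2) F) 0 0 * σ ((g : Matrix (Fin 2) (Fin 2) F) 1 1) = 1 ∧
    (g : Matrix (Fin 2) (Fin 2) F) 0 1 * σ ((g : Matrix (Fin 2) (Fin 2) F) 1 1) +
      (g : Matrix (Fin 2) (Fin 2) F) 1 1 * σ ((g : Matrix (Fin 2) (Fin 2) F) 0 1) = 0 := by
  constructor
  · have := hg ![1, 0] ![0, 1]
    simpa [h2, Matrix.mulVec, dotProduct, Fin.sum_univ_two, h10] using this
  · have := hg ![0, 1] ![0, 1]
    simpa [h2, Matrix.mulVec, dotProduct, Fin.sum_univ_two, h10] using this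

/-- the upper triangular elements of `L` -/
def pc2borelS (L : Subgroup (GL (Fin 2) F)) : Subgroup (GL (Fin 2) F) where
  carrier := {g | g ∈ L ∧ (g : Matrix (Fin 2) (Fin 2) F) 1 0 = 0}
  mul_mem' := by
    rintro g h ⟨hg, hg0⟩ ⟨hh, hh0⟩
    refine ⟨L.mul_mem hg hh, ?_⟩
    rw [Matrix.GeneralLinearGroup.coe_mul, Matrix.mul_apply, Fin.sum_univ_two, hg0, hh0]
    ring
  one_mem' := ⟨L.one_mem, by simp⟩
  inv_mem' := by
    rintro g ⟨hg, hg0⟩
    refine ⟨L.inv_mem hg, ?_⟩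
    rw [Matrix.coe_units_inv, Matrix.inv_def, Matrix.adjugate_fin_two]
    simp [hg0]

theorem mem_pc2borelS {L : Subgroup (GL (Fin 2) F)} {g : GL (Fin 2) F} :
    g ∈ pc2borelS L ↔ g ∈ L ∧ (g : Matrix (Fin 2) (Fin 2) F) 1 0 = 0 := Iff.rfl

theorem pc2borel_diag_ne {g : GL (Fin 2) F} (h10 : (g : Matrix (Fin 2) (Fin 2) F) 1 0 = 0) :
    (g : Matrix (Fin 2) (Fin 2) F) 0 0 ≠ 0 ∧ (g : Matrix (Fin 2) (Fin 2) F) 1 1 ≠ 0 := by
  have hdet : (g : Matrix (Fin 2) (Fin 2) F).det ≠ 0 := (Matrix.isUnits_det_units g).ne_zero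
  rw [Matrix.det_fin_two, h10, mul_zero, sub_zero] at hdet
  exact ⟨left_ne_zero_of_mul hdet, right_ne_zero_of_mul hdet⟩

/-- the entry `(0,0)` as a homomorphism on the upper triangular elements -/
def pc2borelA (L : Subgroup (GL (Fin 2) F)) : ↥(pc2borelS L) →* Fˣ where
  toFun s := Units.mk0 (((s : GL (Fin 2) F) : Matrix (Fin 2) (Fin 2) F) 0 0) (pc2borel_diag_ne s.2.2).1
  map_one' := by
    apply Units.ext
    simp
  map_mul' s t := by
    apply Units.ext
    have ht : ((t : GL (Fin 2) F) : Matrix (Fin 2) (Fin 2) F) 1 0 = 0 := t.2.2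
    simp [Matrix.mul_apply, Fin.sum_univ_two, ht]

/-- the entry `(1,1)` as a homomorphism on the upper triangular elements -/
def pc2borelD (L : Subgroup (GL (Fin 2) F)) : ↥(pc2borelS L) →* Fˣ where
  toFun s := Units.mk0 (((s : GL (Fin 2) F) : Matrix (Fin 2) (Fin 2) F) 1 1) (pc2borel_diag_ne s.2.2).2
  map_one' := by
    apply Units.ext
    simp
  map_mul' s t := by
    apply Units.ext
    have hs : ((s : GL (Fin 2) F) : Matrix (Fin 2) (Fin 2) F) 1 0 = 0 := s.2.2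
    simp [Matrix.mul_apply, Fin.sum_univ_two, hs]

theorem pc2borelA_coe (L : Subgroup (GL (Fin 2) F)) (s : ↥(pc2borelS L)) :
    ((pc2borelA L s : Fˣ) : F) = ((s : GL (Fin 2) F) : Matrix (Fin 2) (Fin 2) F) 0 0 := rfl

theorem pc2borelD_coe (L : Subgroup (GL (Fin 2) F)) (s : ↥(pc2borelS L)) :
    ((pc2borelD L s : Fˣ) : F) = ((s : GL (Fin 2) F) : Matrix (Fin 2) (Fin 2) F) 1 1 := rfl

/-- on the kernel of `a/d` the diagonal entries agree -/
theorem pc2borel_ker_diag (L : Subgroup (GL (Fin 2) F)) (k : ↥(pc2borelA L / pc2borelD L).ker) :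
    ((k : ↥(pc2borelS L)) : GL (Fin 2) F).1 0 0 = ((k : ↥(pc2borelS L)) : GL (Fin 2) F).1 1 1 := by
  have h := k.2
  rw [MonoidHom.mem_ker, MonoidHom.div_apply, div_eq_one] at h
  have := congrArg Units.val h
  rwa [pc2borelA_coe, pc2borelD_coe] at this

/-- the map `b/a` on the kernel, additively -/
def pc2borelPsi (L : Subgroup (GL (Fin 2) F)) :
    Additive ↥(pc2borelA L / pc2borelD L).ker →+ F :=
  AddMonoidHom.mk'
    (fun k => (((Additive.toMul k : ↥(pc2borelA L / pc2borelD L).ker) : ↥(pc2borelS L)) :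
        GL (Fin 2) F).1 0 1 /
      (((Additive.toMul k : ↥(pc2borelA L / pc2borelD L).ker) : ↥(pc2borelS L)) : GL (Fin 2) F).1 0 0)
    (by
      intro k k'
      have h1 := pc2borel_ker_diag L (Additive.toMul k')
      have ha := (pc2borel_diag_ne (Additive.toMul k).1.2.2).1
      have ha' := (pc2borel_diag_ne (Additive.toMul k').1.2.2).1
      have h10' : (((Additive.toMul k' : ↥(pc2borelA L / pc2borelD L).ker) : ↥(pc2borelS L)) :
        GL (Fin 2) F).1 1 0 = 0 := (Additive.toMul k').1.2.2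
      simp only [toMul_add, Subgroup.coe_mul, Units.val_mul, Matrix.mul_apply, Fin.sum_univ_two]
      rw [h10', ← h1]
      field_simp
      ring)

theorem pc2borelPsi_apply (L : Subgroup (GL (Fin 2) F)) (k : ↥(pc2borelA L / pc2borelD L).ker) :
    pc2borelPsi L (Additive.ofMul k) =
      ((k : ↥(pc2borelS L)) : GL (Fin 2) F).1 0 1 / ((k : ↥(pc2borelS L)) : GL (Fin 2) F).1 0 0 := rfl

theorem pc2borel_upow (β : F) (n : ℕ) :
    (!![1, β; 0, 1] : Matrix (Fin 2) (Fin 2) F) ^ n = !![1, (n : F) * β; 0, 1] := by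
  induction n with
  | zero =>
    ext i j
    fin_cases i <;> fin_cases j <;> simp
  | succ n ih =>
    rw [pow_succ, ih, Matrix.mul_fin_two]
    ext i j
    fin_cases i <;> fin_cases j <;> simp <;> ring

theorem pc2_borel (hC : FCtx σ q) {L : Subgroup (GL (Fin 2) F)}
    (hL : ∀ g ∈ L, ∀ x y, h2 σ ((g : Matrix (Fin 2) (Fin 2) F) *ᵥ x) ((g : Matrix (Fin 2) (Fin 2) F) *ᵥ y) = h2 σ x y)
    (hcard : (q + 1) * Nat.card {g : GL (Fin 2) F // g ∈ L ∧
        ∃ c : F, (g : Matrix (Fin 2) (Fin 2) F) = c • (1 : Matrix (Fin 2) (Fin 2) F)} ≤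
      Nat.card {g : GL (Fin 2) F // g ∈ L ∧ (g : Matrix (Fin 2) (Fin 2) F) 1 0 = 0}) :
    ∀ β : F, β + σ β = 0 → ∃ g ∈ L, (g : Matrix (Fin 2) (Fin 2) F) = !![1, β; 0, 1] := by
  classical
  -- abbreviations
  have hun : ∀ s : ↥(pc2borelS L),
      (s : GL (Fin 2) F).1 0 0 * σ ((s : GL (Fin 2) F).1 1 1) = 1 ∧
      (s : GL (Fin 2) F).1 0 1 * σ ((s : GL (Fin 2) F).1 1 1) +
        (s : GL (Fin 2) F).1 1 1 * σ ((s : GL (Fin 2) F).1 0 1) = 0 :=
    fun s => pc2borel_unitary (hL s.1 s.2.1) s.2.2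
  -- facts on the kernel
  have hker : ∀ k : ↥(pc2borelA L / pc2borelD L).ker,
      ((k : ↥(pc2borelS L)) : GL (Fin 2) F).1 0 0 * σ (((k : ↥(pc2borelS L)) : GL (Fin 2) F).1 0 0) = 1 ∧
      ((k : ↥(pc2borelS L)) : GL (Fin 2) F).1 0 1 * σ (((k : ↥(pc2borelS L)) : GL (Fin 2) F).1 0 0) +
        ((k : ↥(pc2borelS L)) : GL (Fin 2) F).1 0 0 * σ (((k : ↥(pc2borelS L)) : GL (Fin 2) F).1 0 1) = 0 := by
    intro k
    have h := hun k.1
    rw [← pc2borel_ker_diag L k] at h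
    exact h
  -- `A ⊆ ker Tr`
  have hA : ∀ β ∈ (pc2borelPsi L).range, β + σ β = 0 := by
    rintro _ ⟨k, rfl⟩
    obtain ⟨k, rfl⟩ : ∃ k', Additive.ofMul k' = k := ⟨Additive.toMul k, rfl⟩
    rw [pc2borelPsi_apply]
    obtain ⟨h1, h2⟩ := hker k
    have ha := (pc2borel_diag_ne k.1.2.2).1
    have hσa : σ (((k : ↥(pc2borelS L)) : GL (Fin 2) F).1 0 0) ≠ 0 := right_ne_zero_of_mul_eq_one h1
    rw [map_div₀]
    field_simp
    linear_combination h2
  -- `Γ` is in the fixed field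
  have hΓ : ∀ x ∈ (pc2borelA L / pc2borelD L).range, σ ((x : Fˣ) : F) = ((x : Fˣ) : F) := by
    rintro _ ⟨s, rfl⟩
    rw [MonoidHom.div_apply, Units.val_div_eq_div_val, pc2borelA_coe, pc2borelD_coe, map_div₀]
    obtain ⟨h1, -⟩ := hun s
    have hd := (pc2borel_diag_ne s.2.2).2
    have h1' : σ ((s : GL (Fin 2) F).1 0 0) * (s : GL (Fin 2) F).1 1 1 = 1 := by
      have := congrArg σ h1
      rwa [map_mul, hC.invol, map_one] at this
    have hσd : σ ((s : GL (Fin 2) F).1 1 1) ≠ 0 := right_ne_zero_of_mul_eq_one h1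
    field_simp
    linear_combination h1' - h1
  -- `Γ A ⊆ A`
  have hΓA : ∀ x ∈ (pc2borelA L / pc2borelD L).range, ∀ β ∈ (pc2borelPsi L).range,
      ((x : Fˣ) : F) * β ∈ (pc2borelPsi L).range := by
    rintro _ ⟨s, rfl⟩ _ ⟨k, rfl⟩
    obtain ⟨k, rfl⟩ : ∃ k', Additive.ofMul k' = k := ⟨Additive.toMul k, rfl⟩
    have hk'mem : s * k.1 * s⁻¹ ∈ (pc2borelA L / pc2borelD L).ker :=
      (inferInstance : ((pc2borelA L / pc2borelD L).ker).Normal).conj_mem k.1 k.2 s
    refine ⟨Additive.ofMul ⟨s * k.1 * s⁻¹, hk'mem⟩, ?_⟩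
    rw [pc2borelPsi_apply, pc2borelPsi_apply, MonoidHom.div_apply, Units.val_div_eq_div_val,
      pc2borelA_coe, pc2borelD_coe]
    -- the relation `k' s = s k`
    have hrel : (s * k.1 * s⁻¹) * s = s * k.1 := by group
    have hrelM : ((s * k.1 * s⁻¹ : ↥(pc2borelS L)) : GL (Fin 2) F).1 * (s : GL (Fin 2) F).1 =
        (s : GL (Fin 2) F).1 * ((k : ↥(pc2borelS L)) : GL (Fin 2) F).1 := by
      have := congrArg (fun t : ↥(pc2borelS L) => ((t : GL (Fin 2) F) : Matrix (Fin 2) (Fin 2) F)) hrel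
      simpa only [Subgroup.coe_mul, Units.val_mul] using this
    have hs10 : (s : GL (Fin 2) F).1 1 0 = 0 := s.2.2
    have hk10 : ((k : ↥(pc2borelS L)) : GL (Fin 2) F).1 1 0 = 0 := k.1.2.2
    have hk'10 : ((s * k.1 * s⁻¹ : ↥(pc2borelS L)) : GL (Fin 2) F).1 1 0 = 0 := (s * k.1 * s⁻¹).2.2
    have hkd := pc2borel_ker_diag L k
    have hk'd := pc2borel_ker_diag L ⟨s * k.1 * s⁻¹, hk'mem⟩
    have e00 := congrFun (congrFun hrelM 0) 0
    have e01 := congrFun (congrFun hrelM 0) 1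
    simp only [Matrix.mul_apply, Fin.sum_univ_two, hs10, hk10, mul_zero, add_zero] at e00 e01
    obtain ⟨has, hds⟩ := pc2borel_diag_ne s.2.2
    have hak := (pc2borel_diag_ne k.1.2.2).1
    have hak' := (pc2borel_diag_ne (s * k.1 * s⁻¹).2.2).1
    have e00' : ((s * k.1 * s⁻¹ : ↥(pc2borelS L)) : GL (Fin 2) F).1 0 0 =
        ((k : ↥(pc2borelS L)) : GL (Fin 2) F).1 0 0 := by
      have : ((s * k.1 * s⁻¹ : ↥(pc2borelS L)) : GL (Fin 2) F).1 0 0 * (s : GL (Fin 2) F).1 0 0 =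
          ((k : ↥(pc2borelS L)) : GL (Fin 2) F).1 0 0 * (s : GL (Fin 2) F).1 0 0 := by
        rw [e00]; ring
      exact mul_right_cancel₀ has this
    show ((s * k.1 * s⁻¹ : ↥(pc2borelS L)) : GL (Fin 2) F).1 0 1 /
        ((s * k.1 * s⁻¹ : ↥(pc2borelS L)) : GL (Fin 2) F).1 0 0 = _
    rw [e00']
    rw [← hkd] at e01
    rw [e00'] at e01
    field_simp
    linear_combination e01
  -- cardinalities
  have hcS : Nat.card ↥(pc2borelA L / pc2borelD L).ker * Nat.card ↥(pc2borelA L / pc2borelD L).range =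
      Nat.card ↥(pc2borelS L) := by
    rw [← Subgroup.index_ker]
    exact Subgroup.card_mul_index _
  have hcK : Nat.card ↥(pc2borelPsi L).ker * Nat.card ↥(pc2borelPsi L).range =
      Nat.card ↥(pc2borelA L / pc2borelD L).ker := by
    rw [← AddSubgroup.index_ker]
    exact AddSubgroup.card_mul_index _
  have hcZ : Nat.card ↥(pc2borelPsi L).ker ≤ Nat.card {g : GL (Fin 2) F // g ∈ L ∧
        ∃ c : F, (g : Matrix (Fin 2) (Fin 2) F) = c • (1 : Matrix (Fin 2) (Fin 2) F)} := by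
    have hscal : ∀ k : ↥(pc2borelPsi L).ker,
        ((((Additive.toMul (k : Additive ↥(pc2borelA L / pc2borelD L).ker) :
          ↥(pc2borelA L / pc2borelD L).ker) : ↥(pc2borelS L)) : GL (Fin 2) F) ∈ L ∧
        ∃ c : F, ((((Additive.toMul (k : Additive ↥(pc2borelA L / pc2borelD L).ker) :
          ↥(pc2borelA L / pc2borelD L).ker) : ↥(pc2borelS L)) : GL (Fin 2) F) :
            Matrix (Fin 2) (Fin 2) F) = c • (1 : Matrix (Fin 2) (Fin 2) F)) := by
      intro k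
      refine ⟨(Additive.toMul k.1).1.2.1, ?_⟩
      have hk := k.2
      rw [AddMonoidHom.mem_ker] at hk
      have hk' : pc2borelPsi L (Additive.ofMul (Additive.toMul k.1)) = 0 := hk
      rw [pc2borelPsi_apply] at hk'
      have ha := (pc2borel_diag_ne (Additive.toMul k.1).1.2.2).1
      have hb : (((Additive.toMul k.1 : ↥(pc2borelA L / pc2borelD L).ker) : ↥(pc2borelS L)) :
          GL (Fin 2) F).1 0 1 = 0 := by
        rcases div_eq_zero_iff.mp hk' with h | h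
        · exact h
        · exact absurd h ha
      have h10 : (((Additive.toMul k.1 : ↥(pc2borelA L / pc2borelD L).ker) : ↥(pc2borelS L)) :
          GL (Fin 2) F).1 1 0 = 0 := (Additive.toMul k.1).1.2.2
      have hd := pc2borel_ker_diag L (Additive.toMul k.1)
      refine ⟨(((Additive.toMul k.1 : ↥(pc2borelA L / pc2borelD L).ker) : ↥(pc2borelS L)) :
          GL (Fin 2) F).1 0 0, ?_⟩
      ext i j
      fin_cases i <;> fin_cases j
      · simp
      · simpa using hb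
      · simpa using h10
      · simpa using hd.symm
    apply Nat.card_le_card_of_injective (fun k => ⟨_, hscal k⟩)
    intro k k' h
    have h1 := congrArg Subtype.val h
    simp only at h1
    apply Subtype.ext
    have h2 : (Additive.toMul (k : Additive ↥(pc2borelA L / pc2borelD L).ker)) =
        Additive.toMul (k' : Additive ↥(pc2borelA L / pc2borelD L).ker) :=
      Subtype.ext (Subtype.ext h1)
    exact Additive.toMul.injective h2
  have hcS' : Nat.card {g : GL (Fin 2) F // g ∈ L ∧ (g : Matrix (Fin 2) (Fin 2) F) 1 0 = 0} =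
      Nat.card ↥(pc2borelS L) := rfl
  have hZpos : 0 < Nat.card {g : GL (Fin 2) F // g ∈ L ∧
        ∃ c : F, (g : Matrix (Fin 2) (Fin 2) F) = c • (1 : Matrix (Fin 2) (Fin 2) F)} := by
    have : Nonempty {g : GL (Fin 2) F // g ∈ L ∧
        ∃ c : F, (g : Matrix (Fin 2) (Fin 2) F) = c • (1 : Matrix (Fin 2) (Fin 2) F)} :=
      ⟨⟨1, L.one_mem, 1, by simp⟩⟩
    exact Nat.card_pos
  have hcard' : q + 1 ≤ Nat.card ↥(pc2borelA L / pc2borelD L).range *
      Nat.card ↥(pc2borelPsi L).range := by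
    rw [hcS', ← hcS, ← hcK] at hcard
    have h1 : (q + 1) * Nat.card {g : GL (Fin 2) F // g ∈ L ∧
        ∃ c : F, (g : Matrix (Fin 2) (Fin 2) F) = c • (1 : Matrix (Fin 2) (Fin 2) F)} ≤
        (Nat.card ↥(pc2borelA L / pc2borelD L).range * Nat.card ↥(pc2borelPsi L).range) *
        Nat.card {g : GL (Fin 2) F // g ∈ L ∧
        ∃ c : F, (g : Matrix (Fin 2) (Fin 2) F) = c • (1 : Matrix (Fin 2) (Fin 2) F)} := by
      calc _ ≤ Nat.card ↥(pc2borelPsi L).ker * Nat.card ↥(pc2borelPsi L).range *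
            Nat.card ↥(pc2borelA L / pc2borelD L).range := hcard
        _ ≤ Nat.card {g : GL (Fin 2) F // g ∈ L ∧
              ∃ c : F, (g : Matrix (Fin 2) (Fin 2) F) = c • (1 : Matrix (Fin 2) (Fin 2) F)} *
            Nat.card ↥(pc2borelPsi L).range * Nat.card ↥(pc2borelA L / pc2borelD L).range :=
          Nat.mul_le_mul_right _ (Nat.mul_le_mul_right _ hcZ)
        _ = _ := by ring
    exact Nat.le_of_mul_le_mul_right h1 hZpos
  -- apply the arithmetic module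
  intro β hβ
  obtain ⟨k, hk⟩ := pc2_arith hC (pc2borelPsi L).range hA (pc2borelA L / pc2borelD L).range hΓ hΓA
    hcard' β hβ
  obtain ⟨k, rfl⟩ : ∃ k', Additive.ofMul k' = k := ⟨Additive.toMul k, rfl⟩
  rw [pc2borelPsi_apply] at hk
  obtain ⟨h1, -⟩ := hker k
  have ha := (pc2borel_diag_ne k.1.2.2).1
  have h10 : ((k : ↥(pc2borelS L)) : GL (Fin 2) F).1 1 0 = 0 := k.1.2.2
  have hd := pc2borel_ker_diag L k
  refine ⟨((k : ↥(pc2borelS L)) : GL (Fin 2) F) ^ (q + 1), L.pow_mem k.1.2.1 _, ?_⟩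
  have hmat : (((k : ↥(pc2borelS L)) : GL (Fin 2) F) : Matrix (Fin 2) (Fin 2) F) =
      ((k : ↥(pc2borelS L)) : GL (Fin 2) F).1 0 0 • (!![1, β; 0, 1] : Matrix (Fin 2) (Fin 2) F) := by
    ext i j
    fin_cases i <;> fin_cases j
    · simp
    · have h01 : ((k : ↥(pc2borelS L)) : GL (Fin 2) F).1 0 1 =
          ((k : ↥(pc2borelS L)) : GL (Fin 2) F).1 0 0 * β := by
        rw [← hk]; field_simp
      simpa using h01
    · simpa using h10
    · simpa using hd.symm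
  have hpow : ((k : ↥(pc2borelS L)) : GL (Fin 2) F).1 0 0 ^ (q + 1) = 1 := by
    rw [pow_succ, ← hC.frob, mul_comm]; exact h1
  rw [Units.val_pow_eq_pow_val, hmat, smul_pow, hpow, one_smul, pc2borel_upow]
  have : ((q + 1 : ℕ) : F) * β = β := by
    rw [Nat.cast_add, Nat.cast_one, q_cast_eq_zero hC, zero_add, one_mul]
  rw [this]

end Cfsg.Agent.Lib.Helper70.UMon
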