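/-
helper70, project UMON (S5655). MODULE UMON-[PC2-LOW].
PROVED by helper15 (statement unchanged; `card_mu` of [CNT] is used).
Sheet: Cfsg/Agent/Lib/Helper70/UMon/UMON_SHEET.md

PLANE COUNTING in `GL₂`, part 1 (lower bound).  Setting: `h2 σ x y = x 0 * σ (y 1) + x 1 * σ (y 0)` (hyperbolic hermitian
form on `F²`), `L ≤ GL₂(F)` a subgroup containing the two full reflection groups `C = {R_u(ζ)}`, `C' = {R_{u'}(ζ)}`
(`ζ ∈ μ`, i.e. `ζ σ ζ = 1`; `R_u(ζ) x = x + (ζ-1) h2(x,u)/h2(u,u) u`) of two non-isotropic, non-orthogonal,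
non-proportional vectors `u, u'`.  `Z` = the scalar matrices of `L`.  Claim: `(q+1)² |Z| ≤ |L|`.

Proof.  The map `μ × μ × Z → L`, `(ζ, ζ', z) ↦ R_u(ζ) R_{u'}(ζ') z` is injective (`|μ| = q+1`: `card_mu`):
(i) `C ∩ C' Z = 1`: `R_u(ζ)` has the eigenvalue `ζ` on `⟨u⟩` and `1` on the line `u^⊥ = {x | h2 x u = 0}`; if
`R_u(ζ) = c R_{u'}(ζ')` with `ζ ≠ 1` then (comparing eigenlines; `ζ' = 1` is impossible as `R_u(ζ)` is not scalar)
`⟨u⟩ = ⟨u'⟩` (excluded by `hgram`: `u' = λ u` gives equality there) or `⟨u⟩ = u'^⊥` (excluded by `huu'`).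
Concretely: apply both sides to `u'` and to a vector `w ≠ 0` with `h2 w u' = 0`.
(ii) `C' ∩ Z = 1` (a reflection `R_{u'}(ζ')` that is scalar has `ζ' = 1`: it fixes `w`).
(iii) if `c₁ c₁' z₁ = c₂ c₂' z₂` then `c₂⁻¹ c₁ ∈ C ∩ C' Z`, so `c₁ = c₂`; then `c₂'⁻¹ c₁' ∈ C' ∩ Z`.
(`R_u(ζ) R_u(ξ) = R_u(ζ ξ)`, `R_u(ζ)⁻¹ = R_u(ζ⁻¹)`; the elements of `L` given by `hR`, `hR'` are determined by
their action, so they form subgroups.)  Hypothesis `hL` (unitarity) is available but probably not needed.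
-/
import Mathlib
import Cfsg.Agent.Lib.Helper70.UMon.Defs
import Cfsg.Agent.Lib.Helper70.UMon.Field

set_option autoImplicit false

namespace Cfsg.Agent.Lib.Helper70.UMon

open Matrix Module Cfsg.Agent.S0837 Cfsg.Agent.S0781 Cfsg.Agent.S2644 Cfsg.Agent.Lib.Helper37
open Cfsg.Agent.Lib.Helper13 (UX)
open Cfsg.Agent.Lib.Helper94.Mono (monGL mem_monGL slGL mem_slGL colMono diagUnit dg dg2)
open Cfsg.Agent.Lib.Helper94.SUSub (MemM)

variable {F : Type*} [Field F] [Fintype F] {σ : F →+* F} {q : ℕ}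

theorem pc2low_h2_add_left (x y u : Fin 2 → F) : h2 σ (x + y) u = h2 σ x u + h2 σ y u := by
  simp only [h2, Pi.add_apply]; ring

theorem pc2low_h2_smul_left (c : F) (x u : Fin 2 → F) : h2 σ (c • x) u = c * h2 σ x u := by
  simp only [h2, Pi.smul_apply, smul_eq_mul]; ring

theorem pc2low_h2_smul_right (c : F) (x u : Fin 2 → F) : h2 σ x (c • u) = σ c * h2 σ x u := by
  simp only [h2, Pi.smul_apply, smul_eq_mul, map_mul]; ring

theorem pc2low_h2_symm (hC : FCtx σ q) (x y : Fin 2 → F) : h2 σ y x = σ (h2 σ x y) := by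
  simp only [h2, map_add, map_mul, hC.invol]; ring

/-- `u, u'` are linearly independent -/
theorem pc2low_indep_of_gram {u u' : Fin 2 → F} (hu' : h2 σ u' u' ≠ 0)
    (hgram : h2 σ u u' * h2 σ u' u ≠ h2 σ u u * h2 σ u' u') (a b : F) (h : a • u' = b • u) :
    a = 0 ∧ b = 0 := by
  by_cases hb : b = 0
  · refine ⟨?_, hb⟩
    rw [hb, zero_smul] at h
    by_contra ha
    have hu0 : u' = 0 := by
      have := congrArg (fun v => a⁻¹ • v) h
      simpa [smul_smul, inv_mul_cancel₀ ha] using this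
    apply hu'
    rw [hu0]
    simp [h2]
  · exfalso
    apply hgram
    have hu : u = (b⁻¹ * a) • u' := by
      have := congrArg (fun v => b⁻¹ • v) h
      simp only [smul_smul, inv_mul_cancel₀ hb, one_smul] at this
      exact this.symm
    rw [hu, pc2low_h2_smul_left, pc2low_h2_smul_right, pc2low_h2_smul_left, pc2low_h2_smul_right]
    ring

theorem pc2_low (hC : FCtx σ q) {L : Subgroup (GL (Fin 2) F)}
    (hL : ∀ g ∈ L, ∀ x y, h2 σ ((g : Matrix (Fin 2) (Fin 2) F) *ᵥ x) ((g : Matrix (Fin 2) (Fin 2) F) *ᵥ y) = h2 σ x y)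
    {u u' : Fin 2 → F} (hu : h2 σ u u ≠ 0) (hu' : h2 σ u' u' ≠ 0) (huu' : h2 σ u u' ≠ 0)
    (hgram : h2 σ u u' * h2 σ u' u ≠ h2 σ u u * h2 σ u' u')
    (hR : ∀ ζ : F, ζ * σ ζ = 1 → ∃ g ∈ L, ∀ x,
      (g : Matrix (Fin 2) (Fin 2) F) *ᵥ x = x + ((ζ - 1) / h2 σ u u * h2 σ x u) • u)
    (hR' : ∀ ζ : F, ζ * σ ζ = 1 → ∃ g ∈ L, ∀ x,
      (g : Matrix (Fin 2) (Fin 2) F) *ᵥ x = x + ((ζ - 1) / h2 σ u' u' * h2 σ x u') • u') :
    (q + 1) ^ 2 * Nat.card {g : GL (Fin 2) F // g ∈ L ∧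
        ∃ c : F, (g : Matrix (Fin 2) (Fin 2) F) = c • (1 : Matrix (Fin 2) (Fin 2) F)} ≤ Nat.card L := by
  classical
  have hR1 : ∀ a : {ζ : F // ζ * σ ζ = 1}, ∃ g : L, ∀ x,
      ((g : GL (Fin 2) F) : Matrix (Fin 2) (Fin 2) F) *ᵥ x =
        x + ((a.1 - 1) / h2 σ u u * h2 σ x u) • u := by
    intro a
    obtain ⟨g, hg, h⟩ := hR a.1 a.2
    exact ⟨⟨g, hg⟩, h⟩
  have hR1' : ∀ a : {ζ : F // ζ * σ ζ = 1}, ∃ g : L, ∀ x,
      ((g : GL (Fin 2) F) : Matrix (Fin 2) (Fin 2) F) *ᵥ x =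
        x + ((a.1 - 1) / h2 σ u' u' * h2 σ x u') • u' := by
    intro a
    obtain ⟨g, hg, h⟩ := hR' a.1 a.2
    exact ⟨⟨g, hg⟩, h⟩
  choose R hRa using hR1
  choose R' hRa' using hR1'
  have hk : h2 σ u' u ≠ 0 := by
    rw [pc2low_h2_symm hC u u']
    exact (map_ne_zero σ).mpr huu'
  -- the action of `R' b` on multiples of `u'`
  have hT' : ∀ (b : {ζ : F // ζ * σ ζ = 1}) (c : F),
      ((R' b : GL (Fin 2) F) : Matrix (Fin 2) (Fin 2) F) *ᵥ (c • u') = (c * b.1) • u' := by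
    intro b c
    rw [hRa', pc2low_h2_smul_left]
    have : (c * b.1) • u' = c • u' + ((b.1 - 1) * c) • u' := by
      rw [← add_smul]; congr 1; ring
    rw [this]
    congr 2
    field_simp
  -- a vector orthogonal to `u'`
  obtain ⟨w, hw0, hwu'⟩ : ∃ w : Fin 2 → F, w ≠ 0 ∧ h2 σ w u' = 0 := by
    refine ⟨![σ (u' 0), -σ (u' 1)], ?_, ?_⟩
    · intro h
      have h0 : σ (u' 0) = 0 := by simpa using congrFun h 0
      have h1 : σ (u' 1) = 0 := by simpa using congrFun h 1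
      apply hu'
      simp only [h2, h0, h1]
      ring
    · simp only [h2, Matrix.cons_val_zero, Matrix.cons_val_one]
      ring
  have hTw : ∀ (b : {ζ : F // ζ * σ ζ = 1}) (c : F),
      ((R' b : GL (Fin 2) F) : Matrix (Fin 2) (Fin 2) F) *ᵥ (c • w) = c • w := by
    intro b c
    rw [hRa', pc2low_h2_smul_left, hwu']
    simp
  let f : {ζ : F // ζ * σ ζ = 1} × {ζ : F // ζ * σ ζ = 1} ×
      {g : GL (Fin 2) F // g ∈ L ∧
        ∃ c : F, (g : Matrix (Fin 2) (Fin 2) F) = c • (1 : Matrix (Fin 2) (Fin 2) F)} → L :=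
    fun p => R p.1 * R' p.2.1 * ⟨p.2.2.1, p.2.2.2.1⟩
  have hf : Function.Injective f := by
    rintro ⟨a₁, b₁, z₁⟩ ⟨a₂, b₂, z₂⟩ h
    obtain ⟨c₁, hc₁⟩ := z₁.2.2
    obtain ⟨c₂, hc₂⟩ := z₂.2.2
    have hc₁0 : c₁ ≠ 0 := by
      intro h0
      apply Units.ne_zero z₁.1
      rw [hc₁, h0, zero_smul]
    have hb₁0 : b₁.1 ≠ 0 := left_ne_zero_of_mul_eq_one b₁.2
    -- the equation on vectors
    have hmat : ∀ x, ((R a₁ : GL (Fin 2) F) : Matrix (Fin 2) (Fin 2) F) *ᵥ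
        (((R' b₁ : GL (Fin 2) F) : Matrix (Fin 2) (Fin 2) F) *ᵥ (c₁ • x)) =
        ((R a₂ : GL (Fin 2) F) : Matrix (Fin 2) (Fin 2) F) *ᵥ
        (((R' b₂ : GL (Fin 2) F) : Matrix (Fin 2) (Fin 2) F) *ᵥ (c₂ • x)) := by
      intro x
      have h1 := congrArg (fun g : L => ((g : GL (Fin 2) F) : Matrix (Fin 2) (Fin 2) F) *ᵥ x) h
      simp only [f, Subgroup.coe_mul, Units.val_mul, ← Matrix.mulVec_mulVec, hc₁, hc₂,
        Matrix.smul_mulVec, Matrix.one_mulVec] at h1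
      exact h1
    have hu'eq := hmat u'
    rw [hT', hT', hRa, hRa, pc2low_h2_smul_left, pc2low_h2_smul_left] at hu'eq
    have hsub : (c₁ * b₁.1 - c₂ * b₂.1) • u' =
        ((a₂.1 - 1) / h2 σ u u * (c₂ * b₂.1 * h2 σ u' u) -
          (a₁.1 - 1) / h2 σ u u * (c₁ * b₁.1 * h2 σ u' u)) • u := by
      rw [sub_smul, sub_smul, sub_eq_sub_iff_add_eq_add, hu'eq, add_comm]
    obtain ⟨hd, hsec⟩ := pc2low_indep_of_gram hu' hgram _ _ hsub
    have hd' : c₁ * b₁.1 = c₂ * b₂.1 := sub_eq_zero.mp hd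
    have ha : a₁ = a₂ := by
      apply Subtype.ext
      rw [← hd'] at hsec
      have h2' : (a₂.1 - a₁.1) * (c₁ * b₁.1 * h2 σ u' u / h2 σ u u) = 0 := by
        rw [← hsec]; field_simp; ring
      rcases mul_eq_zero.mp h2' with h3 | h3
      · exact (sub_eq_zero.mp h3).symm
      · exfalso
        have : c₁ * b₁.1 * h2 σ u' u / h2 σ u u ≠ 0 :=
          div_ne_zero (mul_ne_zero (mul_ne_zero hc₁0 hb₁0) hk) hu
        exact this h3
    subst ha
    have h' : R' b₁ * (⟨z₁.1, z₁.2.1⟩ : L) = R' b₂ * ⟨z₂.1, z₂.2.1⟩ := by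
      have : R a₁ * (R' b₁ * (⟨z₁.1, z₁.2.1⟩ : L)) = R a₁ * (R' b₂ * ⟨z₂.1, z₂.2.1⟩) := by
        rw [← mul_assoc, ← mul_assoc]; exact h
      exact mul_left_cancel this
    have hweq : c₁ • w = c₂ • w := by
      have h1 := congrArg (fun g : L => ((g : GL (Fin 2) F) : Matrix (Fin 2) (Fin 2) F) *ᵥ w) h'
      simp only [Subgroup.coe_mul, Units.val_mul, ← Matrix.mulVec_mulVec, hc₁, hc₂,
        Matrix.smul_mulVec, Matrix.one_mulVec, hTw] at h1
      exact h1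
    have hc : c₁ = c₂ := by
      have : (c₁ - c₂) • w = 0 := by rw [sub_smul, hweq, sub_self]
      rcases smul_eq_zero.mp this with h3 | h3
      · exact sub_eq_zero.mp h3
      · exact absurd h3 hw0
    have hb : b₁ = b₂ := by
      apply Subtype.ext
      rw [← hc] at hd'
      exact mul_left_cancel₀ hc₁0 hd'
    have hz : z₁ = z₂ := by
      apply Subtype.ext
      apply Units.ext
      rw [hc₁, hc₂, hc]
    rw [hb, hz]
  have hcard := Nat.card_le_card_of_injective f hf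
  rw [Nat.card_prod, Nat.card_prod, card_mu hC] at hcard
  calc (q + 1) ^ 2 * Nat.card {g : GL (Fin 2) F // g ∈ L ∧
        ∃ c : F, (g : Matrix (Fin 2) (Fin 2) F) = c • (1 : Matrix (Fin 2) (Fin 2) F)}
      = (q + 1) * ((q + 1) * Nat.card {g : GL (Fin 2) F // g ∈ L ∧
        ∃ c : F, (g : Matrix (Fin 2) (Fin 2) F) = c • (1 : Matrix (Fin 2) (Fin 2) F)}) := by ring
    _ ≤ Nat.card L := hcard


end Cfsg.Agent.Lib.Helper70.UMon
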