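/-
helper70, project UMON (S5655). MODULE UMON-[PC2-ORB]  (proved by helper93).
Sheet: Cfsg/Agent/Lib/Helper70/UMon/UMON_SHEET.md

PLANE COUNTING in `GL₂`, part 2 (orbit bound).  `L ≤ GL₂(F)` preserves the hyperbolic form `h2 σ`.
Claim: `|L| ≤ (q+1) |S|`, `S = {g ∈ L | g 1 0 = 0}` (the stabiliser of the isotropic line `⟨e₀⟩`).

Proof.  `g e₀ = (g 0 0, g 1 0)` is isotropic: `g 0 0 * σ (g 1 0) + g 1 0 * σ (g 0 0) = h2 (g e₀) (g e₀) = h2 e₀ e₀ = 0`.
Map `φ : L → Option {x // x + σ x = 0}`, `g ↦ none` if `g 1 0 = 0`, else `some (g 0 0 / g 1 0)` (trace zero: divide the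
isotropy relation by `g 1 0 * σ (g 1 0)`).  The target has `q + 1` elements (`card_trace_zero`).  If `φ g = φ g'` then
`g e₀` and `g' e₀` are proportional, so `(g'⁻¹ g) e₀ ∈ ⟨e₀⟩`, i.e. `g'⁻¹ g ∈ S`; hence each fibre of `φ` injects into
`S` (`g ↦ g₀⁻¹ g` for a fixed `g₀` of the fibre).  So `|L| ≤ (q+1) |S|`.
-/
import Mathlib
import Cfsg.Agent.Lib.Helper70.UMon.Defs
import Cfsg.Agent.Lib.Helper70.UMon.Field

set_option autoImplicit false

namespace Cfsg.Agent.Lib.Helper70.UMon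

open Matrix Module Cfsg.Agent.S0837 Cfsg.Agent.S0781 Cfsg.Agent.S2644 Cfsg.Agent.Lib.Helper37
open Cfsg.Agent.Lib.Helper13 (UX)
open Cfsg.Agent.Lib.Helper94.Mono (monGL mem_monGL slGL mem_slGL colMono diagUnit dg dg2)
open Cfsg.Agent.Lib.Helper94.SUSub (MemM)

variable {F : Type*} [Field F] [Fintype F] {σ : F →+* F} {q : ℕ}

omit [Fintype F] in
/-- proportional first columns: `(g'⁻¹ g) 1 0 = 0` -/
theorem pc2_orb_cross (g g' : GL (Fin 2) F)
    (h : (g' : Matrix (Fin 2) (Fin 2) F) 0 0 * (g : Matrix (Fin 2) (Fin 2) F) 1 0 =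
      (g' : Matrix (Fin 2) (Fin 2) F) 1 0 * (g : Matrix (Fin 2) (Fin 2) F) 0 0) :
    ((g'⁻¹ * g : GL (Fin 2) F) : Matrix (Fin 2) (Fin 2) F) 1 0 = 0 := by
  set k : GL (Fin 2) F := g'⁻¹ * g with hk
  have hg : g = g' * k := by rw [hk, mul_inv_cancel_left]
  have hgm : (g : Matrix (Fin 2) (Fin 2) F) =
      (g' : Matrix (Fin 2) (Fin 2) F) * (k : Matrix (Fin 2) (Fin 2) F) := by
    rw [hg]; rfl
  have h00 : (g : Matrix (Fin 2) (Fin 2) F) 0 0 =
      (g' : Matrix (Fin 2) (Fin 2) F) 0 0 * (k : Matrix (Fin 2) (Fin 2) F) 0 0 +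
      (g' : Matrix (Fin 2) (Fin 2) F) 0 1 * (k : Matrix (Fin 2) (Fin 2) F) 1 0 := by
    rw [hgm, Matrix.mul_apply, Fin.sum_univ_two]
  have h10 : (g : Matrix (Fin 2) (Fin 2) F) 1 0 =
      (g' : Matrix (Fin 2) (Fin 2) F) 1 0 * (k : Matrix (Fin 2) (Fin 2) F) 0 0 +
      (g' : Matrix (Fin 2) (Fin 2) F) 1 1 * (k : Matrix (Fin 2) (Fin 2) F) 1 0 := by
    rw [hgm, Matrix.mul_apply, Fin.sum_univ_two]
  have hdet : (g' : Matrix (Fin 2) (Fin 2) F).det ≠ 0 := by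
    have := (Matrix.isUnit_iff_isUnit_det (g' : Matrix (Fin 2) (Fin 2) F)).1 g'.isUnit
    exact this.ne_zero
  rw [Matrix.det_fin_two] at hdet
  rw [h00, h10] at h
  have : ((g' : Matrix (Fin 2) (Fin 2) F) 0 0 * (g' : Matrix (Fin 2) (Fin 2) F) 1 1 -
      (g' : Matrix (Fin 2) (Fin 2) F) 0 1 * (g' : Matrix (Fin 2) (Fin 2) F) 1 0) *
      (k : Matrix (Fin 2) (Fin 2) F) 1 0 = 0 := by
    linear_combination h
  rcases mul_eq_zero.1 this with h' | h'
  · exact absurd h' hdet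
  · exact h'

theorem pc2_orb (hC : FCtx σ q) {L : Subgroup (GL (Fin 2) F)}
    (hL : ∀ g ∈ L, ∀ x y, h2 σ ((g : Matrix (Fin 2) (Fin 2) F) *ᵥ x) ((g : Matrix (Fin 2) (Fin 2) F) *ᵥ y) = h2 σ x y) :
    Nat.card L ≤ (q + 1) * Nat.card {g : GL (Fin 2) F // g ∈ L ∧ (g : Matrix (Fin 2) (Fin 2) F) 1 0 = 0} := by
  classical
  -- isotropy of the first column
  have hiso : ∀ g ∈ L, (g : Matrix (Fin 2) (Fin 2) F) 0 0 * σ ((g : Matrix (Fin 2) (Fin 2) F) 1 0) +
      (g : Matrix (Fin 2) (Fin 2) F) 1 0 * σ ((g : Matrix (Fin 2) (Fin 2) F) 0 0) = 0 := by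
    intro g hg
    have h := hL g hg (Pi.single 0 1) (Pi.single 0 1)
    unfold h2 at h
    simp only [Matrix.mulVec_single_one, Matrix.col_apply] at h
    simpa using h
  -- the invariant
  have htr : ∀ g : ↥L, ¬ ((g : GL (Fin 2) F) : Matrix (Fin 2) (Fin 2) F) 1 0 = 0 →
      ((g : GL (Fin 2) F) : Matrix (Fin 2) (Fin 2) F) 0 0 / ((g : GL (Fin 2) F) : Matrix (Fin 2) (Fin 2) F) 1 0 +
        σ (((g : GL (Fin 2) F) : Matrix (Fin 2) (Fin 2) F) 0 0 / ((g : GL (Fin 2) F) : Matrix (Fin 2) (Fin 2) F) 1 0) = 0 := by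
    intro g hne
    have hσne : σ (((g : GL (Fin 2) F) : Matrix (Fin 2) (Fin 2) F) 1 0) ≠ 0 := (map_ne_zero σ).2 hne
    rw [map_div₀]
    field_simp
    linear_combination hiso g g.2
  let φ : ↥L → Option {x : F // x + σ x = 0} := fun g =>
    if h : ((g : GL (Fin 2) F) : Matrix (Fin 2) (Fin 2) F) 1 0 = 0 then none
    else some ⟨((g : GL (Fin 2) F) : Matrix (Fin 2) (Fin 2) F) 0 0 /
      ((g : GL (Fin 2) F) : Matrix (Fin 2) (Fin 2) F) 1 0, htr g h⟩
  have hfib : ∀ g g' : ↥L, φ g = φ g' →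
      (((g' : GL (Fin 2) F)⁻¹ * (g : GL (Fin 2) F) : GL (Fin 2) F) : Matrix (Fin 2) (Fin 2) F) 1 0 = 0 := by
    intro g g' hφ
    apply pc2_orb_cross
    simp only [φ] at hφ
    split_ifs at hφ with h1 h2 h2
    · rw [h1, h2, mul_zero, zero_mul]
    · rw [Option.some.injEq, Subtype.mk.injEq] at hφ
      field_simp at hφ
      linear_combination -hφ
  have : Fintype ↥L := Fintype.ofFinite _
  have : Fintype {x : F // x + σ x = 0} := Fintype.ofFinite _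
  have hT : Fintype.card (Option {x : F // x + σ x = 0}) = q + 1 := by
    rw [Fintype.card_option, ← Nat.card_eq_fintype_card, card_trace_zero hC]
  set St : Finset (GL (Fin 2) F) :=
    Finset.univ.filter (fun g : GL (Fin 2) F => g ∈ L ∧ (g : Matrix (Fin 2) (Fin 2) F) 1 0 = 0) with hSt
  have hScard : Nat.card {g : GL (Fin 2) F // g ∈ L ∧ (g : Matrix (Fin 2) (Fin 2) F) 1 0 = 0} = St.card := by
    rw [Nat.card_eq_fintype_card, Fintype.card_subtype]
  have key := Finset.card_le_mul_card_image (f := φ) (Finset.univ : Finset ↥L) St.card (by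
    intro a ha
    obtain ⟨g₀, -, hg₀⟩ := Finset.mem_image.1 ha
    apply Finset.card_le_card_of_injOn (fun g : ↥L => (g₀ : GL (Fin 2) F)⁻¹ * (g : GL (Fin 2) F))
    · intro g hg
      have hg' : φ g = a := (Finset.mem_filter.1 hg).2
      rw [hSt]
      simp only [Finset.coe_filter, Finset.mem_univ, true_and, Set.mem_ofPred_eq]
      exact ⟨L.mul_mem (L.inv_mem g₀.2) g.2, hfib g g₀ (hg'.trans hg₀.symm)⟩
    · intro g _ g' _ hgg
      exact Subtype.ext (mul_left_cancel hgg))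
  calc Nat.card ↥L = (Finset.univ : Finset ↥L).card := by
        rw [Nat.card_eq_fintype_card, Finset.card_univ]
    _ ≤ St.card * (Finset.univ.image φ).card := key
    _ ≤ St.card * Fintype.card (Option {x : F // x + σ x = 0}) :=
        Nat.mul_le_mul_left _ (Finset.card_le_univ _)
    _ = (q + 1) * Nat.card {g : GL (Fin 2) F // g ∈ L ∧ (g : Matrix (Fin 2) (Fin 2) F) 1 0 = 0} := by
        rw [hT, hScard, mul_comm]

end Cfsg.Agent.Lib.Helper70.UMon
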