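/-
helper70, project UMON (S5655).  Plane counting in `GL₂`: assembly of PC2-[LOW], [ORB], [BOREL].
-/
import Mathlib
import Cfsg.Agent.Lib.Helper70.UMon.Defs
import Cfsg.Agent.Lib.Helper70.UMon.PC2Low
import Cfsg.Agent.Lib.Helper70.UMon.PC2Orb
import Cfsg.Agent.Lib.Helper70.UMon.PC2Borel

set_option autoImplicit false

namespace Cfsg.Agent.Lib.Helper70.UMon

open Matrix

variable {F : Type*} [Field F] [Fintype F] {σ : F →+* F} {q : ℕ}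

/-- **Plane counting**: a subgroup of `GU₂` containing the full reflection groups of two non-isotropic,
non-orthogonal, non-proportional vectors contains a full root group. -/
theorem pc_two (hC : FCtx σ q) {L : Subgroup (GL (Fin 2) F)}
    (hL : ∀ g ∈ L, ∀ x y, h2 σ ((g : Matrix (Fin 2) (Fin 2) F) *ᵥ x) ((g : Matrix (Fin 2) (Fin 2) F) *ᵥ y) = h2 σ x y)
    {u u' : Fin 2 → F} (hu : h2 σ u u ≠ 0) (hu' : h2 σ u' u' ≠ 0) (huu' : h2 σ u u' ≠ 0)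
    (hgram : h2 σ u u' * h2 σ u' u ≠ h2 σ u u * h2 σ u' u')
    (hR : ∀ ζ : F, ζ * σ ζ = 1 → ∃ g ∈ L, ∀ x,
      (g : Matrix (Fin 2) (Fin 2) F) *ᵥ x = x + ((ζ - 1) / h2 σ u u * h2 σ x u) • u)
    (hR' : ∀ ζ : F, ζ * σ ζ = 1 → ∃ g ∈ L, ∀ x,
      (g : Matrix (Fin 2) (Fin 2) F) *ᵥ x = x + ((ζ - 1) / h2 σ u' u' * h2 σ x u') • u') :
    ∀ β : F, β + σ β = 0 → ∃ g ∈ L, (g : Matrix (Fin 2) (Fin 2) F) = !![1, β; 0, 1] := by
  apply pc2_borel hC hL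
  have h1 := pc2_low hC hL hu hu' huu' hgram hR hR'
  have h2' := pc2_orb hC hL
  have h3 : (q + 1) ^ 2 * Nat.card {g : GL (Fin 2) F // g ∈ L ∧
        ∃ c : F, (g : Matrix (Fin 2) (Fin 2) F) = c • (1 : Matrix (Fin 2) (Fin 2) F)} ≤
      (q + 1) * Nat.card {g : GL (Fin 2) F // g ∈ L ∧ (g : Matrix (Fin 2) (Fin 2) F) 1 0 = 0} :=
    le_trans h1 h2'
  rw [pow_two, mul_assoc] at h3
  exact Nat.le_of_mul_le_mul_left h3 (Nat.succ_pos q)

end Cfsg.Agent.Lib.Helper70.UMon
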