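/-
helper70, project UMON (S5655). MODULE UMON-[LIFT-C].
PLACEHOLDER: exact statement(s) + paper proof; the prover replaces every `sorry` (keep names and statements).
Sheet: Cfsg/Agent/Lib/Helper70/UMon/UMON_SHEET.md

PLANE COUNTING in `GL_n` (the key step of path (A)).  `u, u' ∈ 𝒰_a(M)` (`InU σ M a u`), non-orthogonal, with non-degenerate
span (Gram determinant `≠ 0`).  Then every isotropic vector of `span{u,u'}` lies in `UX σ M` (all its unitary
transvections are in `M`).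

Proof.  Let `ω ∈ P := span{u,u'}` be isotropic; `ω = 0` is trivial (`tvGL σ 0 c = 1`).  Otherwise there is `ω' ∈ P` with
`HP σ ω ω'`: `P` is non-degenerate (Gram determinant), pick `y ∈ P` with `(y,ω) ≠ 0` and use helper37's
`exists_partner` (the partner is `a • y + b • ω ∈ P`); `span{ω,ω'} = P` (dimension 2), so `u = emb ω ω' u₂`,
`u' = emb ω ω' u₂'`.  Let `L₀ ≤ M` be the closure of the corrected reflections of `u, u'` (`InU` gives elements of `M` with
these matrices).  By `planeAct_closure` every `g ∈ L₀` is unitary, preserves `P = range (emb ω ω')`, scales `e_a` by some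
`c`, `c σ c = 1`, and fixes the vectors orthogonal to `P` and `e_a`.  `exists_rho` gives `ρ : L₀ →* GL₂(F)`; `L := range ρ`
satisfies the hypotheses of `pc_two` with `u₂, u₂'` (`hf (emb x) (emb y) = h2 x y` transports `hu hu' huu' hgram`;
`ρ` of the generator `refl σ u ζ * dmat a ζ⁻¹` acts as `x ↦ x + ((ζ-1)/h2 u₂ u₂ * h2 x u₂) • u₂` by injectivity of `emb`).
So for `β + σ β = 0` there is `g ∈ L₀` with `ρ g = !![1, β; 0, 1]`, i.e. `g ω = ω`, `g ω' = β • ω + ω'`: on `P`, `g` agrees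
with `tv σ ω β` (`tv_mulVec`: `x ↦ x + (β * hf σ x ω) • ω`).  `F^n = P ⊕ ⟨e_a⟩ ⊕ {y ⊥ P, y a = 0}`
(`x = p + x a • e_a + y` with `p = hf x ω' • ω + hf x ω • ω'`), and `g^(q+1)` is `tv σ ω ((q+1) β) = tv σ ω β` on `P`
(`q = 0` in `F`: `q_cast_eq_zero`), `c^(q+1) = c σ c = 1` on `e_a`, identity on the rest; hence `g^(q+1) = tvGL σ ω β ∈ M`.
-/
import Mathlib
import Cfsg.Agent.Lib.Helper70.UMon.Defs
import Cfsg.Agent.Lib.Helper70.UMon.Refl
import Cfsg.Agent.Lib.Helper70.UMon.MonoApi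
import Cfsg.Agent.Lib.Helper70.UMon.Field
import Cfsg.Agent.Lib.Helper70.UMon.PC2
import Cfsg.Agent.Lib.Helper70.UMon.LiftA
import Cfsg.Agent.Lib.Helper70.UMon.LiftB

set_option autoImplicit false

namespace Cfsg.Agent.Lib.Helper70.UMon

open Matrix Module Cfsg.Agent.S0837 Cfsg.Agent.S0781 Cfsg.Agent.S2644 Cfsg.Agent.Lib.Helper37
open Cfsg.Agent.Lib.Helper13 (UX)
open Cfsg.Agent.Lib.Helper94.Mono (monGL mem_monGL slGL mem_slGL colMono diagUnit dg dg2)
open Cfsg.Agent.Lib.Helper94.SUSub (MemM)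

variable {F : Type*} [Field F] [Fintype F] {σ : F →+* F} {q n : ℕ}

omit [Fintype F] in
/-- two matrices with the same action on all vectors are equal -/
theorem pcl_matrix_ext {A B : Matrix (Fin n) (Fin n) F} (h : ∀ x, A *ᵥ x = B *ᵥ x) : A = B := by
  apply Matrix.toLin'.injective
  apply LinearMap.ext
  intro x
  rw [Matrix.toLin'_apply, Matrix.toLin'_apply]
  exact h x

omit [Fintype F] in
/-- the transvection along the zero vector is trivial -/
theorem pcl_tvGL_zero (c : F) (hv : hf σ (0 : Fin n → F) 0 = 0) : tvGL σ (0 : Fin n → F) c hv = 1 := by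
  apply Units.ext
  show tv σ (0 : Fin n → F) c = 1
  apply pcl_matrix_ext
  intro x
  rw [tv_mulVec, smul_zero, add_zero, one_mulVec]

omit [Fintype F] in
theorem pcl_emb_add (ω ω' : Fin n → F) (x y : Fin 2 → F) :
    emb ω ω' (x + y) = emb ω ω' x + emb ω ω' y := by
  unfold emb
  rw [Pi.add_apply, Pi.add_apply, add_smul, add_smul]
  abel

omit [Fintype F] in
theorem pcl_emb_smul (ω ω' : Fin n → F) (c : F) (x : Fin 2 → F) :
    emb ω ω' (c • x) = c • emb ω ω' x := by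
  unfold emb
  rw [Pi.smul_apply, Pi.smul_apply, smul_add, smul_smul, smul_smul]
  rfl

omit [Fintype F] in
theorem pcl_mem_span_iff (ω ω' v : Fin n → F) :
    v ∈ Submodule.span F ({ω, ω'} : Set (Fin n → F)) ↔ ∃ x : Fin 2 → F, v = emb ω ω' x := by
  rw [Submodule.mem_span_pair]
  constructor
  · rintro ⟨α, β, rfl⟩
    exact ⟨![α, β], by simp [emb]⟩
  · rintro ⟨x, rfl⟩
    exact ⟨x 0, x 1, rfl⟩

omit [Fintype F] in
/-- non-degeneracy of the plane: a vector of the plane orthogonal to `u`, `u'` vanishes -/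
theorem pcl_nondeg (hσ2 : ∀ a, σ (σ a) = a) {u u' ω : Fin n → F}
    (hgram : hf σ u u' * hf σ u' u ≠ hf σ u u * hf σ u' u')
    (hω : ω ∈ Submodule.span F ({u, u'} : Set (Fin n → F)))
    (h1 : hf σ u ω = 0) (h2 : hf σ u' ω = 0) : ω = 0 := by
  rw [Submodule.mem_span_pair] at hω
  obtain ⟨s, t, rfl⟩ := hω
  rw [hf_add_right, hf_smul_right, hf_smul_right] at h1 h2
  have hdet : hf σ u u * hf σ u' u' - hf σ u u' * hf σ u' u ≠ 0 := fun h =>
    hgram (sub_eq_zero.mp h).symm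
  have hs : σ s * (hf σ u u * hf σ u' u' - hf σ u u' * hf σ u' u) = 0 := by
    linear_combination hf σ u' u' * h1 - hf σ u u' * h2
  have ht : σ t * (hf σ u u * hf σ u' u' - hf σ u u' * hf σ u' u) = 0 := by
    linear_combination hf σ u u * h2 - hf σ u' u * h1
  have hs0 : σ s = 0 := (mul_eq_zero.mp hs).resolve_right hdet
  have ht0 : σ t = 0 := (mul_eq_zero.mp ht).resolve_right hdet
  have hs' : s = 0 := by rw [← hσ2 s, hs0, map_zero]
  have ht' : t = 0 := by rw [← hσ2 t, ht0, map_zero]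
  rw [hs', ht', zero_smul, zero_smul, add_zero]

omit [Fintype F] in
/-- powers of a matrix acting as a transvection on a hyperbolic pair -/
theorem pcl_pow_action {A : Matrix (Fin n) (Fin n) F} {ω ω' e y : Fin n → F} {c κ : F}
    (h1 : A *ᵥ ω = ω) (h2 : A *ᵥ ω' = c • ω + ω') (h3 : A *ᵥ e = κ • e) (h4 : A *ᵥ y = y)
    (k : ℕ) :
    (A ^ k) *ᵥ ω = ω ∧ (A ^ k) *ᵥ ω' = ((k : F) * c) • ω + ω' ∧ (A ^ k) *ᵥ e = κ ^ k • e ∧
      (A ^ k) *ᵥ y = y := by
  induction k with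
  | zero =>
    simp
  | succ k ih =>
    obtain ⟨i1, i2, i3, i4⟩ := ih
    refine ⟨?_, ?_, ?_, ?_⟩
    · rw [pow_succ', ← mulVec_mulVec, i1, h1]
    · rw [pow_succ', ← mulVec_mulVec, i2, mulVec_add, mulVec_smul, h1, h2, ← add_assoc, ← add_smul]
      congr 2
      push_cast
      ring
    · rw [pow_succ', ← mulVec_mulVec, i3, mulVec_smul, h3, smul_smul, pow_succ]
    · rw [pow_succ', ← mulVec_mulVec, i4, h4]

/-- `pc_lift` under the extra assumption `(u, ω) ≠ 0` -/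
theorem pc_lift_aux (hC : FCtx σ q) {M : Subgroup (GL (Fin n) F)} (hMU : M ≤ UG σ n) {a : Fin n}
    {u u' : Fin n → F} (hu : InU σ M a u) (hu' : InU σ M a u') (h1 : hf σ u u' ≠ 0)
    (hgram : hf σ u u' * hf σ u' u ≠ hf σ u u * hf σ u' u')
    {ω : Fin n → F} (hωP : ω ∈ Submodule.span F ({u, u'} : Set (Fin n → F)))
    (hωω : hf σ ω ω = 0) (huω : hf σ u ω ≠ 0) : ω ∈ UX σ M := by
  classical
  have hσ2 : ∀ a, σ (σ a) = a := hC.invol
  have hσne : σ ≠ RingHom.id F := hC.ne_id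
  obtain ⟨hua, huu, hRu⟩ := hu
  obtain ⟨hu'a, hu'u', hRu'⟩ := hu'
  -- coordinates of `ω`
  obtain ⟨s, t, hst⟩ := Submodule.mem_span_pair.mp hωP
  have ht : t ≠ 0 := by
    intro ht0
    rw [ht0, zero_smul, add_zero] at hst
    rw [← hst, hf_smul_left, hf_smul_right] at hωω
    have hs0 : s = 0 := by
      rcases mul_eq_zero.mp hωω with h | h
      · exact h
      · rcases mul_eq_zero.mp h with h | h
        · rw [← hσ2 s, h, map_zero]
        · exact absurd h huu
    apply huω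
    rw [← hst, hs0, zero_smul, hf_zero_right]
  -- the partner
  obtain ⟨a', b', hHP⟩ := exists_partner σ hσne hσ2 ω u hωω huω
  set ω' : Fin n → F := a' • u + b' • ω with hω'def
  have ha' : a' ≠ 0 := by
    intro h0
    have := hHP.vu
    rw [hω'def, h0, zero_smul, zero_add, hf_smul_left, hωω, mul_zero] at this
    exact zero_ne_one this
  have huP : u ∈ Submodule.span F ({u, u'} : Set (Fin n → F)) :=
    Submodule.subset_span (Set.mem_insert _ _)
  have hu'P : u' ∈ Submodule.span F ({u, u'} : Set (Fin n → F)) :=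
    Submodule.subset_span (Set.mem_insert_of_mem _ (Set.mem_singleton _))
  have hω'P : ω' ∈ Submodule.span F ({u, u'} : Set (Fin n → F)) :=
    Submodule.add_mem _ (Submodule.smul_mem _ _ huP) (Submodule.smul_mem _ _ hωP)
  have hωQ : ω ∈ Submodule.span F ({ω, ω'} : Set (Fin n → F)) :=
    Submodule.subset_span (Set.mem_insert _ _)
  have hω'Q : ω' ∈ Submodule.span F ({ω, ω'} : Set (Fin n → F)) :=
    Submodule.subset_span (Set.mem_insert_of_mem _ (Set.mem_singleton _))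
  have huQ : u ∈ Submodule.span F ({ω, ω'} : Set (Fin n → F)) := by
    have : u = a'⁻¹ • (ω' - b' • ω) := by
      rw [hω'def, add_sub_cancel_right, inv_smul_smul₀ ha']
    rw [this]
    exact Submodule.smul_mem _ _ (Submodule.sub_mem _ hω'Q (Submodule.smul_mem _ _ hωQ))
  have hu'Q : u' ∈ Submodule.span F ({ω, ω'} : Set (Fin n → F)) := by
    have : u' = t⁻¹ • (ω - s • u) := by
      rw [← hst, add_sub_cancel_left, inv_smul_smul₀ ht]
    rw [this]
    exact Submodule.smul_mem _ _ (Submodule.sub_mem _ hωQ (Submodule.smul_mem _ _ huQ))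
  obtain ⟨u₂, hu₂⟩ := (pcl_mem_span_iff ω ω' u).mp huQ
  obtain ⟨u₂', hu₂'⟩ := (pcl_mem_span_iff ω ω' u').mp hu'Q
  -- the two planes coincide
  have hPQ : ∀ v, v ∈ Submodule.span F ({u, u'} : Set (Fin n → F)) →
      v ∈ Submodule.span F ({ω, ω'} : Set (Fin n → F)) := by
    intro v hv
    have hle : Submodule.span F ({u, u'} : Set (Fin n → F)) ≤
        Submodule.span F ({ω, ω'} : Set (Fin n → F)) := by
      rw [Submodule.span_le]
      intro z hz
      rcases hz with rfl | hz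
      · exact huQ
      · rw [Set.mem_singleton_iff] at hz; rw [hz]; exact hu'Q
    exact hle hv
  have hembP : ∀ x : Fin 2 → F, emb ω ω' x ∈ Submodule.span F ({u, u'} : Set (Fin n → F)) := by
    intro x
    exact Submodule.add_mem _ (Submodule.smul_mem _ _ hωP) (Submodule.smul_mem _ _ hω'P)
  -- vectors of the plane have vanishing `a`-coordinate
  have hspan0 : ∀ x ∈ Submodule.span F ({u, u'} : Set (Fin n → F)), x a = 0 := by
    intro x hx
    induction hx using Submodule.span_induction with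
    | mem x hx =>
      rcases hx with rfl | hx
      · exact hua
      · rw [Set.mem_singleton_iff] at hx; rw [hx]; exact hu'a
    | zero => rfl
    | add x y _ _ hx hy => rw [Pi.add_apply, hx, hy, add_zero]
    | smul c x _ hx => rw [Pi.smul_apply, hx, smul_zero]
  -- the generating set and the group `L₀`
  set S : Set (GL (Fin n) F) := {g : GL (Fin n) F | ∃ ζ : F, ζ * σ ζ = 1 ∧
        ((g : Matrix (Fin n) (Fin n) F) = refl σ u ζ * dmat a ζ⁻¹ ∨
          (g : Matrix (Fin n) (Fin n) F) = refl σ u' ζ * dmat a ζ⁻¹)} with hSdef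
  have hSM : S ⊆ (M : Set (GL (Fin n) F)) := by
    rintro g ⟨ζ, hζ, h | h⟩
    · obtain ⟨g', hg'M, hg'⟩ := hRu ζ hζ
      have : g = g' := Units.ext (by rw [h, hg'])
      rw [this]; exact hg'M
    · obtain ⟨g', hg'M, hg'⟩ := hRu' ζ hζ
      have : g = g' := Units.ext (by rw [h, hg'])
      rw [this]; exact hg'M
  have hL₀M : Subgroup.closure S ≤ M := (Subgroup.closure_le M).mpr hSM
  have hPA := planeAct_closure hσ2 hua hu'a huu hu'u'
  -- hypotheses of `exists_rho`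
  have hL : ∀ g ∈ Subgroup.closure S,
      (∀ x y, hf σ ((g : Matrix (Fin n) (Fin n) F) *ᵥ x) ((g : Matrix (Fin n) (Fin n) F) *ᵥ y) =
        hf σ x y) ∧
      ∀ x : Fin 2 → F, ∃ y : Fin 2 → F,
        (g : Matrix (Fin n) (Fin n) F) *ᵥ emb ω ω' x = emb ω ω' y := by
    intro g hg
    obtain ⟨p1, p2, -, -⟩ := hPA g hg
    refine ⟨p1, fun x => ?_⟩
    exact (pcl_mem_span_iff ω ω' _).mp (hPQ _ (p2 _ (hembP x)))
  obtain ⟨ρ, hρ1, hρ2⟩ := exists_rho hσ2 hHP hL
  -- transport of the hypotheses of `pc_two`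
  have e_uu : h2 σ u₂ u₂ = hf σ u u := by rw [← hf_emb hσ2 hHP, ← hu₂]
  have e_u'u' : h2 σ u₂' u₂' = hf σ u' u' := by rw [← hf_emb hσ2 hHP, ← hu₂']
  have e_uu' : h2 σ u₂ u₂' = hf σ u u' := by rw [← hf_emb hσ2 hHP, ← hu₂, ← hu₂']
  have e_u'u : h2 σ u₂' u₂ = hf σ u' u := by rw [← hf_emb hσ2 hHP, ← hu₂, ← hu₂']
  have hLρ : ∀ g ∈ ρ.range, ∀ x y, h2 σ ((g : Matrix (Fin 2) (Fin 2) F) *ᵥ x)
      ((g : Matrix (Fin 2) (Fin 2) F) *ᵥ y) = h2 σ x y := by
    rintro g ⟨g₀, rfl⟩ x y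
    exact hρ2 g₀ x y
  -- reflections in the image
  have hRgen : ∀ (v : Fin n → F) (v₂ : Fin 2 → F), v = emb ω ω' v₂ →
      (∀ ζ : F, ζ * σ ζ = 1 → ∃ g ∈ Subgroup.closure S,
        (g : Matrix (Fin n) (Fin n) F) = refl σ v ζ * dmat a ζ⁻¹) →
      ∀ ζ : F, ζ * σ ζ = 1 → ∃ g ∈ ρ.range, ∀ x,
        (g : Matrix (Fin 2) (Fin 2) F) *ᵥ x = x + ((ζ - 1) / h2 σ v₂ v₂ * h2 σ x v₂) • v₂ := by
    intro v v₂ hv hgen ζ hζ
    obtain ⟨g, hgS, hg⟩ := hgen ζ hζ
    refine ⟨ρ ⟨g, hgS⟩, ⟨⟨g, hgS⟩, rfl⟩, fun x => ?_⟩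
    apply emb_injective hσ2 hHP
    rw [← hρ1 ⟨g, hgS⟩ x]
    show (g : Matrix (Fin n) (Fin n) F) *ᵥ emb ω ω' x = _
    rw [hg, ← mulVec_mulVec, dmat_mulVec_of_apply_eq_zero a _ (hspan0 _ (hembP x)), refl_mulVec,
      pcl_emb_add, pcl_emb_smul, ← hv]
    congr 2
    rw [hv, hf_emb hσ2 hHP, hf_emb hσ2 hHP]
  have hR := hRgen u u₂ hu₂ (fun ζ hζ => by
    obtain ⟨g', hg'M, hg'⟩ := hRu ζ hζ
    exact ⟨g', Subgroup.subset_closure ⟨ζ, hζ, Or.inl hg'⟩, hg'⟩)
  have hR' := hRgen u' u₂' hu₂' (fun ζ hζ => by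
    obtain ⟨g', hg'M, hg'⟩ := hRu' ζ hζ
    exact ⟨g', Subgroup.subset_closure ⟨ζ, hζ, Or.inr hg'⟩, hg'⟩)
  have hpc := pc_two hC hLρ (by rw [e_uu]; exact huu) (by rw [e_u'u']; exact hu'u')
    (by rw [e_uu']; exact h1) (by rw [e_uu', e_u'u, e_uu, e_u'u']; exact hgram) hR hR'
  -- now the transvections
  refine ⟨hωω, fun c hc => ?_⟩
  obtain ⟨g₂, ⟨g₀, rfl⟩, hg₂⟩ := hpc c hc
  obtain ⟨-, -, ⟨κ, hκ, hκe⟩, hfixy⟩ := hPA (g₀ : GL (Fin n) F) g₀.2
  have hg₀M : (g₀ : GL (Fin n) F) ∈ M := hL₀M g₀.2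
  -- action on `ω`, `ω'`
  have hω_eq : ω = emb ω ω' ![1, 0] := by simp [emb]
  have hω'_eq : ω' = emb ω ω' ![0, 1] := by simp [emb]
  have hgω : ((g₀ : GL (Fin n) F) : Matrix (Fin n) (Fin n) F) *ᵥ ω = ω := by
    conv_lhs => rw [hω_eq]
    rw [hρ1 g₀, hg₂]
    conv_rhs => rw [hω_eq]
    congr 1
    ext i
    fin_cases i <;> simp [Matrix.mulVec, dotProduct, Fin.sum_univ_two]
  have hgω' : ((g₀ : GL (Fin n) F) : Matrix (Fin n) (Fin n) F) *ᵥ ω' = c • ω + ω' := by
    conv_lhs => rw [hω'_eq]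
    rw [hρ1 g₀, hg₂]
    have : (!![1, c; 0, 1] : Matrix (Fin 2) (Fin 2) F) *ᵥ ![0, 1] = ![c, 1] := by
      ext i
      fin_cases i <;> simp [Matrix.mulVec, dotProduct, Fin.sum_univ_two]
    rw [this]
    simp [emb]
  -- the power
  have hgoal : (g₀ : GL (Fin n) F) ^ (q + 1) = tvGL σ ω c hωω := by
    apply Units.ext
    rw [Units.val_pow_eq_pow_val]
    show ((g₀ : GL (Fin n) F) : Matrix (Fin n) (Fin n) F) ^ (q + 1) = tv σ ω c
    apply pcl_matrix_ext
    intro x
    rw [tv_mulVec]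
    -- decomposition of `x`
    set x' : Fin n → F := x - x a • Pi.single a 1 with hx'def
    have hx'a : x' a = 0 := by
      rw [hx'def, Pi.sub_apply, Pi.smul_apply, Pi.single_eq_same, smul_eq_mul, mul_one, sub_self]
    set y : Fin n → F := pr σ ω ω' x' with hydef
    have hxdec : x = (hf σ x' ω' • ω + hf σ x' ω • ω') + x a • Pi.single a 1 + y := by
      have := pr_eq σ ω ω' x'
      rw [← hydef] at this
      calc x = x' + x a • Pi.single a 1 := by rw [hx'def, sub_add_cancel]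
        _ = (hf σ x' ω' • ω + hf σ x' ω • ω' + y) + x a • Pi.single a 1 := by rw [← this]
        _ = _ := by abel
    have hyω : hf σ y ω = 0 := hf_pr_u σ hHP x'
    have hyω' : hf σ y ω' = 0 := hf_pr_v σ hσ2 hHP x'
    have hyu : hf σ y u = 0 := by
      rw [hu₂]; unfold emb
      rw [hf_add_right, hf_smul_right, hf_smul_right, hyω, hyω', mul_zero, mul_zero, add_zero]
    have hyu' : hf σ y u' = 0 := by
      rw [hu₂']; unfold emb
      rw [hf_add_right, hf_smul_right, hf_smul_right, hyω, hyω', mul_zero, mul_zero, add_zero]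
    have hya : y a = 0 := by
      have hpa : (hf σ x' ω' • ω + hf σ x' ω • ω') a = 0 :=
        hspan0 _ (Submodule.add_mem _ (Submodule.smul_mem _ _ hωP) (Submodule.smul_mem _ _ hω'P))
      have : y = x' - (hf σ x' ω' • ω + hf σ x' ω • ω') := by
        rw [hydef]; unfold pr; abel
      rw [this, Pi.sub_apply, hx'a, hpa, sub_zero]
    have hgy := hfixy y hyu hyu' hya
    obtain ⟨k1, k2, k3, k4⟩ := pcl_pow_action hgω hgω' hκe hgy (q + 1)
    have hκpow : κ ^ (q + 1) = 1 := by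
      rw [pow_succ, ← hC.frob, mul_comm, hκ]
    have hqc : ((q + 1 : ℕ) : F) * c = c := by
      push_cast
      rw [q_cast_eq_zero hC, zero_add, one_mul]
    have hxω : hf σ x ω = hf σ x' ω := by
      have : x = x' + x a • Pi.single a 1 := by rw [hx'def, sub_add_cancel]
      conv_lhs => rw [this]
      rw [hf_add_left, hf_smul_left, hf_single_left, hspan0 ω hωP, map_zero, mul_zero, add_zero]
    conv_lhs => rw [hxdec]
    rw [mulVec_add, mulVec_add, mulVec_add, mulVec_smul, mulVec_smul, mulVec_smul, k1, k2, k3, k4,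
      hκpow, one_smul, hqc, hxω]
    conv_rhs => rw [hxdec]
    rw [smul_add, smul_smul, mul_comm (hf σ x' ω) c]
    abel
  rw [← hgoal]
  exact Subgroup.pow_mem M hg₀M _

theorem pc_lift (hC : FCtx σ q) {M : Subgroup (GL (Fin n) F)} (hMU : M ≤ UG σ n) {a : Fin n}
    {u u' : Fin n → F} (hu : InU σ M a u) (hu' : InU σ M a u') (h1 : hf σ u u' ≠ 0)
    (hgram : hf σ u u' * hf σ u' u ≠ hf σ u u * hf σ u' u') :
    ∀ ω ∈ Submodule.span F ({u, u'} : Set (Fin n → F)), hf σ ω ω = 0 → ω ∈ UX σ M := by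
  intro ω hωP hωω
  have hσ2 : ∀ a, σ (σ a) = a := hC.invol
  by_cases huω : hf σ u ω = 0
  · by_cases hu'ω : hf σ u' ω = 0
    · have hω0 : ω = 0 := pcl_nondeg hσ2 hgram hωP huω hu'ω
      subst hω0
      refine ⟨hωω, fun c _ => ?_⟩
      rw [pcl_tvGL_zero]
      exact M.one_mem
    · -- swap the roles of `u` and `u'`
      have h1' : hf σ u' u ≠ 0 := by
        intro h
        apply h1
        rw [hf_symm σ hσ2, h, map_zero]
      have hgram' : hf σ u' u * hf σ u u' ≠ hf σ u' u' * hf σ u u := by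
        intro h
        apply hgram
        rw [mul_comm, h, mul_comm]
      have hωP' : ω ∈ Submodule.span F ({u', u} : Set (Fin n → F)) := by
        rw [Set.pair_comm]; exact hωP
      exact pc_lift_aux hC hMU hu' hu h1' hgram' hωP' hωω hu'ω
  · exact pc_lift_aux hC hMU hu hu' h1 hgram hωP hωω huω

end Cfsg.Agent.Lib.Helper70.UMon
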