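/-
helper70, project UMON (S5655). MODULE UMON-[COORD-PLANE].
PROVED by helper25 (statement unchanged).
Sheet: Cfsg/Agent/Lib/Helper70/UMon/UMON_SHEET.md

Path (A): `v ∈ 𝒰_a(M)` supported exactly on `{b, c}`.  Then all isotropic vectors of the coordinate plane `⟨e_b, e_c⟩`
are in `UX σ M`.

Proof.  `pc_lift` for the pair `(e_b, v)` (`inU_single`; `b ≠ a` as `v a = 0`): `(e_b, v) = σ (v b) ≠ 0`, Gram condition
`N(v b) ≠ (v,v) = N(v b) + N(v c)` because `v c ≠ 0`.  `span{e_b, v}` contains `e_c = (v c)⁻¹ • (v - v b • e_b)`, hence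
every `ω` supported on `{b,c}` (`ω = ω b • e_b + ω c • e_c`).
-/
import Mathlib
import Cfsg.Agent.Lib.Helper70.UMon.Defs
import Cfsg.Agent.Lib.Helper70.UMon.InUApi
import Cfsg.Agent.Lib.Helper70.UMon.PCLift

set_option autoImplicit false

namespace Cfsg.Agent.Lib.Helper70.UMon

open Matrix Module Cfsg.Agent.S0837 Cfsg.Agent.S0781 Cfsg.Agent.S2644 Cfsg.Agent.Lib.Helper37
open Cfsg.Agent.Lib.Helper13 (UX)
open Cfsg.Agent.Lib.Helper94.Mono (monGL mem_monGL slGL mem_slGL colMono diagUnit dg dg2)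
open Cfsg.Agent.Lib.Helper94.SUSub (MemM)

variable {F : Type*} [Field F] [Fintype F] {σ : F →+* F} {q n : ℕ}

theorem coord_plane (hC : FCtx σ q) {M : Subgroup (GL (Fin n) F)} (hM : Over σ M) {a b c : Fin n}
    {v : Fin n → F} (hv : InU σ M a v) (hbc : b ≠ c) (hvb : v b ≠ 0) (hvc : v c ≠ 0)
    (hsupp : ∀ r, r ≠ b → r ≠ c → v r = 0) :
    ∀ ω : Fin n → F, (∀ r, r ≠ b → r ≠ c → ω r = 0) → hf σ ω ω = 0 → ω ∈ UX σ M := by
  have hσ2 : ∀ a, σ (σ a) = a := hC.invol
  have hMU : M ≤ UG σ n := fun g hg => ((mem_SUn σ).mp (hM.le hg)).1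
  have hva : v a = 0 := hv.1
  have hab : a ≠ b := by
    intro h
    rw [← h] at hvb
    exact hvb hva
  have hvv : hf σ v v = v b * σ (v b) + v c * σ (v c) := by
    unfold hf
    rw [← Finset.add_sum_erase Finset.univ _ (Finset.mem_univ b),
      ← Finset.add_sum_erase _ _ (Finset.mem_erase.mpr ⟨Ne.symm hbc, Finset.mem_univ c⟩)]
    rw [Finset.sum_eq_zero, add_zero]
    intro r hr
    rw [Finset.mem_erase, Finset.mem_erase] at hr
    rw [hsupp r hr.2.1 hr.1, zero_mul]
  have hlift := pc_lift hC hMU (inU_single hσ2 hM hab) hv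
    (by
      rw [hf_single_left]
      exact (map_ne_zero σ).mpr hvb)
    (by
      rw [hf_single_left, hf_single_right, hf_single_single, if_pos rfl, one_mul, hvv]
      intro h
      have h0 : v c * σ (v c) = 0 := by
        linear_combination -h
      exact mul_ne_zero hvc ((map_ne_zero σ).mpr hvc) h0)
  intro ω hω hω0
  apply hlift ω _ hω0
  have hexp : ω = (ω b - ω c * (v c)⁻¹ * v b) • (Pi.single b (1 : F) : Fin n → F) +
      (ω c * (v c)⁻¹) • v := by
    ext r
    simp only [Pi.add_apply, Pi.smul_apply, smul_eq_mul, Pi.single_apply]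
    by_cases hrb : r = b
    · subst hrb
      rw [if_pos rfl]
      ring
    · rw [if_neg hrb, mul_zero, zero_add]
      by_cases hrc : r = c
      · subst hrc
        field_simp
      · rw [hω r hrb hrc, hsupp r hrb hrc, mul_zero]
  rw [hexp]
  apply Submodule.add_mem
  · exact Submodule.smul_mem _ _ (Submodule.subset_span (by simp))
  · exact Submodule.smul_mem _ _ (Submodule.subset_span (by simp))

end Cfsg.Agent.Lib.Helper70.UMon
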