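/-
helper70, project UMON (S5655). MODULE UMON-[CYCLE]  (proved by helper93).
Sheet: Cfsg/Agent/Lib/Helper70/UMon/UMON_SHEET.md

Fullness lemma, step 2 (pure linear algebra).  `X = dg2 m m' ζ = diag(ζ at m, ζ⁻¹ at m', 1 elsewhere)`, `ζ² ≠ 1`, `ζ³ ≠ 1`;
`b` a linearly independent family with `X b_k = c_k • b_{π k}`.  Then every `k` is fixed by `π`, or lies in a 2-cycle and
then `ζ⁴ = 1` and `b_k` is supported on `{m, m'}`.

Proof.  `X` satisfies `(X-1)(X-ζ)(X-ζ⁻¹) = 0`, i.e. `X³ = (1+τ) X² - (1+τ) X + 1`, `τ = ζ + ζ⁻¹` (diagonal matrix; check on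
each coordinate via `dg2_mulVec`).  All `c_k ≠ 0` (`X` invertible, `b_k ≠ 0`).  Let `π k ≠ k`.
`X^i b_k = (c_k c_{πk} ⋯ c_{π^{i-1} k}) • b_{π^i k}`.
* if `k, πk, π²k, π³k` are pairwise distinct: `X³ b_k` is a non-zero multiple of `b_{π³k}` but also lies in
  `span{b_k, b_{πk}, b_{π²k}}`: contradiction with independence.  (Since `π` is injective, distinctness reduces to
  `π²k ≠ k` and `π³k ≠ k`.)
* if `π³k = k` (and `π²k ≠ k`): `C b_k = (1+τ) c_k c_{πk} b_{π²k} - (1+τ) c_k b_{πk} + b_k` forces `1 + τ = 0`, i.e.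
  `ζ² + ζ + 1 = 0`, so `ζ³ = 1`: excluded.
* if `π²k = k`: with `C₂ = c_k c_{πk}`: `C₂ c_k b_{πk} = (1+τ) C₂ b_k - (1+τ) c_k b_{πk} + b_k` gives `C₂ = -(1+τ)` and
  `(1+τ) C₂ + 1 = 0`, so `(1+τ)² = 1`, `τ (τ+2) = 0`.  `τ = -2` means `(ζ+1)² = 0`, `ζ = -1`, `ζ² = 1`: excluded.  So `τ = 0`:
  `ζ² = -1`, `ζ⁴ = 1`, `C₂ = -1`, i.e. `X² b_k = - b_k`.  For `r ≠ m, m'`: `(X² b_k) r = b_k r`, so `2 b_k r = 0`; and `2 ≠ 0`
  (otherwise `ζ² = -1 = 1`).  Hence `b_k r = 0`.
-/
import Mathlib
import Cfsg.Agent.Lib.Helper70.UMon.Defs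
import Cfsg.Agent.Lib.Helper70.UMon.MonoApi

set_option autoImplicit false

namespace Cfsg.Agent.Lib.Helper70.UMon

open Matrix Module Cfsg.Agent.S0837 Cfsg.Agent.S0781 Cfsg.Agent.S2644 Cfsg.Agent.Lib.Helper37
open Cfsg.Agent.Lib.Helper13 (UX)
open Cfsg.Agent.Lib.Helper94.Mono (monGL mem_monGL slGL mem_slGL colMono diagUnit dg dg2)
open Cfsg.Agent.Lib.Helper94.SUSub (MemM)

variable {F : Type*} [Field F] {n : ℕ}

/-- the diagonal entries of `dg2 m m' ζ` -/
def cycD (m m' : Fin n) (ζ : Fˣ) (r : Fin n) : F :=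
  if r = m' then ((ζ⁻¹ : Fˣ) : F) else if r = m then (ζ : F) else 1

theorem cycD_mulVec {m m' : Fin n} (hmm : m ≠ m') (ζ : Fˣ) (v : Fin n → F) (r : Fin n) :
    (((dg2 m m' ζ : GL (Fin n) F) : Matrix (Fin n) (Fin n) F) *ᵥ v) r = cycD m m' ζ r * v r := by
  rw [dg2_mulVec hmm]
  unfold cycD
  by_cases hr' : r = m'
  · subst hr'
    rw [Function.update_self, if_pos rfl]
  · rw [Function.update_of_ne hr', if_neg hr']
    by_cases hr : r = m
    · subst hr
      rw [Function.update_self, if_pos rfl]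
    · rw [Function.update_of_ne hr, if_neg hr, one_mul]

theorem cycD_cubic (m m' : Fin n) (ζ : Fˣ) (r : Fin n) :
    cycD m m' ζ r ^ 3 = (1 + ((ζ : F) + ((ζ⁻¹ : Fˣ) : F))) * cycD m m' ζ r ^ 2 -
      (1 + ((ζ : F) + ((ζ⁻¹ : Fˣ) : F))) * cycD m m' ζ r + 1 := by
  have hinv : (ζ : F) * ((ζ⁻¹ : Fˣ) : F) = 1 := by
    rw [← Units.val_mul, mul_inv_cancel, Units.val_one]
  unfold cycD
  split_ifs
  · linear_combination (1 - ((ζ⁻¹ : Fˣ) : F)) * hinv
  · linear_combination (1 - (ζ : F)) * hinv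
  · ring

theorem cycle_cases {m m' : Fin n} (hmm : m ≠ m') (ζ : Fˣ) (h2 : (ζ : F) ^ 2 ≠ 1) (h3 : (ζ : F) ^ 3 ≠ 1)
    (b : Fin n → Fin n → F) (hb : LinearIndependent F b) (π : Equiv.Perm (Fin n)) (c : Fin n → F)
    (hx : ∀ k, ((dg2 m m' ζ : GL (Fin n) F) : Matrix (Fin n) (Fin n) F) *ᵥ b k = c k • b (π k)) :
    ∀ k, π k = k ∨ (π (π k) = k ∧ (ζ : F) ^ 4 = 1 ∧ ∀ r, r ≠ m → r ≠ m' → b k r = 0) := by
  classical
  intro k
  by_cases hk : π k = k
  · exact Or.inl hk
  right
  have hinv : (ζ : F) * ((ζ⁻¹ : Fˣ) : F) = 1 := by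
    rw [← Units.val_mul, mul_inv_cancel, Units.val_one]
  have hζ0 : (ζ : F) ≠ 0 := ζ.ne_zero
  have hd0 : ∀ r, cycD m m' ζ r ≠ 0 := by
    intro r
    unfold cycD
    split_ifs
    · exact (ζ⁻¹).ne_zero
    · exact hζ0
    · exact one_ne_zero
  -- all `c k ≠ 0`
  have hc0 : ∀ j, c j ≠ 0 := by
    intro j hcj
    have h0 : ((dg2 m m' ζ : GL (Fin n) F) : Matrix (Fin n) (Fin n) F) *ᵥ b j = 0 := by
      rw [hx j, hcj, zero_smul]
    have hbj : b j = 0 := by
      funext r
      have := congrFun h0 r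
      rw [cycD_mulVec hmm, Pi.zero_apply] at this
      exact (mul_eq_zero.1 this).resolve_left (hd0 r)
    exact hb.ne_zero j hbj
  set τ : F := (ζ : F) + ((ζ⁻¹ : Fˣ) : F) with hτ
  set k1 := π k with hk1
  set k2 := π k1 with hk2
  set k3 := π k2 with hk3
  -- the powers of `X` on `b k`
  have hX1 : ∀ r, cycD m m' ζ r * b k r = c k * b k1 r := by
    intro r
    rw [← cycD_mulVec hmm, hx k, Pi.smul_apply, smul_eq_mul]
  have hX2 : ∀ r, cycD m m' ζ r * b k1 r = c k1 * b k2 r := by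
    intro r
    rw [← cycD_mulVec hmm, hx k1, Pi.smul_apply, smul_eq_mul]
  have hX3 : ∀ r, cycD m m' ζ r * b k2 r = c k2 * b k3 r := by
    intro r
    rw [← cycD_mulVec hmm, hx k2, Pi.smul_apply, smul_eq_mul]
  -- the cubic relation
  have hrel : (c k * c k1 * c k2) • b k3 + (-(1 + τ) * (c k * c k1)) • b k2 +
      ((1 + τ) * c k) • b k1 + (-1 : F) • b k = 0 := by
    funext r
    simp only [Pi.add_apply, Pi.smul_apply, smul_eq_mul, Pi.zero_apply]
    have hp := cycD_cubic m m' ζ r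
    rw [← hτ] at hp
    have e1 := hX1 r
    have e2 := hX2 r
    have e3 := hX3 r
    -- d³ b = c c1 c2 b3, d² b = c c1 b2, d b = c b1
    have q1 : cycD m m' ζ r ^ 2 * b k r = c k * c k1 * b k2 r := by
      calc cycD m m' ζ r ^ 2 * b k r = cycD m m' ζ r * (cycD m m' ζ r * b k r) := by ring
        _ = c k * (cycD m m' ζ r * b k1 r) := by rw [e1]; ring
        _ = c k * c k1 * b k2 r := by rw [e2]; ring
    have q2 : cycD m m' ζ r ^ 3 * b k r = c k * c k1 * c k2 * b k3 r := by
      calc cycD m m' ζ r ^ 3 * b k r = cycD m m' ζ r * (cycD m m' ζ r ^ 2 * b k r) := by ring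
        _ = c k * c k1 * (cycD m m' ζ r * b k2 r) := by rw [q1]; ring
        _ = c k * c k1 * c k2 * b k3 r := by rw [e3]; ring
    linear_combination -q2 + (1 + τ) * q1 - (1 + τ) * e1 + (b k r) * hp
  -- as a linear combination
  set g : Fin n → F := Pi.single k3 (c k * c k1 * c k2) + Pi.single k2 (-(1 + τ) * (c k * c k1)) +
      Pi.single k1 ((1 + τ) * c k) + Pi.single k (-1 : F) with hg
  have hgsum : ∑ i, g i • b i = 0 := by
    rw [← hrel, hg]
    simp only [Pi.add_apply, add_smul, Finset.sum_add_distrib, Pi.single_apply, ite_smul, zero_smul,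
      Finset.sum_ite_eq', Finset.mem_univ, if_true]
  have hg0 : ∀ i, g i = 0 := Fintype.linearIndependent_iff.1 hb g hgsum
  have h12 : k2 ≠ k1 := fun h => hk (π.injective h)
  have h23 : k3 ≠ k2 := fun h => h12 (π.injective h)
  by_cases h20 : k2 = k
  · -- 2-cycle
    have h31 : k3 = k1 := by rw [hk3, h20]
    have e1 := hg0 k1
    have e0 := hg0 k
    have hk1k : k1 ≠ k := hk
    simp only [hg, Pi.add_apply, Pi.single_apply, h31, h20, if_true, if_neg hk1k,
      if_neg (Ne.symm hk1k)] at e1 e0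
    -- e1 : c k * c k1 * c k + 0 + (1+τ) * c k + 0 = 0 ; e0 : 0 + -(1+τ)(c k c k1) + 0 + -1 = 0
    have hC2 : c k * c k1 = -(1 + τ) := by
      have : c k * (c k * c k1 + (1 + τ)) = 0 := by linear_combination e1
      rcases mul_eq_zero.1 this with h | h
      · exact absurd h (hc0 k)
      · linear_combination h
    have hτ2 : τ * (τ + 2) = 0 := by
      rw [hC2] at e0
      linear_combination e0
    have hτ0 : τ = 0 := by
      rcases mul_eq_zero.1 hτ2 with h | h
      · exact h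
      · exfalso
        -- ζ + ζ⁻¹ = -2 → (ζ+1)² = 0
        have h' : ((ζ : F) + 1) ^ 2 = 0 := by
          have : (ζ : F) * (τ + 2) = 0 := by rw [h, mul_zero]
          rw [hτ] at this
          linear_combination this - hinv
        have h'' : (ζ : F) = -1 := by
          have := pow_eq_zero_iff (two_ne_zero) |>.1 h'
          linear_combination this
        apply h2
        rw [h'']
        ring
    have hζ2 : (ζ : F) ^ 2 = -1 := by
      have : (ζ : F) * τ = 0 := by rw [hτ0, mul_zero]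
      rw [hτ] at this
      linear_combination this - hinv
    have htwo : (2 : F) ≠ 0 := by
      intro h
      apply h2
      rw [hζ2]
      linear_combination -h
    refine ⟨h20, ?_, ?_⟩
    · have : (ζ : F) ^ 4 = ((ζ : F) ^ 2) ^ 2 := by ring
      rw [this, hζ2]
      ring
    · intro r hr hr'
      have hd1 : cycD m m' ζ r = 1 := by
        unfold cycD
        rw [if_neg hr', if_neg hr]
      have e1r := hX1 r
      have e2r := hX2 r
      rw [hd1, one_mul] at e1r e2r
      rw [h20] at e2r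
      -- b k r = c k * b k1 r, b k1 r = c k1 * b k r
      have : (2 : F) * b k r = 0 := by
        have h5 : b k r = c k * c k1 * b k r := by
          calc b k r = c k * b k1 r := e1r
            _ = c k * (c k1 * b k r) := by rw [e2r]
            _ = c k * c k1 * b k r := by ring
        rw [hC2, hτ0] at h5
        linear_combination h5
      exact (mul_eq_zero.1 this).resolve_left htwo
  · exfalso
    have h13 : k3 ≠ k1 := fun h => h20 (π.injective h)
    by_cases h30 : k3 = k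
    · -- 3-cycle: coefficient at k1
      have e1 := hg0 k1
      have hk1k : k1 ≠ k := hk
      simp only [hg, Pi.add_apply, Pi.single_apply, if_neg (Ne.symm h13), if_neg (Ne.symm h12),
        if_true, if_neg hk1k] at e1
      have : (1 + τ) * c k = 0 := by linear_combination e1
      rcases mul_eq_zero.1 this with h | h
      · apply h3
        have : (ζ : F) * (1 + τ) = 0 := by rw [h, mul_zero]
        rw [hτ] at this
        have h' : (ζ : F) ^ 2 + (ζ : F) + 1 = 0 := by linear_combination this - hinv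
        linear_combination ((ζ : F) - 1) * h'
      · exact hc0 k h
    · -- 4 distinct: coefficient at k3
      have e3 := hg0 k3
      simp only [hg, Pi.add_apply, Pi.single_apply, if_true, if_neg h23, if_neg h13, if_neg h30] at e3
      have : c k * c k1 * c k2 = 0 := by linear_combination e3
      rcases mul_eq_zero.1 this with h | h
      · rcases mul_eq_zero.1 h with h | h
        · exact hc0 k h
        · exact hc0 k1 h
      · exact hc0 k2 h

end Cfsg.Agent.Lib.Helper70.UMon
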