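/-
helper70, project UMON (S5655). MODULE UMON-[DESC-STEP].
PLACEHOLDER: exact statement(s) + paper proof; the prover replaces every `sorry` (keep names and statements).
Sheet: Cfsg/Agent/Lib/Helper70/UMon/UMON_SHEET.md

Descent step of path (A): `u ∈ 𝒰_a(M)`, `u b ≠ 0` and `N(u b) = u b * σ (u b) ≠ (u,u)`.  Then `u - u b • e_b ∈ 𝒰_a(M)`
(the support loses `b`).

Proof.  `b ≠ a` (`u a = 0`).  `e_b ∈ 𝒰_a(M)` (`inU_single`).  `(e_b, u) = σ (u b) ≠ 0` and the Gram condition of `pc_lift`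
for `(e_b, u)` reads `σ(u b) * u b ≠ 1 * (u,u)`: our hypothesis.  So all isotropic vectors of `P := span{e_b, u}` are in
`UX σ M`.  `P` has dimension 2 (`u ∉ ⟨e_b⟩`, else `(u,u) = N(u b)`) and is non-degenerate (Gram determinant
`(u,u) - N(u b) ≠ 0`).  `v := u - u b • e_b ∈ P`, `(v, e_b) = 0`, `(v,v) = (u,u) - N(u b) ≠ 0`, `v a = 0`.
For `ζ σ ζ = 1`: `g := refl σ v ζ * dmat b ζ⁻¹` (= `refl σ v ζ * refl σ e_b ζ⁻¹`) is unitary (`refl_unitary`), has
determinant `ζ ζ⁻¹ = 1` (`refl_det`), and fixes every `y ⊥ P` (`refl_fix`), so `g ∈ M` by `su2gen`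
(build the `GL` element from `g` and its inverse `refl σ v ζ⁻¹ * dmat b ζ`).  Hence
`refl σ v ζ * dmat a ζ⁻¹ = g * (dmat b ζ * dmat a ζ⁻¹)`, and the last factor is the matrix of `dg2 b a ζ ∈ NU σ n ≤ M`.
-/
import Mathlib
import Cfsg.Agent.Lib.Helper70.UMon.Defs
import Cfsg.Agent.Lib.Helper70.UMon.Refl
import Cfsg.Agent.Lib.Helper70.UMon.MonoApi
import Cfsg.Agent.Lib.Helper70.UMon.InUApi
import Cfsg.Agent.Lib.Helper70.UMon.PCLift
import Cfsg.Agent.Lib.Helper70.UMon.SU2Gen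

set_option autoImplicit false

namespace Cfsg.Agent.Lib.Helper70.UMon

open Matrix Module Cfsg.Agent.S0837 Cfsg.Agent.S0781 Cfsg.Agent.S2644 Cfsg.Agent.Lib.Helper37
open Cfsg.Agent.Lib.Helper13 (UX)
open Cfsg.Agent.Lib.Helper94.Mono (monGL mem_monGL slGL mem_slGL colMono diagUnit dg dg2)
open Cfsg.Agent.Lib.Helper94.SUSub (MemM)

variable {F : Type*} [Field F] [Fintype F] {σ : F →+* F} {q n : ℕ}

theorem desc_step (hC : FCtx σ q) {M : Subgroup (GL (Fin n) F)} (hM : Over σ M) {a b : Fin n}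
    {u : Fin n → F} (hu : InU σ M a u) (hb : u b ≠ 0) (hgram : u b * σ (u b) ≠ hf σ u u) :
    InU σ M a (u - u b • Pi.single b 1) := by
  have hσ2 := hC.invol
  have hσ := hC.ne_id
  have hua : u a = 0 := hu.1
  have hab : a ≠ b := by
    rintro rfl
    exact hb hua
  have hMU : M ≤ UG σ n := fun g hg => ((mem_SUn σ).1 (hM.le hg)).1
  have heb : InU σ M a (Pi.single b 1) := inU_single hσ2 hM hab
  -- form values
  have h_eb_u : hf σ (Pi.single b 1) u = σ (u b) := hf_single_left σ b u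
  have h_u_eb : hf σ u (Pi.single b 1) = u b := hf_single_right σ u b
  have h_eb_eb : hf σ (Pi.single b (1 : F)) (Pi.single b 1) = 1 := by
    rw [hf_single_single]; simp
  have hσb : σ (u b) ≠ 0 := (map_ne_zero σ).2 hb
  have hD : hf σ u u - u b * σ (u b) ≠ 0 := sub_ne_zero.2 (Ne.symm hgram)
  -- the plane
  have hX : ∀ ω ∈ Submodule.span F ({Pi.single b 1, u} : Set (Fin n → F)), hf σ ω ω = 0 →
      ω ∈ UX σ M := by
    apply pc_lift hC hMU heb hu
    · rw [h_eb_u]; exact hσb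
    · rw [h_eb_u, h_u_eb, h_eb_eb, one_mul, mul_comm]; exact hgram
  have hcoef : ∀ α β : F, (∀ v ∈ Submodule.span F ({Pi.single b 1, u} : Set (Fin n → F)),
      hf σ (α • Pi.single b 1 + β • u) v = 0) → α = 0 ∧ β = 0 := by
    intro α β h
    have h1 := h (Pi.single b 1) (Submodule.subset_span (by simp))
    have h2 := h u (Submodule.subset_span (by simp))
    rw [hf_add_left, hf_smul_left, hf_smul_left, h_eb_eb, h_u_eb] at h1
    rw [hf_add_left, hf_smul_left, hf_smul_left, h_eb_u] at h2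
    have hβ : β * (hf σ u u - u b * σ (u b)) = 0 := by
      linear_combination h2 - σ (u b) * h1
    have hβ0 : β = 0 := (mul_eq_zero.1 hβ).resolve_right hD
    refine ⟨?_, hβ0⟩
    rw [hβ0] at h1
    linear_combination h1
  have hPnd : ∀ x ∈ Submodule.span F ({Pi.single b 1, u} : Set (Fin n → F)),
      (∀ v ∈ Submodule.span F ({Pi.single b 1, u} : Set (Fin n → F)), hf σ x v = 0) → x = 0 := by
    intro x hx h
    obtain ⟨α, β, rfl⟩ := Submodule.mem_span_pair.1 hx
    obtain ⟨hα, hβ⟩ := hcoef α β h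
    rw [hα, hβ, zero_smul, zero_smul, add_zero]
  have hli : LinearIndependent F ![(Pi.single b 1 : Fin n → F), u] := by
    rw [LinearIndependent.pair_iff]
    intro α β h
    apply hcoef α β
    intro v _
    rw [h, hf_zero_left]
  have hP2 : finrank F (Submodule.span F ({Pi.single b 1, u} : Set (Fin n → F))) = 2 := by
    have := finrank_span_eq_card hli
    rw [Matrix.range_cons_cons_empty] at this
    rw [this]; simp
  -- the new vector
  set v : Fin n → F := u - u b • Pi.single b 1 with hv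
  have hvP : v ∈ Submodule.span F ({Pi.single b 1, u} : Set (Fin n → F)) :=
    Submodule.sub_mem _ (Submodule.subset_span (by simp))
      (Submodule.smul_mem _ _ (Submodule.subset_span (by simp)))
  have hva : v a = 0 := by
    rw [hv, Pi.sub_apply, Pi.smul_apply, Pi.single_eq_of_ne hab, hua, smul_zero, sub_zero]
  have hve : hf σ v (Pi.single b 1) = 0 := by
    rw [hv, hf_sub_left, hf_smul_left, h_u_eb, h_eb_eb, mul_one, sub_self]
  have hvu : hf σ v u = hf σ u u - u b * σ (u b) := by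
    rw [hv, hf_sub_left, hf_smul_left, h_eb_u]
  have hvv : hf σ v v = hf σ u u - u b * σ (u b) := by
    have : hf σ v v = hf σ v u - σ (u b) * hf σ v (Pi.single b 1) := by
      conv_lhs => rw [hv]
      rw [← hv, hf_sub_right, hf_smul_right]
    rw [this, hve, mul_zero, sub_zero, hvu]
  have hvv0 : hf σ v v ≠ 0 := by rw [hvv]; exact hD
  refine ⟨hva, hvv0, ?_⟩
  intro ζ hζ
  have hζ0 : ζ ≠ 0 := by
    rintro rfl
    simp at hζ
  have hζi : ζ⁻¹ * σ ζ⁻¹ = 1 := by
    rw [map_inv₀, ← mul_inv, hζ, inv_one]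
  have he1 : hf σ (Pi.single b (1 : F)) (Pi.single b 1) ≠ 0 := by rw [h_eb_eb]; exact one_ne_zero
  -- the element `g = R_v(ζ) R_{e_b}(ζ⁻¹)` of `SU(P)`
  have hGdet : (refl σ v ζ * dmat b ζ⁻¹).det = 1 := by
    rw [Matrix.det_mul, refl_det hvv0, ← refl_single (σ := σ) b ζ⁻¹, refl_det he1,
      mul_inv_cancel₀ hζ0]
  set g : GL (Fin n) F := Matrix.GeneralLinearGroup.mkOfDetNeZero (refl σ v ζ * dmat b ζ⁻¹)
    (by rw [hGdet]; exact one_ne_zero) with hg
  have hgval : (g : Matrix (Fin n) (Fin n) F) = refl σ v ζ * dmat b ζ⁻¹ := rfl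
  have hgU : g ∈ UG σ n := by
    intro x y
    rw [hgval, ← mulVec_mulVec, ← mulVec_mulVec, refl_unitary hσ2 hvv0 hζ,
      ← refl_single (σ := σ) b ζ⁻¹, refl_unitary hσ2 he1 hζi]
  have hgfix : ∀ y, (∀ w ∈ Submodule.span F ({Pi.single b 1, u} : Set (Fin n → F)), hf σ y w = 0) →
      (g : Matrix (Fin n) (Fin n) F) *ᵥ y = y := by
    intro y hy
    have h1 : hf σ y (Pi.single b 1) = 0 := hy _ (Submodule.subset_span (by simp))
    have h2 : hf σ y v = 0 := hy _ hvP
    rw [hgval, ← mulVec_mulVec, ← refl_single (σ := σ) b ζ⁻¹, refl_fix h1, refl_fix h2]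
  have hgM : g ∈ M := su2gen hσ hσ2 hP2 hPnd hX hgU (by rw [hgval]; exact hGdet) hgfix
  -- the diagonal correction
  have hζu : ((Units.mk0 ζ hζ0 : Fˣ) : F) * σ ((Units.mk0 ζ hζ0 : Fˣ) : F) = 1 := hζ
  have hdM : (dg2 b a (Units.mk0 ζ hζ0) : GL (Fin n) F) ∈ M :=
    hM.ge (dg2_mem_NU (Ne.symm hab) hζu)
  have hmul := (MemM.of_mem hgM).mul (MemM.of_mem hdM)
  have heq : (g : Matrix (Fin n) (Fin n) F) *
      ((dg2 b a (Units.mk0 ζ hζ0) : GL (Fin n) F) : Matrix (Fin n) (Fin n) F)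
      = refl σ v ζ * dmat a ζ⁻¹ := by
    rw [hgval, dg2_val, Units.val_inv_eq_inv_val, Units.val_mk0, Matrix.mul_assoc,
      ← Matrix.mul_assoc (dmat b ζ⁻¹), dmat_mul_same, inv_mul_cancel₀ hζ0, dmat_one, Matrix.one_mul]
  rw [heq] at hmul
  exact hmul

end Cfsg.Agent.Lib.Helper70.UMon
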