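/-
helper70, project UMON (S5655). MODULE UMON-[REPAIR].
PROVED by helper25 (statement unchanged).
Sheet: Cfsg/Agent/Lib/Helper70/UMon/UMON_SHEET.md

Repair step of path (A): `u ∈ 𝒰_a(M)` with at least two non-zero coordinates all of which have norm `N(u b) = (u,u)`
(so the descent step does not apply).  Then there is `y ∈ 𝒰_a(M)` with the same support and a coordinate `c` with
`N(y c) ≠ (y,y)`.

Proof.  Let `α = (u,u)`, `b ≠ c` in the support.  By `exists_mu_trace_ne` (`q ≥ 3`) pick `ζ`, `ζ σ ζ = 1`, `ζ ≠ 1`,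
`ζ + σ ζ ≠ 1`.  `y := refl σ u ζ *ᵥ e_b ∈ 𝒰_a(M)` (`inU_single`, `inU_refl`; `b ≠ a` since `u a = 0`).  By `refl_mulVec`
`y = e_b + ((ζ-1) σ(u b)/α) • u`: `y b = 1 + (ζ-1) N(u b)/α = ζ ≠ 0`; for `r ≠ b`: `y r = (ζ-1) σ(u b) u r / α`, non-zero iff
`u r ≠ 0`; so `supp y = supp u`.  `(y,y) = (e_b,e_b) = 1` (unitarity) and
`N(y c) = N(ζ-1) N(u b) N(u c)/α² = (ζ-1)(σ ζ - 1) = 2 - (ζ + σ ζ) ≠ 1`.
-/
import Mathlib
import Cfsg.Agent.Lib.Helper70.UMon.Defs
import Cfsg.Agent.Lib.Helper70.UMon.Refl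
import Cfsg.Agent.Lib.Helper70.UMon.MonoApi
import Cfsg.Agent.Lib.Helper70.UMon.InUApi
import Cfsg.Agent.Lib.Helper70.UMon.Field

set_option autoImplicit false

namespace Cfsg.Agent.Lib.Helper70.UMon

open Matrix Module Cfsg.Agent.S0837 Cfsg.Agent.S0781 Cfsg.Agent.S2644 Cfsg.Agent.Lib.Helper37
open Cfsg.Agent.Lib.Helper13 (UX)
open Cfsg.Agent.Lib.Helper94.Mono (monGL mem_monGL slGL mem_slGL colMono diagUnit dg dg2)
open Cfsg.Agent.Lib.Helper94.SUSub (MemM)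

variable {F : Type*} [Field F] [Fintype F] {σ : F →+* F} {q n : ℕ}

theorem repair (hC : FCtx σ q) (hq : 3 ≤ q) {M : Subgroup (GL (Fin n) F)} (hM : Over σ M) {a : Fin n}
    {u : Fin n → F} (hu : InU σ M a u) (hall : ∀ b, u b ≠ 0 → u b * σ (u b) = hf σ u u)
    (h2 : ∃ b c, b ≠ c ∧ u b ≠ 0 ∧ u c ≠ 0) :
    ∃ y : Fin n → F, InU σ M a y ∧ (∀ r, y r ≠ 0 ↔ u r ≠ 0) ∧ ∃ c, y c ≠ 0 ∧ y c * σ (y c) ≠ hf σ y y := by
  have hσ2 : ∀ a, σ (σ a) = a := hC.invol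
  have hMU : M ≤ UG σ n := fun g hg => ((mem_SUn σ).mp (hM.le hg)).1
  obtain ⟨b, c, hbc, hub, huc⟩ := h2
  obtain ⟨ζ, hζ, hζ1, hζtr⟩ := exists_mu_trace_ne hC hq (1 : F)
  have hua : u a = 0 := hu.1
  have hα : hf σ u u ≠ 0 := hu.2.1
  have hab : a ≠ b := by
    intro h
    rw [← h] at hub
    exact hub hua
  have hζ0 : (ζ : F) ≠ 0 := ζ.ne_zero
  have hy : InU σ M a (refl σ u (ζ : F) *ᵥ Pi.single b 1) :=
    inU_refl hσ2 hMU hu (inU_single hσ2 hM hab) hζ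
  -- the coefficient
  obtain ⟨k, hk⟩ : ∃ k : F, k = ((ζ : F) - 1) / hf σ u u * σ (u b) := ⟨_, rfl⟩
  have hk0 : k ≠ 0 := by
    rw [hk]
    exact mul_ne_zero (div_ne_zero (sub_ne_zero.mpr hζ1) hα) ((map_ne_zero σ).mpr hub)
  have hyr : ∀ r, (refl σ u (ζ : F) *ᵥ Pi.single b 1) r = (Pi.single b (1 : F) : Fin n → F) r + k * u r := by
    intro r
    rw [refl_mulVec, hf_single_left, Pi.add_apply, Pi.smul_apply, smul_eq_mul, hk]
  have hyb : (refl σ u (ζ : F) *ᵥ Pi.single b 1) b = (ζ : F) := by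
    rw [hyr, Pi.single_eq_same, hk]
    have h3 : ((ζ : F) - 1) / hf σ u u * σ (u b) * u b = (ζ : F) - 1 := by
      rw [mul_assoc, mul_comm (σ (u b)), hall b hub]
      field_simp
    rw [h3]
    ring
  have hyne : ∀ r, r ≠ b → (refl σ u (ζ : F) *ᵥ Pi.single b 1) r = k * u r := by
    intro r hr
    rw [hyr, Pi.single_apply, if_neg hr, zero_add]
  refine ⟨_, hy, ?_, c, ?_, ?_⟩
  · intro r
    by_cases hr : r = b
    · subst hr
      rw [hyb]
      exact ⟨fun _ => hub, fun _ => hζ0⟩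
    · rw [hyne r hr]
      constructor
      · intro h hur
        rw [hur, mul_zero] at h
        exact h rfl
      · intro h
        exact mul_ne_zero hk0 h
  · rw [hyne c (Ne.symm hbc)]
    exact mul_ne_zero hk0 huc
  · rw [refl_unitary hσ2 hα hζ, hf_single_single, if_pos rfl, hyne c (Ne.symm hbc)]
    have hσα : σ (hf σ u u) = hf σ u u := hf_self_fixed σ hσ2 u
    have hσζ : σ (ζ : F) = (ζ : F)⁻¹ := mu_inv hζ
    have hkk : k * u c * σ (k * u c) = ((ζ : F) - 1) * (σ (ζ : F) - 1) := by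
      rw [hk]
      simp only [map_mul, map_div₀, map_sub, map_one, hσ2, hσα]
      have e1 : u b * σ (u b) = hf σ u u := hall b hub
      have e2 : u c * σ (u c) = hf σ u u := hall c huc
      have : ((ζ : F) - 1) / hf σ u u * σ (u b) * u c *
          ((σ (ζ : F) - 1) / hf σ u u * u b * σ (u c)) =
          ((ζ : F) - 1) * (σ (ζ : F) - 1) * (u b * σ (u b)) * (u c * σ (u c)) /
            (hf σ u u * hf σ u u) := by
        field_simp
      rw [this, e1, e2]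
      field_simp
    rw [hkk]
    intro h
    apply hζtr
    have h4 : ((ζ : F) - 1) * (σ (ζ : F) - 1) = (ζ : F) * σ (ζ : F) - ((ζ : F) + σ (ζ : F)) + 1 := by ring
    rw [h4, hζ] at h
    linear_combination -h

end Cfsg.Agent.Lib.Helper70.UMon
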