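/-
helper70, project UMON (S5655). MODULE UMON-[DESC].
PLACEHOLDER: exact statement(s) + paper proof; the prover replaces every `sorry` (keep names and statements).
Sheet: Cfsg/Agent/Lib/Helper70/UMon/UMON_SHEET.md

Descent of path (A): from `u ∈ 𝒰_a(M)` with at least two non-zero coordinates to `v ∈ 𝒰_a(M)` with exactly two.

Proof.  Strong induction on `(supp u).card` (`supp`, `mem_supp` in Defs).  If the support has exactly two elements, done.
Otherwise (`≥ 3`): if some `b` in the support has `N(u b) ≠ (u,u)` apply `desc_step`: `u - u b • e_b ∈ 𝒰_a(M)` has support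
`supp u \ {b}` (still `≥ 2` elements); if not, `repair` gives `y` with the same support and such a coordinate `c`, then
`desc_step` for `y, c`.
-/
import Mathlib
import Cfsg.Agent.Lib.Helper70.UMon.Defs
import Cfsg.Agent.Lib.Helper70.UMon.DescStep
import Cfsg.Agent.Lib.Helper70.UMon.Repair

set_option autoImplicit false

namespace Cfsg.Agent.Lib.Helper70.UMon

open Matrix Module Cfsg.Agent.S0837 Cfsg.Agent.S0781 Cfsg.Agent.S2644 Cfsg.Agent.Lib.Helper37
open Cfsg.Agent.Lib.Helper13 (UX)
open Cfsg.Agent.Lib.Helper94.Mono (monGL mem_monGL slGL mem_slGL colMono diagUnit dg dg2)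
open Cfsg.Agent.Lib.Helper94.SUSub (MemM)

variable {F : Type*} [Field F] [Fintype F] {σ : F →+* F} {q n : ℕ}

omit [Fintype F] in
/-- the support of `y - y c • e_c` is the support of `y` without `c` -/
theorem supp_sub_single (y : Fin n → F) (c : Fin n) :
    supp (y - y c • Pi.single c 1) = (supp y).erase c := by
  ext r
  rw [Finset.mem_erase, mem_supp, mem_supp]
  by_cases hrc : r = c
  · subst hrc
    simp
  · simp [hrc]

theorem desc_aux (hC : FCtx σ q) (hq : 3 ≤ q) {M : Subgroup (GL (Fin n) F)} (hM : Over σ M) {a : Fin n} :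
    ∀ (k : ℕ) (u : Fin n → F), InU σ M a u → (supp u).card = k → 2 ≤ k →
    ∃ (v : Fin n → F) (b c : Fin n), InU σ M a v ∧ b ≠ c ∧ v b ≠ 0 ∧ v c ≠ 0 ∧
      ∀ r, r ≠ b → r ≠ c → v r = 0 := by
  intro k
  induction k using Nat.strong_induction_on with
  | _ k ih =>
    intro u hu hk h2k
    by_cases hk2 : k = 2
    · rw [hk2, Finset.card_eq_two] at hk
      obtain ⟨b, c, hbc, hs⟩ := hk
      have hb : u b ≠ 0 := by rw [← mem_supp, hs]; simp
      have hc : u c ≠ 0 := by rw [← mem_supp, hs]; simp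
      refine ⟨u, b, c, hu, hbc, hb, hc, fun r hrb hrc => ?_⟩
      by_contra hr
      have : r ∈ supp u := mem_supp.2 hr
      rw [hs] at this
      simp only [Finset.mem_insert, Finset.mem_singleton] at this
      rcases this with h | h
      · exact hrb h
      · exact hrc h
    · have hk3 : 3 ≤ k := by omega
      -- a vector `y` with the same support and a coordinate of "wrong" norm
      obtain ⟨y, hy, hsupp, c, hc, hcN⟩ : ∃ y : Fin n → F, InU σ M a y ∧ supp y = supp u ∧
          ∃ c, y c ≠ 0 ∧ y c * σ (y c) ≠ hf σ y y := by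
        by_cases hall : ∀ b, u b ≠ 0 → u b * σ (u b) = hf σ u u
        · have h2 : ∃ b c, b ≠ c ∧ u b ≠ 0 ∧ u c ≠ 0 := by
            have h1 : 1 < (supp u).card := by omega
            obtain ⟨b, hb, c, hc, hbc⟩ := Finset.one_lt_card.1 h1
            exact ⟨b, c, hbc, mem_supp.1 hb, mem_supp.1 hc⟩
          obtain ⟨y, hy, hyu, c, hc, hcN⟩ := repair hC hq hM hu hall h2
          refine ⟨y, hy, ?_, c, hc, hcN⟩
          ext r
          rw [mem_supp, mem_supp]
          exact hyu r
        · push Not at hall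
          obtain ⟨b, hb, hbN⟩ := hall
          exact ⟨u, hu, rfl, b, hb, hbN⟩
      have hy' : InU σ M a (y - y c • Pi.single c 1) := desc_step hC hM hy hc hcN
      have hcard : (supp (y - y c • Pi.single c 1)).card = k - 1 := by
        rw [supp_sub_single, Finset.card_erase_of_mem (mem_supp.2 hc), hsupp, hk]
      exact ih (k - 1) (by omega) _ hy' hcard (by omega)

theorem desc (hC : FCtx σ q) (hq : 3 ≤ q) {M : Subgroup (GL (Fin n) F)} (hM : Over σ M) {a : Fin n}
    {u : Fin n → F} (hu : InU σ M a u) (h2 : ∃ i j, i ≠ j ∧ u i ≠ 0 ∧ u j ≠ 0) :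
    ∃ (v : Fin n → F) (b c : Fin n), InU σ M a v ∧ b ≠ c ∧ v b ≠ 0 ∧ v c ≠ 0 ∧
      ∀ r, r ≠ b → r ≠ c → v r = 0 := by
  obtain ⟨i, j, hij, hi, hj⟩ := h2
  have h1 : 1 < (supp u).card :=
    Finset.one_lt_card.2 ⟨i, mem_supp.2 hi, j, mem_supp.2 hj, hij⟩
  exact desc_aux hC hq hM _ u hu rfl h1

end Cfsg.Agent.Lib.Helper70.UMon
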