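/-
helper70, project UMON (S5655). MODULE UMON-[EV-DICH].
PLACEHOLDER: exact statement(s) + paper proof; the prover replaces every `sorry` (keep names and statements).
Sheet: Cfsg/Agent/Lib/Helper70/UMon/UMON_SHEET.md

Characteristic-2 TI-killer, dichotomy: under `TIp M`, a vector of `X1 σ M` has full support or support `≤ 2`.

Proof.  Let `t = tvGL σ v 1 ∈ M`; its entries are `t i k = δ_ik + σ(v k) v i` (`tv_mulVec` applied to `e_k`:
`t e_k = e_k + σ(v k) • v`).  If some `v j = 0` then `t e_j = e_j`, column `j` is monomial, so `t ∈ monGL` by `TIp M`: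
`∃ π, t i k = 0` for `i ≠ π k`.  If the support of `v` had three elements `k, i, i'` then `t i k = σ(v k) v i ≠ 0` and
`t i' k ≠ 0` with `i ≠ i'` (both `≠ k`): column `k` has two non-zero entries, contradiction.  (`σ (v k) ≠ 0` by `hσ2`.)
-/
import Mathlib
import Cfsg.Agent.Lib.Helper70.UMon.Defs

set_option autoImplicit false

namespace Cfsg.Agent.Lib.Helper70.UMon

open Matrix Module Cfsg.Agent.S0837 Cfsg.Agent.S0781 Cfsg.Agent.S2644 Cfsg.Agent.Lib.Helper37
open Cfsg.Agent.Lib.Helper13 (UX)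
open Cfsg.Agent.Lib.Helper94.Mono (monGL mem_monGL slGL mem_slGL colMono diagUnit dg dg2)
open Cfsg.Agent.Lib.Helper94.SUSub (MemM)

variable {F : Type*} [Field F] {σ : F →+* F} {n : ℕ}

theorem dich (hσ2 : ∀ a, σ (σ a) = a) {M : Subgroup (GL (Fin n) F)} (hTI : TIp M) {v : Fin n → F}
    (hv : v ∈ X1 σ M) : (∀ k, v k ≠ 0) ∨ (supp v).card ≤ 2 := by
  classical
  obtain ⟨hv0, ht⟩ := hv
  -- the entries of the transvection
  have hentry : ∀ i k : Fin n, ((tvGL σ v 1 hv0 : GL (Fin n) F) : Matrix (Fin n) (Fin n) F) i k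
      = (if i = k then 1 else 0) + σ (v k) * v i := by
    intro i k
    have h2 := congrFun (tv_mulVec σ v 1 (Pi.single k 1)) i
    rw [Matrix.mulVec_single_one] at h2
    have h3 : hf σ (Pi.single k (1 : F)) v = σ (v k) := by
      unfold hf
      rw [Finset.sum_eq_single k]
      · rw [Pi.single_eq_same, one_mul]
      · intro j _ hj
        rw [Pi.single_eq_of_ne hj, zero_mul]
      · intro h
        exact absurd (Finset.mem_univ k) h
    rw [h3, one_mul] at h2
    show (tv σ v 1) i k = _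
    have h4 : (tv σ v 1).col k i = (tv σ v 1) i k := rfl
    rw [← h4, h2, Pi.add_apply, Pi.smul_apply, smul_eq_mul, Pi.single_apply]
  by_cases hall : ∀ k, v k ≠ 0
  · exact Or.inl hall
  right
  push Not at hall
  obtain ⟨j, hj⟩ := hall
  have hcol : colMono (tvGL σ v 1 hv0) j := by
    refine ⟨j, fun i' hi' => ?_⟩
    rw [hentry, if_neg hi', hj, map_zero, zero_mul, add_zero]
  obtain ⟨π, hπ⟩ := mem_monGL.mp (hTI _ ht ⟨j, hcol⟩)
  by_contra hcard
  push Not at hcard
  obtain ⟨k, hk, i, hi, i', hi', hki, hki', hii'⟩ := Finset.two_lt_card.mp hcard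
  rw [mem_supp] at hk hi hi'
  have hσk : σ (v k) ≠ 0 := by
    intro h
    apply hk
    rw [← hσ2 (v k), h, map_zero]
  have e1 : i = π k := by
    by_contra hne
    have h5 := hπ i k hne
    rw [hentry, if_neg (Ne.symm hki), zero_add] at h5
    exact mul_ne_zero hσk hi h5
  have e2 : i' = π k := by
    by_contra hne
    have h5 := hπ i' k hne
    rw [hentry, if_neg (Ne.symm hki'), zero_add] at h5
    exact mul_ne_zero hσk hi' h5
  exact hii' (e1.trans e2.symm)

end Cfsg.Agent.Lib.Helper70.UMon
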