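/-
helper70, project UMON (S5655). MODULE UMON-[EV-PIGEON].  Proved by helper95 (hedge).
Sheet: Cfsg/Agent/Lib/Helper70/UMon/UMON_SHEET.md

Characteristic-2 TI-killer: a pigeonhole in the fixed field `F₀` (`q` elements), pure field theory.
`N(x) = x σ x`, `Tr(x) = x + σ x`.  For non-zero `v_a, v_b, v_c, v_d` with `N(v_a) ≠ N(v_b)` there are `θ, θ' ∈ μ` with
`N(v_a + θ v_b) + N(v_c + θ' v_d) = 1` and both norms non-zero.
-/
import Mathlib
import Cfsg.Agent.Lib.Helper70.UMon.Defs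
import Cfsg.Agent.Lib.Helper70.UMon.Field

set_option autoImplicit false

namespace Cfsg.Agent.Lib.Helper70.UMon

open Matrix Module Cfsg.Agent.S0837 Cfsg.Agent.S0781 Cfsg.Agent.S2644 Cfsg.Agent.Lib.Helper37
open Cfsg.Agent.Lib.Helper13 (UX)
open Cfsg.Agent.Lib.Helper94.Mono (monGL mem_monGL slGL mem_slGL colMono diagUnit dg dg2)
open Cfsg.Agent.Lib.Helper94.SUSub (MemM)

variable {F : Type*} [Field F] [Fintype F] {σ : F →+* F} {q : ℕ}

omit [Fintype F] in
/-- two norm-one twists with the same norm `N(x + θ y)`: the cross terms agree or are swapped by `σ` -/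
theorem pigeon_fiber_aux {x y θ₁ θ₂ : F} (hx : x ≠ 0) (hy : y ≠ 0)
    (h1 : θ₁ * σ θ₁ = 1) (h2 : θ₂ * σ θ₂ = 1)
    (hP : (x + θ₁ * y) * σ (x + θ₁ * y) = (x + θ₂ * y) * σ (x + θ₂ * y)) :
    θ₁ = θ₂ ∨ θ₁ * y * σ x = σ θ₂ * σ y * x := by
  simp only [map_add, map_mul] at hP
  have key : (θ₁ * y * σ x - θ₂ * y * σ x) * (θ₁ * y * σ x - σ θ₂ * σ y * x) = 0 := by
    linear_combination (θ₁ * y * σ x) * hP
      + (-(θ₁ * y * σ x) * (y * σ y) - (x * σ x) * (y * σ y)) * h1
      + ((θ₁ * y * σ x) * (y * σ y) + (x * σ x) * (y * σ y)) * h2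
  rcases mul_eq_zero.mp key with h | h
  · left
    have hne : y * σ x ≠ 0 := mul_ne_zero hy ((map_ne_zero σ).mpr hx)
    apply mul_right_cancel₀ hne
    have := sub_eq_zero.mp h
    rw [mul_assoc, mul_assoc] at this
    exact this
  · right
    exact sub_eq_zero.mp h

/-- `μ` as a finset has `q + 1` elements. -/
theorem pigeon_card_mu_filter (hC : FCtx σ q) [DecidableEq F] :
    (Finset.univ.filter fun ζ : F => ζ * σ ζ = 1).card = q + 1 := by
  rw [← card_mu hC, Nat.card_eq_fintype_card, Fintype.card_subtype]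

/-- `θ ↦ c + N(x + θ y)` is at most 2-to-1 on `μ` -/
theorem pigeon_image_card (hC : FCtx σ q) [DecidableEq F] {x y : F} (hx : x ≠ 0) (hy : y ≠ 0) (c : F) :
    q + 1 ≤ 2 * ((Finset.univ.filter fun θ : F => θ * σ θ = 1).image
      fun θ => c + (x + θ * y) * σ (x + θ * y)).card := by
  rw [← pigeon_card_mu_filter hC]
  apply Finset.card_le_mul_card_image
  intro a _
  by_contra hgt
  push Not at hgt
  rw [Finset.two_lt_card_iff] at hgt
  obtain ⟨θ₁, θ₂, θ₃, h1, h2, h3, h12, h13, h23⟩ := hgt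
  simp only [Finset.mem_filter, Finset.mem_univ, true_and] at h1 h2 h3
  have e12 : (x + θ₁ * y) * σ (x + θ₁ * y) = (x + θ₂ * y) * σ (x + θ₂ * y) :=
    add_left_cancel (h1.2.trans h2.2.symm)
  have e13 : (x + θ₁ * y) * σ (x + θ₁ * y) = (x + θ₃ * y) * σ (x + θ₃ * y) :=
    add_left_cancel (h1.2.trans h3.2.symm)
  rcases pigeon_fiber_aux hx hy h1.1 h2.1 e12 with h | h12'
  · exact h12 h
  rcases pigeon_fiber_aux hx hy h1.1 h3.1 e13 with h | h13'
  · exact h13 h
  have h' : σ θ₂ * (σ y * x) = σ θ₃ * (σ y * x) := by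
    rw [← mul_assoc, ← mul_assoc]; exact h12'.symm.trans h13'
  have hne : σ y * x ≠ 0 := mul_ne_zero ((map_ne_zero σ).mpr hy) hx
  exact h23 (σ.injective (mul_right_cancel₀ hne h'))

theorem pigeon (hC : FCtx σ q) (h2 : (2 : F) = 0) {va vb vc vd : F} (ha : va ≠ 0) (hb : vb ≠ 0)
    (hc : vc ≠ 0) (hd : vd ≠ 0) (hab : va * σ va ≠ vb * σ vb) :
    ∃ θ θ' : F, θ * σ θ = 1 ∧ θ' * σ θ' = 1 ∧
      (va + θ * vb) * σ (va + θ * vb) + (vc + θ' * vd) * σ (vc + θ' * vd) = 1 ∧
      (va + θ * vb) * σ (va + θ * vb) ≠ 0 ∧ (vc + θ' * vd) * σ (vc + θ' * vd) ≠ 0 := by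
  classical
  have hq2 := hC.two_le
  have hchar : CharP F 2 := CharTwo.of_one_ne_zero_of_two_eq_zero one_ne_zero h2
  have hqe : 2 ∣ q := (CharP.cast_eq_zero_iff F 2 q).mp (q_cast_eq_zero hC)
  obtain ⟨m, hm⟩ := hqe
  have hAc := pigeon_image_card hC ha hb 1
  have hBc := pigeon_image_card hC hc hd 0
  set μ : Finset F := Finset.univ.filter fun θ : F => θ * σ θ = 1 with hμ
  set A := μ.image fun θ => 1 + (va + θ * vb) * σ (va + θ * vb) with hA
  set B' := μ.image fun θ => 0 + (vc + θ * vd) * σ (vc + θ * vd) with hB'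
  have hBe : B'.card - 1 ≤ (B'.erase 0).card := Finset.pred_card_le_card_erase
  set Fx : Finset F := Finset.univ.filter fun x : F => σ x = x with hFxdef
  have hFx : Fx.card = q := by
    rw [← card_fixed hC, Nat.card_eq_fintype_card, Fintype.card_subtype]
  have hfix : ∀ z : F, σ (z * σ z) = z * σ z := fun z => by
    rw [map_mul, hC.invol, mul_comm]
  have hAF : A ⊆ Fx := by
    intro z hz
    rw [hA, Finset.mem_image] at hz
    obtain ⟨θ, _, rfl⟩ := hz
    rw [hFxdef, Finset.mem_filter]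
    refine ⟨Finset.mem_univ _, ?_⟩
    rw [map_add, map_one, hfix]
  have hBF : B'.erase 0 ⊆ Fx := by
    intro z hz
    have hz := Finset.mem_of_mem_erase hz
    rw [hB', Finset.mem_image] at hz
    obtain ⟨θ, _, rfl⟩ := hz
    rw [hFxdef, Finset.mem_filter]
    refine ⟨Finset.mem_univ _, ?_⟩
    rw [map_add, map_zero, hfix]
  have hnd : ¬ Disjoint A (B'.erase 0) := by
    intro hdis
    have := Finset.card_le_card (Finset.union_subset hAF hBF)
    rw [Finset.card_union_of_disjoint hdis, hFx] at this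
    omega
  obtain ⟨z, hzA, hzB⟩ := Finset.not_disjoint_iff.mp hnd
  have hz0 : z ≠ 0 := Finset.ne_of_mem_erase hzB
  have hzB' := Finset.mem_of_mem_erase hzB
  rw [hA, Finset.mem_image] at hzA
  rw [hB', Finset.mem_image] at hzB'
  obtain ⟨θ, hθ, hθz⟩ := hzA
  obtain ⟨θ', hθ', hθ'z⟩ := hzB'
  rw [hμ, Finset.mem_filter] at hθ hθ'
  rw [zero_add] at hθ'z
  refine ⟨θ, θ', hθ.2, hθ'.2, ?_, ?_, ?_⟩
  · rw [hθ'z, ← hθz]
    linear_combination ((va + θ * vb) * σ (va + θ * vb)) * h2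
  · intro h0
    rcases mul_eq_zero.mp h0 with h | h
    · apply hab
      have hva : va = -(θ * vb) := eq_neg_of_add_eq_zero_left h
      rw [hva, map_neg, neg_mul_neg, map_mul]
      linear_combination (vb * σ vb) * hθ.2
    · have h' : va + θ * vb = 0 := (map_eq_zero σ).mp h
      apply hab
      have hva : va = -(θ * vb) := eq_neg_of_add_eq_zero_left h'
      rw [hva, map_neg, neg_mul_neg, map_mul]
      linear_combination (vb * σ vb) * hθ.2
  · rw [hθ'z]; exact hz0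

end Cfsg.Agent.Lib.Helper70.UMon
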