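/-
helper70, project UMON (S5655). MODULE UMON-[X1].
PROVED by helper15 (statements unchanged).
Sheet: Cfsg/Agent/Lib/Helper70/UMon/UMON_SHEET.md

API for `X1 σ M = {v isotropic | tvGL σ v 1 ∈ M}` (Defs), used in characteristic 2 (where `1 + σ 1 = 0`, so
`tvGL σ v 1` is unitary: helper37's `tvGL_mem`, `TG_le_UG`).
* `x1_map`: helper13's `conj_tvGL`: `g * tvGL σ v 1 * g⁻¹ = tvGL σ (g v) 1` for unitary `g` (copy `ux_map`).
* `x1_smul`: helper13's `tv_smul_center`: `tv σ (l • v) 1 = tv σ v (l σ l) = tv σ v 1`.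
* `x1_tv`: `tv σ y 1 *ᵥ x = x + (1 * hf σ x y) • y` (`tv_mulVec`) and `x1_map` with `g = tvGL σ y 1 ∈ M ≤ UG`.
* `x1_pair` (characteristic 2): `tv σ (e_a + e_b) 1` is the permutation matrix of the transposition `(a b)`, i.e.
  the matrix of `mono (Equiv.swap a b) 1 ∈ NU σ n` (`mono_mem_NU`: the sign `-1` equals `1`); so `e_a + e_b ∈ X1`; then
  `e_a + ζ • e_b = dg2 b c ζ' *ᵥ (e_a + e_b)` with `c ≠ a, b` (`n ≥ 3`), `dg2 b c ζ' ∈ NU σ n` (`dg2_mem_NU`), and `x1_map`.
* `ux_of_x1_two`: for `q = 2` (`F = F_4`) the only `c` with `c + σ c = 0` (i.e. `c + c² = 0`) are `0, 1`, and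
  `tvGL σ v 0 = 1`; so `X1 σ M ⊆ UX σ M`; the converse is trivial (`1 + σ 1 = 0` in characteristic 2).
-/
import Mathlib
import Cfsg.Agent.Lib.Helper70.UMon.Defs
import Cfsg.Agent.Lib.Helper70.UMon.MonoApi

set_option autoImplicit false

namespace Cfsg.Agent.Lib.Helper70.UMon

open Matrix Module Cfsg.Agent.S0837 Cfsg.Agent.S0781 Cfsg.Agent.S2644 Cfsg.Agent.Lib.Helper37
open Cfsg.Agent.Lib.Helper13 (UX)
open Cfsg.Agent.Lib.Helper94.Mono (monGL mem_monGL slGL mem_slGL colMono diagUnit dg dg2)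
open Cfsg.Agent.Lib.Helper94.SUSub (MemM)

variable {F : Type*} [Field F] {σ : F →+* F} {n : ℕ}

theorem x1_map {M : Subgroup (GL (Fin n) F)} (g : GL (Fin n) F) (hgM : g ∈ M) (hg : g ∈ UG σ n)
    {v : Fin n → F} (hv : v ∈ X1 σ M) : (g : Matrix (Fin n) (Fin n) F) *ᵥ v ∈ X1 σ M := by
  obtain ⟨hv0, hv1⟩ := hv
  have h0 : hf σ (g.1 *ᵥ v) (g.1 *ᵥ v) = 0 := by rw [hg, hv0]
  refine ⟨h0, ?_⟩
  rw [← Cfsg.Agent.Lib.Helper13.conj_tvGL σ g hg v 1 hv0 h0]
  exact M.mul_mem (M.mul_mem hgM hv1) (M.inv_mem hgM)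

theorem x1_smul (hσ2 : ∀ a, σ (σ a) = a) {M : Subgroup (GL (Fin n) F)} {v : Fin n → F}
    (hv : v ∈ X1 σ M) {l : F} (hl : l * σ l = 1) : l • v ∈ X1 σ M := by
  obtain ⟨hv0, hv1⟩ := hv
  have h0 : hf σ (l • v) (l • v) = 0 := by rw [hf_smul_left, hf_smul_right, hv0]; ring
  refine ⟨h0, ?_⟩
  have h2 : tvGL σ (l • v) 1 h0 = tvGL σ v 1 hv0 := by
    apply Units.ext
    show tv σ (l • v) 1 = tv σ v 1
    rw [Cfsg.Agent.Lib.Helper13.tv_smul_center, hl, mul_one]
  rw [h2]
  exact hv1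

theorem x1_tv {M : Subgroup (GL (Fin n) F)} (hMU : M ≤ UG σ n) {x y : Fin n → F}
    (hx : x ∈ X1 σ M) (hy : y ∈ X1 σ M) : x + hf σ x y • y ∈ X1 σ M := by
  obtain ⟨hy0, hy1⟩ := hy
  have h := x1_map (tvGL σ y 1 hy0) hy1 (hMU hy1) hx
  have e : ((tvGL σ y 1 hy0 : GL (Fin n) F) : Matrix (Fin n) (Fin n) F) = tv σ y 1 := rfl
  rwa [e, tv_mulVec, one_mul] at h

theorem x1_pair (h2 : (2 : F) = 0) (hσ2 : ∀ a, σ (σ a) = a) (hn : 3 ≤ n)
    {M : Subgroup (GL (Fin n) F)} (hM : Over σ M) {a b : Fin n} (hab : a ≠ b) {ζ : F}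
    (hζ : ζ * σ ζ = 1) : (Pi.single a 1 + ζ • Pi.single b 1 : Fin n → F) ∈ X1 σ M := by
  classical
  have hneg : (-1 : F) = 1 := by
    have : (1 : F) + 1 = 0 := by rw [one_add_one_eq_two, h2]
    exact (eq_neg_of_add_eq_zero_left this).symm
  have hxx : ∀ x : F, x + x = 0 := fun x => by rw [← two_mul, h2, zero_mul]
  -- step A: `e_a + e_b ∈ X1`
  have hA : (Pi.single a 1 + Pi.single b 1 : Fin n → F) ∈ X1 σ M := by
    have h0 : hf σ (Pi.single a 1 + Pi.single b 1 : Fin n → F) (Pi.single a 1 + Pi.single b 1) = 0 := by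
      rw [hf_add_left, hf_add_right, hf_add_right, hf_single_single, hf_single_single, hf_single_single,
        hf_single_single, if_pos rfl, if_pos rfl, if_neg hab, if_neg (Ne.symm hab)]
      rw [add_zero, zero_add]
      exact hxx 1
    refine ⟨h0, ?_⟩
    have hmono : (mono (Equiv.swap a b) (1 : Fin n → Fˣ) : GL (Fin n) F) ∈ NU σ n := by
      apply mono_mem_NU
      · intro k
        simp
      · rw [Equiv.Perm.sign_swap hab]
        simp [hneg]
    have heq : tvGL σ (Pi.single a 1 + Pi.single b 1 : Fin n → F) 1 h0 =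
        mono (Equiv.swap a b) (1 : Fin n → Fˣ) := by
      apply Units.ext
      show tv σ (Pi.single a 1 + Pi.single b 1 : Fin n → F) 1 = _
      apply Matrix.toLin'.injective
      apply LinearMap.ext
      intro x
      rw [Matrix.toLin'_apply, Matrix.toLin'_apply, tv_mulVec, one_mul, hf_add_right,
        hf_single_right, hf_single_right]
      funext r
      rw [mono_mulVec]
      simp only [Pi.add_apply, Pi.smul_apply, Pi.single_apply, smul_eq_mul, Pi.one_apply,
        Units.val_one, one_mul, Equiv.symm_swap]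
      by_cases hra : r = a
      · subst hra
        rw [Equiv.swap_apply_left, if_pos rfl, if_neg hab]
        linear_combination hxx (x r)
      · by_cases hrb : r = b
        · subst hrb
          rw [Equiv.swap_apply_right, if_neg hra, if_pos rfl]
          linear_combination hxx (x r)
        · rw [Equiv.swap_apply_of_ne_of_ne hra hrb, if_neg hra, if_neg hrb]
          ring
    rw [heq]
    exact hM.ge hmono
  -- step B: a third index
  obtain ⟨c, hca, hcb⟩ : ∃ c : Fin n, c ≠ a ∧ c ≠ b := by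
    by_contra hcon
    push Not at hcon
    have hsub : (Finset.univ : Finset (Fin n)) ⊆ {a, b} := by
      intro c _
      by_cases hca : c = a
      · simp [hca]
      · simp [hcon c hca]
    have := Finset.card_le_card hsub
    rw [Finset.card_univ, Fintype.card_fin] at this
    have h2' : ({a, b} : Finset (Fin n)).card ≤ 2 := Finset.card_le_two
    omega
  have hζ0 : ζ ≠ 0 := left_ne_zero_of_mul_eq_one hζ
  have hgNU : (dg2 b c (Units.mk0 ζ hζ0) : GL (Fin n) F) ∈ NU σ n :=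
    dg2_mem_NU (Ne.symm hcb) (by simpa using hζ)
  have hgU : (dg2 b c (Units.mk0 ζ hζ0) : GL (Fin n) F) ∈ UG σ n := by
    have := hgNU
    unfold NU at this
    rw [Subgroup.mem_inf, mem_SUn] at this
    exact this.2.1
  have h := x1_map (dg2 b c (Units.mk0 ζ hζ0)) (hM.ge hgNU) hgU hA
  have hvec : ((dg2 b c (Units.mk0 ζ hζ0) : GL (Fin n) F) : Matrix (Fin n) (Fin n) F) *ᵥ
      (Pi.single a 1 + Pi.single b 1 : Fin n → F) = Pi.single a 1 + ζ • Pi.single b 1 := by
    rw [dg2_mulVec (Ne.symm hcb)]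
    funext r
    simp only [Pi.add_apply, Pi.smul_apply, Pi.single_apply, smul_eq_mul, Units.val_mk0,
      Function.update_apply]
    by_cases hrc : r = c
    · subst hrc
      simp [hca, hcb]
    · by_cases hrb : r = b
      · subst hrb
        simp [hrc, Ne.symm hab]
      · simp [hrc, hrb]
  rwa [hvec] at h

theorem ux_of_x1_two [Fintype F] (hC : FCtx σ 2) {M : Subgroup (GL (Fin n) F)} {v : Fin n → F}
    (hv : v ∈ X1 σ M) : v ∈ UX σ M := by
  obtain ⟨hv0, hv1⟩ := hv
  refine ⟨hv0, fun c hc => ?_⟩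
  have h2 : (2 : F) = 0 := by
    have h4 : ((Fintype.card F : ℕ) : F) = 0 := FiniteField.cast_card_eq_zero F
    rw [hC.card] at h4
    have : (2 : F) * 2 = 0 := by
      have e : (((2 : ℕ) ^ 2 : ℕ) : F) = (2 : F) * 2 := by push_cast; ring
      rw [← e]; exact h4
    rcases mul_eq_zero.mp this with h | h <;> exact h
  have hc' : c * (1 + c) = 0 := by
    have := hc
    rw [hC.frob] at this
    linear_combination this
  rcases mul_eq_zero.mp hc' with h | h
  · have h1 : tvGL σ v c hv0 = 1 := by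
      apply Units.ext
      show tv σ v c = 1
      apply Matrix.toLin'.injective
      apply LinearMap.ext
      intro x
      rw [Matrix.toLin'_apply, tv_mulVec, h, zero_mul, zero_smul, add_zero, Matrix.toLin'_one,
        LinearMap.id_apply]
    rw [h1]
    exact M.one_mem
  · have hc1 : c = 1 := by
      have : c = -1 := eq_neg_of_add_eq_zero_right h
      rw [this]
      have : (1 : F) + 1 = 0 := by rw [one_add_one_eq_two, h2]
      exact (eq_neg_of_add_eq_zero_left this).symm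
    subst hc1
    exact hv1

theorem x1_of_ux (h2 : (2 : F) = 0) {M : Subgroup (GL (Fin n) F)} {v : Fin n → F}
    (hv : v ∈ UX σ M) : v ∈ X1 σ M := by
  obtain ⟨hv0, hv1⟩ := hv
  refine ⟨hv0, hv1 1 ?_⟩
  rw [map_one, one_add_one_eq_two, h2]

end Cfsg.Agent.Lib.Helper70.UMon
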