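/-
helper70, project UMON (S5655). MODULE UMON-[EV-FIN].
PROVED by helper95 (statement unchanged; uses `pigeon` [EV-PIGEON], `dich` [EV-DICH], X1Api, MonoApi).
Sheet: Cfsg/Agent/Lib/Helper70/UMon/UMON_SHEET.md

Characteristic-2 TI-killer, the end: under `TIp M`, `X1 σ M` cannot contain a full vector with two coordinates of
different norms.

Proof.  Choose `c, d, e` so that `a, b, c, d, e` are pairwise distinct (`n ≥ 5`).  `pigeon` for `v a, v b, v c, v d` gives
`θ, θ' ∈ μ`.  `d₀ := dg2 b e θ * dg2 d e θ' ∈ NU σ n` (diagonal: `θ` at `b`, `θ'` at `d`, `(θ θ')⁻¹` at `e`);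
`v' := d₀ v ∈ X1` (`x1_map`): `v' a = v a`, `v' b = θ v b`, `v' c = v c`, `v' d = θ' v d`.
`π := mono (Equiv.swap a b * Equiv.swap c d) 1 ∈ NU σ n` (sign `= 1`, and `-1 = 1` anyway); `π v' ∈ X1`;
`w := π v' + hf σ (π v') v' • v' ∈ X1` (`x1_tv`).  With `s₁ = N(v' a + v' b)`, `s₂ = N(v' c + v' d)`:
`hf σ (π v') v' = Tr(v' a σ(v' b)) + Tr(v' c σ(v' d)) + Σ_{k ≠ a,b,c,d} N(v' k) = s₁ + s₂ + hf σ v' v' = s₁ + s₂ = 1`
(characteristic 2).  So `w = π v' + v'`: `w a = w b = v' a + v' b ≠ 0` (`s₁ ≠ 0`), `w c = w d = v' c + v' d ≠ 0`, and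
`w k = 2 v' k = 0` for the other `k`.  Thus `w ∈ X1` has support exactly `{a,b,c,d}`: neither full (`w e = 0`) nor of
size `≤ 2`, contradicting `dich`.
-/
import Mathlib
import Cfsg.Agent.Lib.Helper70.UMon.Defs
import Cfsg.Agent.Lib.Helper70.UMon.X1Api
import Cfsg.Agent.Lib.Helper70.UMon.MonoApi
import Cfsg.Agent.Lib.Helper70.UMon.EvenDich
import Cfsg.Agent.Lib.Helper70.UMon.EvenPigeon

set_option autoImplicit false

namespace Cfsg.Agent.Lib.Helper70.UMon

open Matrix Module Cfsg.Agent.S0837 Cfsg.Agent.S0781 Cfsg.Agent.S2644 Cfsg.Agent.Lib.Helper37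
open Cfsg.Agent.Lib.Helper13 (UX)
open Cfsg.Agent.Lib.Helper94.Mono (monGL mem_monGL slGL mem_slGL colMono diagUnit dg dg2)
open Cfsg.Agent.Lib.Helper94.SUSub (MemM)

/-- three further indices -/
theorem even_fin_exists_three {n : ℕ} (hn : 5 ≤ n) (a b : Fin n) :
    ∃ c d e : Fin n, c ≠ a ∧ c ≠ b ∧ d ≠ a ∧ d ≠ b ∧ e ≠ a ∧ e ≠ b ∧ c ≠ d ∧ c ≠ e ∧ d ≠ e := by
  classical
  have hcard : 2 < ((Finset.univ.erase a).erase b : Finset (Fin n)).card := by
    have h1 : ((Finset.univ : Finset (Fin n)).erase a).card = n - 1 := by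
      rw [Finset.card_erase_of_mem (Finset.mem_univ a), Finset.card_univ, Fintype.card_fin]
    have h2 := Finset.pred_card_le_card_erase (s := (Finset.univ : Finset (Fin n)).erase a) (a := b)
    omega
  obtain ⟨c, hc, d, hd, e, he, hcd, hce, hde⟩ := Finset.two_lt_card.1 hcard
  simp only [Finset.mem_erase, Finset.mem_univ, and_true] at hc hd he
  exact ⟨c, d, e, hc.2, hc.1, hd.2, hd.1, he.2, he.1, hcd, hce, hde⟩

/-- membership of `NU` in the unitary group -/
theorem even_fin_NU_le_UG {F : Type*} [Field F] {σ : F →+* F} {n : ℕ} {g : GL (Fin n) F}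
    (hg : g ∈ NU σ n) : g ∈ UG σ n := by
  unfold NU at hg
  rw [Subgroup.mem_inf, mem_SUn] at hg
  exact hg.2.1

variable {F : Type*} [Field F] [Fintype F] {σ : F →+* F} {q n : ℕ}

theorem even_fin (hC : FCtx σ q) (h2 : (2 : F) = 0) (hn : 5 ≤ n) {M : Subgroup (GL (Fin n) F)}
    (hM : Over σ M) (hTI : TIp M) {v : Fin n → F} (hv : v ∈ X1 σ M) (hfull : ∀ k, v k ≠ 0)
    {a b : Fin n} (hab : a ≠ b) (hnorm : v a * σ (v a) ≠ v b * σ (v b)) : False := by
  classical
  have hσ2 : ∀ x, σ (σ x) = x := hC.invol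
  have hMU : M ≤ UG σ n := fun g hg => by
    have := hM.le hg
    rw [mem_SUn] at this
    exact this.1
  have hxx : ∀ x : F, x + x = 0 := fun x => by rw [← two_mul, h2, zero_mul]
  obtain ⟨c, d, e, hca, hcb, hda, hdb, hea, heb, hcd, hce, hde⟩ := even_fin_exists_three hn a b
  obtain ⟨θ, θ', hθ, hθ', hsum, hs1, hs2⟩ :=
    pigeon hC h2 (hfull a) (hfull b) (hfull c) (hfull d) hnorm
  have hθ0 : θ ≠ 0 := left_ne_zero_of_mul_eq_one hθ
  have hθ'0 : θ' ≠ 0 := left_ne_zero_of_mul_eq_one hθ'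
  -- the diagonal elements
  have hg1 : (dg2 d e (Units.mk0 θ' hθ'0) : GL (Fin n) F) ∈ NU σ n :=
    dg2_mem_NU hde (by simpa using hθ')
  have hg2 : (dg2 b e (Units.mk0 θ hθ0) : GL (Fin n) F) ∈ NU σ n :=
    dg2_mem_NU (Ne.symm heb) (by simpa using hθ)
  have hv1 := x1_map _ (hM.ge hg1) (even_fin_NU_le_UG hg1) hv
  have hv2 := x1_map _ (hM.ge hg2) (even_fin_NU_le_UG hg2) hv1
  rw [dg2_mulVec hde] at hv1 hv2
  rw [dg2_mulVec (Ne.symm heb)] at hv2
  set v' : Fin n → F := Function.update (Function.update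
      (Function.update (Function.update v d (((Units.mk0 θ' hθ'0 : Fˣ) : F) * v d)) e
        ((((Units.mk0 θ' hθ'0)⁻¹ : Fˣ) : F) * v e)) b
      (((Units.mk0 θ hθ0 : Fˣ) : F) * (Function.update (Function.update v d
        (((Units.mk0 θ' hθ'0 : Fˣ) : F) * v d)) e ((((Units.mk0 θ' hθ'0)⁻¹ : Fˣ) : F) * v e)) b)) e
      ((((Units.mk0 θ hθ0)⁻¹ : Fˣ) : F) * (Function.update (Function.update v d
        (((Units.mk0 θ' hθ'0 : Fˣ) : F) * v d)) e ((((Units.mk0 θ' hθ'0)⁻¹ : Fˣ) : F) * v e)) e)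
    with hv'def
  have hva : v' a = v a := by
    simp [hv'def, Function.update_apply, Ne.symm hea, hab, Ne.symm hda]
  have hvb : v' b = θ * v b := by
    simp [hv'def, Ne.symm heb, Ne.symm hdb]
  have hvc : v' c = v c := by
    simp [hv'def, Function.update_apply, hce, hcb, hcd]
  have hvd : v' d = θ' * v d := by
    simp [hv'def, Function.update_apply, hde, hdb]
  -- the double transposition
  set π : Equiv.Perm (Fin n) := Equiv.swap a b * Equiv.swap c d with hπ
  have hπNU : (mono π (1 : Fin n → Fˣ) : GL (Fin n) F) ∈ NU σ n := by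
    apply mono_mem_NU
    · intro k; simp
    · rw [hπ, Equiv.Perm.sign_mul, Equiv.Perm.sign_swap hab, Equiv.Perm.sign_swap hcd]
      simp
  have hx := x1_map _ (hM.ge hπNU) (even_fin_NU_le_UG hπNU) hv2
  set x : Fin n → F := ((mono π (1 : Fin n → Fˣ) : GL (Fin n) F) : Matrix (Fin n) (Fin n) F) *ᵥ v'
    with hxdef
  have hxr : ∀ r, x r = v' (π.symm r) := by
    intro r
    rw [hxdef, mono_mulVec]
    simp
  have hπa : π.symm a = b := by
    rw [Equiv.symm_apply_eq, hπ, Equiv.Perm.mul_apply, Equiv.swap_apply_of_ne_of_ne hcb.symm hdb.symm,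
      Equiv.swap_apply_right]
  have hπb : π.symm b = a := by
    rw [Equiv.symm_apply_eq, hπ, Equiv.Perm.mul_apply, Equiv.swap_apply_of_ne_of_ne hca.symm hda.symm,
      Equiv.swap_apply_left]
  have hπc : π.symm c = d := by
    rw [Equiv.symm_apply_eq, hπ, Equiv.Perm.mul_apply, Equiv.swap_apply_right,
      Equiv.swap_apply_of_ne_of_ne hca hcb]
  have hπd : π.symm d = c := by
    rw [Equiv.symm_apply_eq, hπ, Equiv.Perm.mul_apply, Equiv.swap_apply_left,
      Equiv.swap_apply_of_ne_of_ne hda hdb]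
  have hπo : ∀ r, r ≠ a → r ≠ b → r ≠ c → r ≠ d → π.symm r = r := by
    intro r hra hrb hrc hrd
    rw [Equiv.symm_apply_eq, hπ, Equiv.Perm.mul_apply, Equiv.swap_apply_of_ne_of_ne hrc hrd,
      Equiv.swap_apply_of_ne_of_ne hra hrb]
  -- the product
  have hv'0 : hf σ v' v' = 0 := hv2.1
  have hprod : hf σ x v' = 1 := by
    have hdiff : hf σ x v' - hf σ v' v' =
        ∑ r ∈ ({a, b, c, d} : Finset (Fin n)), (x r - v' r) * σ (v' r) := by
      unfold hf
      rw [← Finset.sum_sub_distrib,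
        Finset.sum_congr rfl (fun r _ => (sub_mul (x r) (v' r) (σ (v' r))).symm)]
      symm
      apply Finset.sum_subset (Finset.subset_univ _)
      intro r _ hr
      simp only [Finset.mem_insert, Finset.mem_singleton, not_or] at hr
      rw [hxr, hπo r hr.1 hr.2.1 hr.2.2.1 hr.2.2.2, sub_self, zero_mul]
    rw [hv'0, sub_zero] at hdiff
    rw [hdiff, Finset.sum_insert (by simp [hab, hca.symm, hda.symm]),
      Finset.sum_insert (by simp [hcb.symm, hdb.symm]), Finset.sum_insert (by simp [hcd]),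
      Finset.sum_singleton, hxr a, hxr b, hxr c, hxr d, hπa, hπb, hπc, hπd, hva, hvb, hvc, hvd]
    have e1 := hsum
    simp only [map_add, map_mul] at e1 ⊢
    have t1 := hxx (v a * σ (v a))
    have t2 := hxx (θ * v b * (σ θ * σ (v b)))
    have t3 := hxx (v c * σ (v c))
    have t4 := hxx (θ' * v d * (σ θ' * σ (v d)))
    linear_combination e1 - t1 - t2 - t3 - t4
  have hw := x1_tv hMU hx hv2
  rw [hprod, one_smul] at hw
  -- the support of `w`
  have hwa : (x + v') a = v a + θ * v b := by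
    rw [Pi.add_apply, hxr, hπa, hva, hvb]; ring
  have hwb : (x + v') b = v a + θ * v b := by
    rw [Pi.add_apply, hxr, hπb, hva, hvb]
  have hwc : (x + v') c = v c + θ' * v d := by
    rw [Pi.add_apply, hxr, hπc, hvc, hvd]; ring
  have hwd : (x + v') d = v c + θ' * v d := by
    rw [Pi.add_apply, hxr, hπd, hvc, hvd]
  have hwe : (x + v') e = 0 := by
    rw [Pi.add_apply, hxr, hπo e hea heb (Ne.symm hce) (Ne.symm hde)]
    exact hxx _
  have hne1 : v a + θ * v b ≠ 0 := fun h0 => hs1 (by rw [h0, zero_mul])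
  have hne2 : v c + θ' * v d ≠ 0 := fun h0 => hs2 (by rw [h0, zero_mul])
  rcases dich hσ2 hTI hw with hall | hsmall
  · exact hall e hwe
  · have hsub : ({a, b, c, d} : Finset (Fin n)) ⊆ supp (x + v') := by
      intro r hr
      simp only [Finset.mem_insert, Finset.mem_singleton] at hr
      rw [mem_supp]
      rcases hr with rfl | rfl | rfl | rfl
      · rw [hwa]; exact hne1
      · rw [hwb]; exact hne1
      · rw [hwc]; exact hne2
      · rw [hwd]; exact hne2
    have hcard : ({a, b, c, d} : Finset (Fin n)).card = 4 := by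
      rw [Finset.card_insert_of_notMem (by simp [hab, hca.symm, hda.symm]),
        Finset.card_insert_of_notMem (by simp [hcb.symm, hdb.symm]),
        Finset.card_insert_of_notMem (by simp [hcd]), Finset.card_singleton]
    have := Finset.card_le_card hsub
    omega

end Cfsg.Agent.Lib.Helper70.UMon
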