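/-
helper70, project UMON (S5655). MODULE UMON-[EV-FULLV].
PROVED by helper51 (statement unchanged; this file is complete).
Sheet: Cfsg/Agent/Lib/Helper70/UMon/UMON_SHEET.md

Characteristic-2 TI-killer: a vector of `X1 σ M` with full support exists (`f ∈ M` non-monomial, `TIp M`, `Full M`).

Proof.  Fix `a ≠ b`.  For `ζ σ ζ = 1`: `e_a + ζ e_b ∈ X1` (`x1_pair`), so `v_ζ := f (e_a + ζ e_b) = f e_a + ζ f e_b ∈ X1`
(`x1_map`).  By `dich` each `v_ζ` has full support or support `≤ 2`.  Take two different `ζ ≠ ζ'` in `μ` (`|μ| = q+1 ≥ 3`,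
e.g. `1` and the `ζ` of `exists_mu_sq_ne`).  If neither `v_ζ` nor `v_ζ'` has full support, their zero sets have `≥ n - 2`
elements each, so `≥ n - 4 ≥ 2` common zeros `k`; there `f k a + ζ f k b = 0 = f k a + ζ' f k b`, so `f k b = 0 = f k a`:
column `a` of `f` has two zeros, contradicting `Full M`.
-/
import Mathlib
import Cfsg.Agent.Lib.Helper70.UMon.Defs
import Cfsg.Agent.Lib.Helper70.UMon.X1Api
import Cfsg.Agent.Lib.Helper70.UMon.EvenDich
import Cfsg.Agent.Lib.Helper70.UMon.Field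

set_option autoImplicit false

namespace Cfsg.Agent.Lib.Helper70.UMon

open Matrix Module Cfsg.Agent.S0837 Cfsg.Agent.S0781 Cfsg.Agent.S2644 Cfsg.Agent.Lib.Helper37
open Cfsg.Agent.Lib.Helper13 (UX)
open Cfsg.Agent.Lib.Helper94.Mono (monGL mem_monGL slGL mem_slGL colMono diagUnit dg dg2)
open Cfsg.Agent.Lib.Helper94.SUSub (MemM)

variable {F : Type*} [Field F] [Fintype F] {σ : F →+* F} {q n : ℕ}

omit [Fintype F] in
/-- the coordinates of `f (e_a + ζ e_b)` -/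
theorem evFullV_coord (f : GL (Fin n) F) (a b : Fin n) (ζ : F) (k : Fin n) :
    ((f : Matrix (Fin n) (Fin n) F) *ᵥ (Pi.single a 1 + ζ • Pi.single b 1 : Fin n → F)) k =
      (f : Matrix (Fin n) (Fin n) F) k a + ζ * (f : Matrix (Fin n) (Fin n) F) k b := by
  rw [mulVec_add, mulVec_smul, Pi.add_apply, Pi.smul_apply, smul_eq_mul]
  simp [mulVec_single]

theorem exists_full_x1 (hC : FCtx σ q) (h2 : (2 : F) = 0) (hn : 6 ≤ n)
    {M : Subgroup (GL (Fin n) F)} (hM : Over σ M) (hTI : TIp M) (hFull : Full M)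
    {f : GL (Fin n) F} (hfM : f ∈ M) (hf : f ∉ monGL (Fin n) F) :
    ∃ v ∈ X1 σ M, ∀ k, v k ≠ 0 := by
  classical
  have hσ2 := hC.invol
  have hMU : M ≤ UG σ n := fun g hg => ((mem_SUn σ).1 (hM.le hg)).1
  have hfU : f ∈ UG σ n := hMU hfM
  obtain ⟨a, b, hab⟩ : ∃ a b : Fin n, a ≠ b := by
    refine ⟨⟨0, by omega⟩, ⟨1, by omega⟩, ?_⟩
    intro h
    have := congrArg Fin.val h
    simp at this
  obtain ⟨ζ₀, hζ₀, hζ₀sq⟩ := exists_mu_sq_ne hC
  have hζ₀1 : (ζ₀ : F) ≠ 1 := by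
    intro h1
    apply hζ₀sq
    rw [h1, one_pow]
  have h11 : (1 : F) * σ 1 = 1 := by rw [map_one, mul_one]
  have hv1 := x1_map f hfM hfU (x1_pair h2 hσ2 (by omega) hM hab h11)
  have hv2 := x1_map f hfM hfU (x1_pair h2 hσ2 (by omega) hM hab hζ₀)
  rcases dich hσ2 hTI hv1 with hfull1 | hs1
  · exact ⟨_, hv1, hfull1⟩
  rcases dich hσ2 hTI hv2 with hfull2 | hs2
  · exact ⟨_, hv2, hfull2⟩
  exfalso
  -- two common zeros
  set S₁ := supp ((f : Matrix (Fin n) (Fin n) F) *ᵥ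
    (Pi.single a 1 + (1 : F) • Pi.single b 1 : Fin n → F)) with hS₁
  set S₂ := supp ((f : Matrix (Fin n) (Fin n) F) *ᵥ
    (Pi.single a 1 + (ζ₀ : F) • Pi.single b 1 : Fin n → F)) with hS₂
  have hcard : 1 < ((S₁ ∪ S₂)ᶜ).card := by
    rw [Finset.card_compl, Fintype.card_fin]
    have := Finset.card_union_le S₁ S₂
    omega
  obtain ⟨k, hk, k', hk', hkk'⟩ := Finset.one_lt_card.1 hcard
  have hzero : ∀ k, k ∈ (S₁ ∪ S₂)ᶜ → (f : Matrix (Fin n) (Fin n) F) k a = 0 := by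
    intro k hk
    rw [Finset.mem_compl, Finset.mem_union, not_or] at hk
    obtain ⟨hk1, hk2⟩ := hk
    rw [hS₁, mem_supp, not_not, evFullV_coord] at hk1
    rw [hS₂, mem_supp, not_not, evFullV_coord] at hk2
    have hb : ((ζ₀ : F) - 1) * (f : Matrix (Fin n) (Fin n) F) k b = 0 := by
      linear_combination hk2 - hk1
    rcases mul_eq_zero.1 hb with h | h
    · exact absurd (sub_eq_zero.1 h) hζ₀1
    · rw [h] at hk1
      linear_combination hk1
  exact hFull f hfM hf a k k' hkk' (hzero k hk) (hzero k' hk')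

end Cfsg.Agent.Lib.Helper70.UMon
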