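/-
helper70, project UMON (S5655). MODULE UMON-[EV-NORMS].
PROVED by helper51 (statement unchanged; this file is complete).
Sheet: Cfsg/Agent/Lib/Helper70/UMon/UMON_SHEET.md

Characteristic-2 TI-killer: from a full vector of `X1 σ M` to a full vector with two coordinates of different norms.

Proof.  If `v` already has two coordinates with different norms, done.  Otherwise `N(v k) = α ≠ 0` for all `k`, and
`n α = hf σ v v = 0`.  Fix distinct `a, b, k₀` (`n ≥ 3`).  Choose `ζ` with `ζ σ ζ = 1`, `ζ ≠ 1`, `ζ + σ ζ ≠ α⁻¹`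
(`exists_mu_trace_ne`, `q ≥ 3`); note `σ ζ = ζ⁻¹` and `ζ ∉` fixed field (`σ ζ = ζ` would give `ζ² = 1`, `ζ = 1` in
characteristic 2).  `d := dg2 a b ζ' ∈ NU σ n ≤ M`; `d v ∈ X1` (`x1_map`), `w := d v + hf σ (d v) v • v ∈ X1` (`x1_tv`).
`κ := hf σ (d v) v = ζ α + ζ⁻¹ α + (n - 2) α = α (ζ + ζ⁻¹)` (fixed by `σ`), `κ ≠ 1`.
`w a = (ζ + κ) v a`, `w b = (ζ⁻¹ + κ) v b`, `w k = (1 + κ) v k` otherwise: all non-zero (`ζ + κ = 0` would put `ζ` in the
fixed field).  `N(w a) = (1 + κ (ζ + ζ⁻¹) + κ²) α` and `N(w k₀) = (1 + κ²) α` differ because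
`κ (ζ + ζ⁻¹) = α (ζ + ζ⁻¹)² ≠ 0` (`ζ ≠ ζ⁻¹`).
-/
import Mathlib
import Cfsg.Agent.Lib.Helper70.UMon.Defs
import Cfsg.Agent.Lib.Helper70.UMon.X1Api
import Cfsg.Agent.Lib.Helper70.UMon.MonoApi
import Cfsg.Agent.Lib.Helper70.UMon.Field

set_option autoImplicit false

namespace Cfsg.Agent.Lib.Helper70.UMon

open Matrix Module Cfsg.Agent.S0837 Cfsg.Agent.S0781 Cfsg.Agent.S2644 Cfsg.Agent.Lib.Helper37
open Cfsg.Agent.Lib.Helper13 (UX)
open Cfsg.Agent.Lib.Helper94.Mono (monGL mem_monGL slGL mem_slGL colMono diagUnit dg dg2)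
open Cfsg.Agent.Lib.Helper94.SUSub (MemM)

variable {F : Type*} [Field F] [Fintype F] {σ : F →+* F} {q n : ℕ}

/-- three distinct indices when `3 ≤ n` -/
theorem evNorms_three (hn : 3 ≤ n) : ∃ a b c : Fin n, a ≠ b ∧ a ≠ c ∧ b ≠ c := by
  refine ⟨⟨0, by omega⟩, ⟨1, by omega⟩, ⟨2, by omega⟩, ?_, ?_, ?_⟩ <;>
    · intro h
      have := congrArg Fin.val h
      simp at this

/-- the core computation of [EV-NORMS]: all coordinates of `v` have the same norm `α ≠ 0` -/
theorem evNorms_core (hσ2 : ∀ a, σ (σ a) = a) (h2 : (2 : F) = 0)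
    {M : Subgroup (GL (Fin n) F)} (hM : Over σ M) {v : Fin n → F} (hv : v ∈ X1 σ M)
    (hfull : ∀ k, v k ≠ 0) {α : F} (hN : ∀ k, v k * σ (v k) = α)
    {a b k₀ : Fin n} (hab : a ≠ b) (hak : a ≠ k₀) (hbk : b ≠ k₀)
    (ζ : Fˣ) (hζ : (ζ : F) * σ (ζ : F) = 1) (hζ1 : (ζ : F) ≠ 1)
    (htr : (ζ : F) + σ (ζ : F) ≠ α⁻¹) :
    ∃ v' ∈ X1 σ M, (∀ k, v' k ≠ 0) ∧ ∃ a b, a ≠ b ∧ v' a * σ (v' a) ≠ v' b * σ (v' b) := by
  obtain ⟨hv0, -⟩ := id hv
  have hα0 : α ≠ 0 := by
    rw [← hN a]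
    intro h0
    rcases mul_eq_zero.1 h0 with h | h
    · exact hfull a h
    · apply hfull a
      have := congrArg σ h
      rwa [hσ2, map_zero] at this
  have hσα : σ α = α := by
    rw [← hN a, map_mul, hσ2, mul_comm]
  -- notation for the scalars
  obtain ⟨z, hz⟩ : ∃ z : F, z = (ζ : F) := ⟨_, rfl⟩
  obtain ⟨zi, hzi⟩ : ∃ zi : F, zi = ((ζ⁻¹ : Fˣ) : F) := ⟨_, rfl⟩
  have hzzi : z * zi = 1 := by rw [hz, hzi]; simp
  have hσz : σ z = zi := by
    rw [hz, hzi, mu_inv hζ, Units.val_inv_eq_inv_val]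
  have hσzi : σ zi = z := by rw [← hσz, hσ2]
  rw [← hz] at hζ1 htr
  rw [hσz] at htr
  have hsum0 : z + zi ≠ 0 := by
    intro hzz
    have hsq : (z - 1) ^ 2 = 0 := by linear_combination z * hzz - hzzi - z * h2
    have := pow_eq_zero_iff (two_ne_zero) |>.1 hsq
    exact hζ1 (sub_eq_zero.1 this)
  -- the element `d = dg2 a b ζ`
  have hdNU : (dg2 a b ζ : GL (Fin n) F) ∈ NU σ n := dg2_mem_NU hab hζ
  have hdM : (dg2 a b ζ : GL (Fin n) F) ∈ M := hM.ge hdNU
  have hMU : M ≤ UG σ n := fun g hg => ((mem_SUn σ).1 (hM.le hg)).1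
  have hdU : (dg2 a b ζ : GL (Fin n) F) ∈ UG σ n := hMU hdM
  have hdv := x1_map (dg2 a b ζ) hdM hdU hv
  rw [dg2_mulVec hab, ← hz, ← hzi] at hdv
  obtain ⟨dv, hdvdef⟩ : ∃ dv : Fin n → F,
      dv = Function.update (Function.update v a (z * v a)) b (zi * v b) := ⟨_, rfl⟩
  rw [← hdvdef] at hdv
  have hdva : dv a = z * v a := by
    rw [hdvdef, Function.update_of_ne hab, Function.update_self]
  have hdvb : dv b = zi * v b := by
    rw [hdvdef, Function.update_self]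
  have hdvk : ∀ k, k ≠ a → k ≠ b → dv k = v k := by
    intro k hka hkb
    rw [hdvdef, Function.update_of_ne hkb, Function.update_of_ne hka]
  -- `κ = hf σ dv v`
  have hdec : dv = v + ((z - 1) * v a) • (Pi.single a 1 : Fin n → F)
      + ((zi - 1) * v b) • (Pi.single b 1 : Fin n → F) := by
    ext k
    simp only [Pi.add_apply, Pi.smul_apply, smul_eq_mul, Pi.single_apply]
    by_cases hka : k = a
    · subst hka
      rw [hdva, if_pos rfl, if_neg hab]
      ring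
    · by_cases hkb : k = b
      · subst hkb
        rw [hdvb, if_neg hka, if_pos rfl]
        ring
      · rw [hdvk k hka hkb, if_neg hka, if_neg hkb]
        ring
  have hκ : hf σ dv v = α * (z + zi) := by
    rw [hdec, hf_add_left, hf_add_left, hf_smul_left, hf_smul_left, hf_single_left,
      hf_single_left, hv0]
    have h1 := hN a
    have h3 := hN b
    linear_combination (z - 1) * h1 + (zi - 1) * h3 - α * h2
  obtain ⟨κ, hκdef⟩ : ∃ κ : F, κ = hf σ dv v := ⟨_, rfl⟩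
  have hκ' : κ = α * (z + zi) := by rw [hκdef, hκ]
  have hσκ : σ κ = κ := by
    rw [hκ', map_mul, map_add, hσα, hσz, hσzi]; ring
  have hκ1 : κ ≠ 1 := by
    intro h1
    apply htr
    rw [hκ'] at h1
    field_simp
    linear_combination h1
  -- the new vector
  have hw := x1_tv hMU hdv hv
  rw [← hκdef] at hw
  have hwa : (dv + κ • v) a = (z + κ) * v a := by
    rw [Pi.add_apply, Pi.smul_apply, smul_eq_mul, hdva]; ring
  have hwb : (dv + κ • v) b = (zi + κ) * v b := by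
    rw [Pi.add_apply, Pi.smul_apply, smul_eq_mul, hdvb]; ring
  have hwk : ∀ k, k ≠ a → k ≠ b → (dv + κ • v) k = (1 + κ) * v k := by
    intro k hka hkb
    rw [Pi.add_apply, Pi.smul_apply, smul_eq_mul, hdvk k hka hkb]; ring
  have h1κ : 1 + κ ≠ 0 := by
    intro h0
    apply hκ1
    linear_combination h0 - h2
  have hzκ : z + κ ≠ 0 := by
    intro h0
    -- then `z = κ` is fixed by `σ`, so `zi = z`
    have hzκ' : z = κ := by linear_combination h0 - κ * h2
    have : zi = z := by rw [← hσz, hzκ', hσκ]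
    apply hsum0
    rw [this]
    linear_combination z * h2
  have hziκ : zi + κ ≠ 0 := by
    intro h0
    have hzκ' : zi = κ := by linear_combination h0 - κ * h2
    have : z = zi := by rw [← hσzi, hzκ', hσκ]
    apply hsum0
    rw [this]
    linear_combination zi * h2
  refine ⟨dv + κ • v, hw, ?_, a, k₀, hak, ?_⟩
  · intro k
    by_cases hka : k = a
    · subst hka
      rw [hwa]
      exact mul_ne_zero hzκ (hfull k)
    · by_cases hkb : k = b
      · subst hkb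
        rw [hwb]
        exact mul_ne_zero hziκ (hfull k)
      · rw [hwk k hka hkb]
        exact mul_ne_zero h1κ (hfull k)
  · rw [hwa, hwk k₀ (Ne.symm hak) (Ne.symm hbk)]
    rw [map_mul, map_mul, map_add, map_add, map_one, hσz, hσκ]
    intro heq
    have h1 := hN a
    have h3 := hN k₀
    -- the difference of the two norms is `α² (z + zi)²`
    have hdiff : α * α * ((z + zi) * (z + zi)) = 0 := by
      have e1 : (z + κ) * v a * ((zi + κ) * σ (v a)) = (z + κ) * (zi + κ) * α := by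
        rw [← h1]; ring
      have e2 : (1 + κ) * v k₀ * ((1 + κ) * σ (v k₀)) = (1 + κ) * (1 + κ) * α := by
        rw [← h3]; ring
      rw [e1, e2] at heq
      rw [hκ'] at heq
      linear_combination heq + α * (z + zi) * α * h2 - α * hzzi
    rcases mul_eq_zero.1 hdiff with h | h
    · rcases mul_eq_zero.1 h with h | h <;> exact hα0 h
    · rcases mul_eq_zero.1 h with h | h <;> exact hsum0 h

theorem exists_unequal_norms (hC : FCtx σ q) (h2 : (2 : F) = 0) (hq : 3 ≤ q) (hn : 3 ≤ n)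
    {M : Subgroup (GL (Fin n) F)} (hM : Over σ M) {v : Fin n → F} (hv : v ∈ X1 σ M)
    (hfull : ∀ k, v k ≠ 0) :
    ∃ v' ∈ X1 σ M, (∀ k, v' k ≠ 0) ∧ ∃ a b, a ≠ b ∧ v' a * σ (v' a) ≠ v' b * σ (v' b) := by
  by_cases hex : ∃ a b, a ≠ b ∧ v a * σ (v a) ≠ v b * σ (v b)
  · exact ⟨v, hv, hfull, hex⟩
  · push Not at hex
    obtain ⟨a, b, k₀, hab, hak, hbk⟩ := evNorms_three hn
    have hN : ∀ k, v k * σ (v k) = v k₀ * σ (v k₀) := by
      intro k
      by_cases hk : k = k₀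
      · rw [hk]
      · exact hex k k₀ hk
    obtain ⟨ζ, hζ, hζ1, htr⟩ := exists_mu_trace_ne hC hq (v k₀ * σ (v k₀))⁻¹
    exact evNorms_core hC.invol h2 hM hv hfull hN hab hak hbk ζ hζ hζ1 htr

end Cfsg.Agent.Lib.Helper70.UMon
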