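/-
helper70, project UMON (S5655).  Characteristic-2 TI-killer (`q ≥ 4`): assembly.
-/
import Mathlib
import Cfsg.Agent.Lib.Helper70.UMon.Defs
import Cfsg.Agent.Lib.Helper70.UMon.EvenFullV
import Cfsg.Agent.Lib.Helper70.UMon.EvenNorms
import Cfsg.Agent.Lib.Helper70.UMon.EvenFin

set_option autoImplicit false

namespace Cfsg.Agent.Lib.Helper70.UMon

open Matrix Module Cfsg.Agent.S0837 Cfsg.Agent.S0781 Cfsg.Agent.S2644 Cfsg.Agent.Lib.Helper37
open Cfsg.Agent.Lib.Helper94.Mono (monGL mem_monGL slGL mem_slGL colMono diagUnit dg dg2)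

variable {F : Type*} [Field F] [Fintype F] {σ : F →+* F} {q n : ℕ}

/-- **Even `q ≥ 4`**: `TIp` and fullness are contradictory unless `M` is monomial. -/
theorem even_main (hC : FCtx σ q) (h2 : (2 : F) = 0) (hq : 3 ≤ q) (hn : 13 ≤ n)
    {M : Subgroup (GL (Fin n) F)} (hM : Over σ M) (hTI : TIp M) (hFull : Full M) :
    M ≤ monGL (Fin n) F := by
  intro f hfM
  by_contra hf
  obtain ⟨v, hv, hfull⟩ := exists_full_x1 hC h2 (by omega) hM hTI hFull hfM hf
  obtain ⟨v', hv', hfull', a, b, hab, hnorm⟩ := exists_unequal_norms hC h2 hq (by omega) hM hv hfull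
  exact even_fin hC h2 (by omega) hM hTI hv' hfull' hab hnorm

end Cfsg.Agent.Lib.Helper70.UMon
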