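/-
helper70, project UMON (S5655). MODULE UMON-[FRAME-PERM].
PROVED by helper15 (statement unchanged).
Sheet: Cfsg/Agent/Lib/Helper70/UMon/UMON_SHEET.md

Fullness lemma, step 1.  `TIp M`; `f, x ∈ M` and `x` fixes the column `f e_j`.  Then `x` permutes the frame
`{⟨f e_k⟩}`: there are a permutation `π` and scalars `c` with `x (f e_k) = c k • f e_{π k}`.

Proof.  `y := f⁻¹ * x * f ∈ M` fixes `e_j`, so its column `j` is monomial (`colMono y j` with row `j`), hence `y ∈ monGL`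
by `TIp M`: `∃ π, ∀ i k, i ≠ π k → y i k = 0` (`mem_monGL`).  So `y e_k = (y (π k) k) • e_{π k}` and
`x (f e_k) = f (y e_k) = (y (π k) k) • f e_{π k}` (`f * y = x * f`).
-/
import Mathlib
import Cfsg.Agent.Lib.Helper70.UMon.Defs

set_option autoImplicit false

namespace Cfsg.Agent.Lib.Helper70.UMon

open Matrix Module Cfsg.Agent.S0837 Cfsg.Agent.S0781 Cfsg.Agent.S2644 Cfsg.Agent.Lib.Helper37
open Cfsg.Agent.Lib.Helper13 (UX)
open Cfsg.Agent.Lib.Helper94.Mono (monGL mem_monGL slGL mem_slGL colMono diagUnit dg dg2)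
open Cfsg.Agent.Lib.Helper94.SUSub (MemM)

variable {F : Type*} [Field F] {n : ℕ}

theorem frame_perm {M : Subgroup (GL (Fin n) F)} (hTI : TIp M) {f x : GL (Fin n) F} (hf : f ∈ M)
    (hx : x ∈ M) {j : Fin n}
    (hfix : (x : Matrix (Fin n) (Fin n) F) *ᵥ ((f : Matrix (Fin n) (Fin n) F) *ᵥ Pi.single j 1) =
      (f : Matrix (Fin n) (Fin n) F) *ᵥ Pi.single j 1) :
    ∃ (π : Equiv.Perm (Fin n)) (c : Fin n → F), ∀ k,
      (x : Matrix (Fin n) (Fin n) F) *ᵥ ((f : Matrix (Fin n) (Fin n) F) *ᵥ Pi.single k 1) =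
        c k • ((f : Matrix (Fin n) (Fin n) F) *ᵥ Pi.single (π k) 1) := by
  classical
  have hyM : f⁻¹ * x * f ∈ M := M.mul_mem (M.mul_mem (M.inv_mem hf) hx) hf
  -- `y` fixes `e_j`
  have hyfix : ((f⁻¹ * x * f : GL (Fin n) F) : Matrix (Fin n) (Fin n) F) *ᵥ Pi.single j 1 =
      Pi.single j 1 := by
    rw [Units.val_mul, Units.val_mul, ← Matrix.mulVec_mulVec, ← Matrix.mulVec_mulVec, hfix,
      Matrix.mulVec_mulVec, ← Units.val_mul, inv_mul_cancel, Units.val_one, Matrix.one_mulVec]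
  have hcol : colMono (f⁻¹ * x * f) j := by
    refine ⟨j, fun i hi => ?_⟩
    have := congrFun hyfix i
    rw [Matrix.mulVec_single_one] at this
    simpa [hi] using this
  obtain ⟨π, hπ⟩ := mem_monGL.mp (hTI _ hyM ⟨j, hcol⟩)
  refine ⟨π, fun k => ((f⁻¹ * x * f : GL (Fin n) F) : Matrix (Fin n) (Fin n) F) (π k) k, fun k => ?_⟩
  have hyk : ((f⁻¹ * x * f : GL (Fin n) F) : Matrix (Fin n) (Fin n) F) *ᵥ Pi.single k 1 =
      ((f⁻¹ * x * f : GL (Fin n) F) : Matrix (Fin n) (Fin n) F) (π k) k • Pi.single (π k) 1 := by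
    rw [Matrix.mulVec_single_one]
    funext i
    by_cases hi : i = π k
    · subst hi
      simp
    · rw [Pi.smul_apply, Pi.single_eq_of_ne hi, smul_zero]
      exact hπ i k hi
  have hfy : (f : Matrix (Fin n) (Fin n) F) * ((f⁻¹ * x * f : GL (Fin n) F) : Matrix (Fin n) (Fin n) F) =
      (x : Matrix (Fin n) (Fin n) F) * (f : Matrix (Fin n) (Fin n) F) := by
    rw [← Units.val_mul, ← Units.val_mul]
    congr 1
    group
  rw [Matrix.mulVec_mulVec, ← hfy, ← Matrix.mulVec_mulVec, hyk, Matrix.mulVec_smul]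

end Cfsg.Agent.Lib.Helper70.UMon
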