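/-
helper70, project UMON (S5655). MODULE UMON-[FULL3]  (proved by helper93).
Sheet: Cfsg/Agent/Lib/Helper70/UMon/UMON_SHEET.md

FULLNESS LEMMA for `q = 3` (`F = F_9`, `μ = μ₄`), `n ≥ 5`.

Proof.  `F_9ˣ` is cyclic of order 8: pick `ζ` with `ζ² = -1`; then `ζ⁴ = 1 = ζ^(q+1) = ζ σ ζ`, `ζ² ≠ 1` (characteristic 3),
`ζ³ = -ζ ≠ 1`.  Let `x ∈ M`, `x ∉ monGL`, with columns `b k = x e_k` (linearly independent).
CLAIM: if column `j` has zeros in the rows `m ≠ m'` then there are `k ≠ k'` with `b k`, `b k'` supported on `{m, m'}`.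
[`X := dg2 m m' ζ ∈ N` fixes `b j`; `frame_perm` + `cycle_cases`: each `k` is fixed by `π` or lies in a 2-cycle with `b k`
supported on `{m,m'}`.  If all `k` are fixed, every column is an eigenvector of `X` (eigenvalues `ζ, ζ⁻¹, 1` pairwise
distinct) and, as in the case `q ≥ 4`, a column with non-zero `m`-th coordinate is monomial, so `x ∈ monGL` by `TIp`:
contradiction.  So some `k` has `π k ≠ k`; apply `cycle_cases` to `k` and to `k' := π k`.]
Now assume column `j` has two zeros `m, m'`.  The claim gives a column `k` supported on `{m,m'}`; it has zeros at three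
distinct rows `r, r', r'' ∉ {m, m'}` (`n ≥ 5`).  The claim for `(k; r, r')` and `(k; r, r'')` gives two columns supported on
`{r,r'}` and two supported on `{r,r''}`; a column in both pairs would be supported on `{r}`, i.e. monomial, so `x ∈ monGL`:
contradiction.  Hence four different columns lie in the 3-dimensional coordinate space on `{r,r',r''}`, contradicting
linear independence.
-/
import Mathlib
import Cfsg.Agent.Lib.Helper70.UMon.Defs
import Cfsg.Agent.Lib.Helper70.UMon.MonoApi
import Cfsg.Agent.Lib.Helper70.UMon.Field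
import Cfsg.Agent.Lib.Helper70.UMon.FramePerm
import Cfsg.Agent.Lib.Helper70.UMon.Cycle

set_option autoImplicit false

namespace Cfsg.Agent.Lib.Helper70.UMon

open Matrix Module Cfsg.Agent.S0837 Cfsg.Agent.S0781 Cfsg.Agent.S2644 Cfsg.Agent.Lib.Helper37
open Cfsg.Agent.Lib.Helper13 (UX)
open Cfsg.Agent.Lib.Helper94.Mono (monGL mem_monGL slGL mem_slGL colMono diagUnit dg dg2)
open Cfsg.Agent.Lib.Helper94.SUSub (MemM)

variable {F : Type*} [Field F] [Fintype F] {σ : F →+* F} {n : ℕ}

/-- a fourth root of unity of order `4` in `μ` for `q = 3` -/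
theorem full3_exists_zeta (hC : FCtx σ 3) :
    ∃ ζ : Fˣ, (ζ : F) * σ (ζ : F) = 1 ∧ (ζ : F) ^ 2 ≠ 1 ∧ (ζ : F) ^ 3 ≠ 1 := by
  obtain ⟨ζ, hζ, h2⟩ := exists_mu_sq_ne hC
  refine ⟨ζ, hζ, h2, ?_⟩
  intro h3
  rw [hC.frob, h3, mul_one] at hζ
  apply h2
  rw [hζ, one_pow]

omit [Fintype F] in
/-- CLAIM of the header (any `ζ ∈ μ` with `ζ² ≠ 1`, `ζ³ ≠ 1`): a column of a non-monomial `x ∈ M` with zeros in the
rows `m ≠ m'` yields two different columns supported on `{m, m'}`. -/
theorem full3_claim {ζ : Fˣ} (hζ : (ζ : F) * σ (ζ : F) = 1) (h2 : (ζ : F) ^ 2 ≠ 1)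
    (h3 : (ζ : F) ^ 3 ≠ 1) {M : Subgroup (GL (Fin n) F)} (hM : Over σ M) (hTI : TIp M)
    {x : GL (Fin n) F} (hx : x ∈ M) (hxm : x ∉ monGL (Fin n) F) {j m m' : Fin n} (hmm : m ≠ m')
    (h0 : (x : Matrix (Fin n) (Fin n) F) m j = 0) (h0' : (x : Matrix (Fin n) (Fin n) F) m' j = 0) :
    ∃ k k', k ≠ k' ∧ (∀ r, r ≠ m → r ≠ m' → (x : Matrix (Fin n) (Fin n) F) r k = 0) ∧
      (∀ r, r ≠ m → r ≠ m' → (x : Matrix (Fin n) (Fin n) F) r k' = 0) := by
  classical
  have hXM : (dg2 m m' ζ : GL (Fin n) F) ∈ M := hM.ge (dg2_mem_NU hmm hζ)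
  have hbr : ∀ k r, ((x : Matrix (Fin n) (Fin n) F) *ᵥ Pi.single k 1) r =
      (x : Matrix (Fin n) (Fin n) F) r k := by
    intro k r
    rw [Matrix.mulVec_single_one, Matrix.col_apply]
  have hfix : ((dg2 m m' ζ : GL (Fin n) F) : Matrix (Fin n) (Fin n) F) *ᵥ
      ((x : Matrix (Fin n) (Fin n) F) *ᵥ Pi.single j 1) =
      (x : Matrix (Fin n) (Fin n) F) *ᵥ Pi.single j 1 := by
    rw [dg2_mulVec hmm]
    funext r
    by_cases hr' : r = m'
    · subst hr'
      rw [Function.update_self, hbr, h0', mul_zero]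
    · rw [Function.update_of_ne hr']
      by_cases hr : r = m
      · subst hr
        rw [Function.update_self, hbr, h0, mul_zero]
      · rw [Function.update_of_ne hr]
  obtain ⟨π, c, hπ⟩ := frame_perm hTI hx hXM hfix
  have hlin : LinearIndependent F
      (fun k : Fin n => (x : Matrix (Fin n) (Fin n) F) *ᵥ Pi.single k 1) := by
    have : (fun k : Fin n => (x : Matrix (Fin n) (Fin n) F) *ᵥ Pi.single k 1) =
        (x : Matrix (Fin n) (Fin n) F).col := by
      funext k
      exact Matrix.mulVec_single_one _ _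
    rw [this]
    exact Matrix.linearIndependent_cols_iff_isUnit.2 x.isUnit
  have hcyc := cycle_cases hmm ζ h2 h3
    (fun k : Fin n => (x : Matrix (Fin n) (Fin n) F) *ᵥ Pi.single k 1) hlin π c hπ
  have hζ1 : (ζ : F) ≠ 1 := by
    intro h
    apply h2
    rw [h, one_pow]
  by_cases hall : ∀ k, π k = k
  · exfalso
    have hex : ∃ k, (x : Matrix (Fin n) (Fin n) F) m k ≠ 0 := by
      by_contra hcon
      have hcon' : ∀ k, (x : Matrix (Fin n) (Fin n) F) m k = 0 := by
        intro k
        by_contra h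
        exact hcon ⟨k, h⟩
      have hdet : (x : Matrix (Fin n) (Fin n) F).det = 0 := Matrix.det_eq_zero_of_row_eq_zero m hcon'
      have hu := (Matrix.isUnit_iff_isUnit_det (x : Matrix (Fin n) (Fin n) F)).1 x.isUnit
      exact hu.ne_zero hdet
    obtain ⟨k, hk⟩ := hex
    apply hxm
    apply hTI x hx
    refine ⟨k, m, ?_⟩
    intro r hr
    have hXk : ∀ r, (((dg2 m m' ζ : GL (Fin n) F) : Matrix (Fin n) (Fin n) F) *ᵥ
        ((x : Matrix (Fin n) (Fin n) F) *ᵥ Pi.single k 1)) r =
        c k * (x : Matrix (Fin n) (Fin n) F) r k := by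
      intro r
      rw [hπ k, hall k, Pi.smul_apply, smul_eq_mul, hbr]
    rw [dg2_mulVec hmm] at hXk
    have hm := hXk m
    rw [Function.update_of_ne hmm, Function.update_self, hbr] at hm
    have hck : c k = (ζ : F) := by
      have : ((ζ : F) - c k) * (x : Matrix (Fin n) (Fin n) F) m k = 0 := by linear_combination hm
      rcases mul_eq_zero.1 this with h | h
      · exact (sub_eq_zero.1 h).symm
      · exact absurd h hk
    have hrr := hXk r
    by_cases hr' : r = m'
    · subst hr'
      rw [Function.update_self, hbr, hck] at hrr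
      have hinv : ((ζ⁻¹ : Fˣ) : F) * (ζ : F) = 1 := by
        rw [← Units.val_mul, inv_mul_cancel, Units.val_one]
      have : ((ζ : F) ^ 2 - 1) * (x : Matrix (Fin n) (Fin n) F) r k = 0 := by
        linear_combination (-(ζ : F)) * hrr +
          ((x : Matrix (Fin n) (Fin n) F) r k) * hinv
      rcases mul_eq_zero.1 this with h | h
      · exact absurd (sub_eq_zero.1 h) h2
      · exact h
    · rw [Function.update_of_ne hr', Function.update_of_ne hr, hbr, hck] at hrr
      have : ((ζ : F) - 1) * (x : Matrix (Fin n) (Fin n) F) r k = 0 := by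
        linear_combination -hrr
      rcases mul_eq_zero.1 this with h | h
      · exact absurd (sub_eq_zero.1 h) hζ1
      · exact h
  · have hex : ∃ k, π k ≠ k := by
      by_contra hcon
      apply hall
      intro k
      by_contra h
      exact hcon ⟨k, h⟩
    obtain ⟨k, hk⟩ := hex
    rcases hcyc k with h | ⟨hkk, -, hsupp⟩
    · exact absurd h hk
    · have hk' : π (π k) ≠ π k := fun h => hk (π.injective h)
      rcases hcyc (π k) with h | ⟨-, -, hsupp'⟩
      · exact absurd h hk'
      · refine ⟨k, π k, fun h => hk h.symm, ?_, ?_⟩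
        · intro r hr hr'
          rw [← hbr]
          exact hsupp r hr hr'
        · intro r hr hr'
          rw [← hbr]
          exact hsupp' r hr hr'

omit [Fintype F] in
/-- four different columns of an invertible matrix cannot all be supported on three rows -/
theorem full3_four_cols (x : GL (Fin n) F) {r r' r'' : Fin n} (hrr' : r ≠ r') (hrr'' : r ≠ r'')
    (hr'r'' : r' ≠ r'') {k : Fin 4 → Fin n} (hk : Function.Injective k)
    (hsupp : ∀ i s, s ≠ r → s ≠ r' → s ≠ r'' → (x : Matrix (Fin n) (Fin n) F) s (k i) = 0) :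
    False := by
  classical
  have hlin : LinearIndependent F (x : Matrix (Fin n) (Fin n) F).col :=
    Matrix.linearIndependent_cols_iff_isUnit.2 x.isUnit
  have hlin4 : LinearIndependent F (fun i : Fin 4 => (x : Matrix (Fin n) (Fin n) F).col (k i)) :=
    hlin.comp k hk
  have hcard := linearIndependent_iff_card_eq_finrank_span.1 hlin4
  rw [Fintype.card_fin] at hcard
  let s : Finset (Fin n → F) := {Pi.single r 1, Pi.single r' 1, Pi.single r'' 1}
  have hle : Submodule.span F (Set.range fun i : Fin 4 => (x : Matrix (Fin n) (Fin n) F).col (k i)) ≤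
      Submodule.span F (s : Set (Fin n → F)) := by
    rw [Submodule.span_le]
    rintro _ ⟨i, rfl⟩
    have hdec : (x : Matrix (Fin n) (Fin n) F).col (k i) =
        (x : Matrix (Fin n) (Fin n) F) r (k i) • (Pi.single r 1 : Fin n → F) +
        (x : Matrix (Fin n) (Fin n) F) r' (k i) • (Pi.single r' 1 : Fin n → F) +
        (x : Matrix (Fin n) (Fin n) F) r'' (k i) • (Pi.single r'' 1 : Fin n → F) := by
      funext t
      simp only [Matrix.col_apply, Pi.add_apply, Pi.smul_apply, smul_eq_mul, Pi.single_apply]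
      by_cases h1 : t = r
      · subst h1
        simp [hrr', hrr'']
      · by_cases h2 : t = r'
        · subst h2
          simp [h1, hr'r'']
        · by_cases h3 : t = r''
          · subst h3
            simp [h1, h2]
          · simp [h1, h2, h3, hsupp i t h1 h2 h3]
    show (x : Matrix (Fin n) (Fin n) F).col (k i) ∈ Submodule.span F (s : Set (Fin n → F))
    rw [hdec]
    have m1 : (Pi.single r 1 : Fin n → F) ∈ Submodule.span F (s : Set (Fin n → F)) :=
      Submodule.subset_span (by simp [s])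
    have m2 : (Pi.single r' 1 : Fin n → F) ∈ Submodule.span F (s : Set (Fin n → F)) :=
      Submodule.subset_span (by simp [s])
    have m3 : (Pi.single r'' 1 : Fin n → F) ∈ Submodule.span F (s : Set (Fin n → F)) :=
      Submodule.subset_span (by simp [s])
    exact Submodule.add_mem _ (Submodule.add_mem _ (Submodule.smul_mem _ _ m1)
      (Submodule.smul_mem _ _ m2)) (Submodule.smul_mem _ _ m3)
  have h1 : (Set.range fun i : Fin 4 => (x : Matrix (Fin n) (Fin n) F).col (k i)).finrank F ≤
      (s : Set (Fin n → F)).finrank F := Submodule.finrank_mono hle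
  have h2' := finrank_span_finset_le_card (R := F) s
  have h3 : s.card ≤ 3 := Finset.card_le_three
  omega

theorem full_of_TI_three (hC : FCtx σ 3) (hn : 5 ≤ n) {M : Subgroup (GL (Fin n) F)} (hM : Over σ M)
    (hTI : TIp M) : Full M := by
  classical
  obtain ⟨ζ, hζ, h2, h3⟩ := full3_exists_zeta hC
  intro x hx hxm j i i' hii h0 h0'
  obtain ⟨k, -, -, hk, -⟩ := full3_claim hζ h2 h3 hM hTI hx hxm hii h0 h0'
  have hcard : 2 < (({i, i'} : Finset (Fin n))ᶜ).card := by
    rw [Finset.card_compl, Fintype.card_fin]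
    have : ({i, i'} : Finset (Fin n)).card ≤ 2 := Finset.card_le_two
    omega
  obtain ⟨r, hr, r', hr', r'', hr'', hrr', hrr'', hr'r''⟩ := Finset.two_lt_card.1 hcard
  simp only [Finset.mem_compl, Finset.mem_insert, Finset.mem_singleton, not_or] at hr hr' hr''
  have z1 : (x : Matrix (Fin n) (Fin n) F) r k = 0 := hk r hr.1 hr.2
  have z2 : (x : Matrix (Fin n) (Fin n) F) r' k = 0 := hk r' hr'.1 hr'.2
  have z3 : (x : Matrix (Fin n) (Fin n) F) r'' k = 0 := hk r'' hr''.1 hr''.2
  obtain ⟨k1, k2, h12, s1, s2⟩ := full3_claim hζ h2 h3 hM hTI hx hxm hrr' z1 z2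
  obtain ⟨k3, k4, h34, s3, s4⟩ := full3_claim hζ h2 h3 hM hTI hx hxm hrr'' z1 z3
  have hmono : ∀ a, (∀ s, s ≠ r → s ≠ r' → (x : Matrix (Fin n) (Fin n) F) s a = 0) →
      (∀ s, s ≠ r → s ≠ r'' → (x : Matrix (Fin n) (Fin n) F) s a = 0) → False := by
    intro a ha ha'
    apply hxm
    apply hTI x hx
    refine ⟨a, r, fun s hs => ?_⟩
    by_cases hs' : s = r'
    · subst hs'
      exact ha' s hs hr'r''
    · exact ha s hs hs'
  have h13 : k1 ≠ k3 := fun h => hmono k1 s1 (h ▸ s3)
  have h14 : k1 ≠ k4 := fun h => hmono k1 s1 (h ▸ s4)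
  have h23 : k2 ≠ k3 := fun h => hmono k2 s2 (h ▸ s3)
  have h24 : k2 ≠ k4 := fun h => hmono k2 s2 (h ▸ s4)
  apply full3_four_cols x hrr' hrr'' hr'r'' (k := ![k1, k2, k3, k4])
  · intro a b hab
    fin_cases a <;> fin_cases b <;> simp_all
  · intro a s hs hs' hs''
    fin_cases a
    · exact s1 s hs hs'
    · exact s2 s hs hs'
    · exact s3 s hs hs''
    · exact s4 s hs hs''

end Cfsg.Agent.Lib.Helper70.UMon
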