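/-
helper70, project UMON (S5655). MODULE UMON-[FULL].
PLACEHOLDER: exact statement(s) + paper proof; the prover replaces every `sorry` (keep names and statements).
Sheet: Cfsg/Agent/Lib/Helper70/UMon/UMON_SHEET.md

FULLNESS LEMMA for `q ≥ 4`: if `TIp M` (and `N ≤ M`) then every non-monomial element of `M` has at most one zero in
each column.

Proof.  Let `x ∈ M`, `x ∉ monGL`, and suppose column `j` has zeros in the rows `i ≠ i'`.  Pick `ζ` with `ζ σ ζ = 1`, `ζ³ ≠ 1`,
`ζ⁴ ≠ 1` (`exists_mu_ord`), so also `ζ² ≠ 1`, `ζ ≠ 1`.  `X := dg2 i i' ζ ∈ NU σ n ≤ M` fixes `x e_j` (`dg2_mulVec`: it only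
changes the coordinates `i, i'`, which vanish).  `frame_perm` (with `f := x`, `x := X`) gives `π, c` with
`X (x e_k) = c k • x e_{π k}`.  The columns `b k := x e_k` are linearly independent (`x` invertible).  By `cycle_cases`
(the 2-cycle alternative needs `ζ⁴ = 1`) `π k = k` for all `k`: every column is an eigenvector of `X`.  `X` is diagonal with
the pairwise distinct eigenvalues `ζ` (at `i`), `ζ⁻¹` (at `i'`), `1`.  As `x` is invertible some column `k` has
`(x e_k) i ≠ 0`; comparing the `i`-th coordinates `c k = ζ`, and for `r ≠ i` the `r`-th coordinate gives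
`(ζ - d_r) (x e_k) r = 0` with `d_r ∈ {ζ⁻¹, 1}`, so `(x e_k) r = 0`: column `k` is monomial, `x ∈ monGL` by `TIp`:
contradiction.
-/
import Mathlib
import Cfsg.Agent.Lib.Helper70.UMon.Defs
import Cfsg.Agent.Lib.Helper70.UMon.MonoApi
import Cfsg.Agent.Lib.Helper70.UMon.Field
import Cfsg.Agent.Lib.Helper70.UMon.FramePerm
import Cfsg.Agent.Lib.Helper70.UMon.Cycle

set_option autoImplicit false

namespace Cfsg.Agent.Lib.Helper70.UMon

open Matrix Module Cfsg.Agent.S0837 Cfsg.Agent.S0781 Cfsg.Agent.S2644 Cfsg.Agent.Lib.Helper37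
open Cfsg.Agent.Lib.Helper13 (UX)
open Cfsg.Agent.Lib.Helper94.Mono (monGL mem_monGL slGL mem_slGL colMono diagUnit dg dg2)
open Cfsg.Agent.Lib.Helper94.SUSub (MemM)

variable {F : Type*} [Field F] [Fintype F] {σ : F →+* F} {q n : ℕ}

omit [Fintype F] in
/-- the columns of an invertible matrix are linearly independent -/
theorem fullQ4_cols_linearIndependent (x : GL (Fin n) F) :
    LinearIndependent F (fun k : Fin n => (x : Matrix (Fin n) (Fin n) F) *ᵥ Pi.single k (1 : F)) := by
  have hker : LinearMap.ker (Matrix.mulVecLin (x : Matrix (Fin n) (Fin n) F)) = ⊥ := by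
    rw [LinearMap.ker_eq_bot]
    intro v w hvw
    simp only [Matrix.mulVecLin_apply] at hvw
    have h1 : ((x⁻¹ : GL (Fin n) F) : Matrix (Fin n) (Fin n) F) *ᵥ
        ((x : Matrix (Fin n) (Fin n) F) *ᵥ v) =
        ((x⁻¹ : GL (Fin n) F) : Matrix (Fin n) (Fin n) F) *ᵥ
        ((x : Matrix (Fin n) (Fin n) F) *ᵥ w) := by rw [hvw]
    rwa [mulVec_mulVec, mulVec_mulVec, Units.inv_mul, one_mulVec, one_mulVec] at h1
  have := (Pi.basisFun F (Fin n)).linearIndependent.map' _ hker
  have heq : (fun k : Fin n => (x : Matrix (Fin n) (Fin n) F) *ᵥ Pi.single k (1 : F)) =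
      ⇑(Matrix.mulVecLin (x : Matrix (Fin n) (Fin n) F)) ∘ ⇑(Pi.basisFun F (Fin n)) := by
    funext k
    simp [Pi.basisFun_apply]
  rw [heq]
  exact this

omit [Fintype F] in
theorem fullQ4_mulVec_single (x : Matrix (Fin n) (Fin n) F) (k r : Fin n) :
    (x *ᵥ Pi.single k (1 : F)) r = x r k := by
  simp [mulVec, dotProduct, Pi.single_apply]

theorem full_of_TI (hC : FCtx σ q) (hq : 4 ≤ q) {M : Subgroup (GL (Fin n) F)} (hM : Over σ M)
    (hTI : TIp M) : Full M := by
  intro x hx hxm j i i' hii' h0 h0'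
  apply hxm
  obtain ⟨ζ, hζ, h3, h4⟩ := exists_mu_ord hC hq
  have h2 : (ζ : F) ^ 2 ≠ 1 := by
    intro h
    apply h4
    have : (ζ : F) ^ 4 = ((ζ : F) ^ 2) ^ 2 := by ring
    rw [this, h, one_pow]
  have h1 : (ζ : F) ≠ 1 := by
    intro h
    apply h2
    rw [h, one_pow]
  have hζ0 : (ζ : F) ≠ 0 := ζ.ne_zero
  have hζinv : ((ζ⁻¹ : Fˣ) : F) = (ζ : F)⁻¹ := Units.val_inv_eq_inv_val ζ
  -- the element `X`
  have hXM : (dg2 i i' ζ : GL (Fin n) F) ∈ M := hM.ge (dg2_mem_NU hii' hζ)
  -- `X` fixes the column `j`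
  have hfix : ((dg2 i i' ζ : GL (Fin n) F) : Matrix (Fin n) (Fin n) F) *ᵥ
      ((x : Matrix (Fin n) (Fin n) F) *ᵥ Pi.single j 1) =
      (x : Matrix (Fin n) (Fin n) F) *ᵥ Pi.single j 1 := by
    rw [dg2_mulVec hii']
    have e1 : ((x : Matrix (Fin n) (Fin n) F) *ᵥ Pi.single j (1 : F)) i = 0 := by
      rw [fullQ4_mulVec_single]; exact h0
    have e2 : ((x : Matrix (Fin n) (Fin n) F) *ᵥ Pi.single j (1 : F)) i' = 0 := by
      rw [fullQ4_mulVec_single]; exact h0'
    rw [e1, e2, mul_zero, mul_zero]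
    ext r
    by_cases hr' : r = i'
    · rw [hr', Function.update_self, e2]
    · rw [Function.update_of_ne hr']
      by_cases hr : r = i
      · rw [hr, Function.update_self, e1]
      · rw [Function.update_of_ne hr]
  obtain ⟨π, c, hπ⟩ := frame_perm hTI hx hXM hfix
  have hcyc := cycle_cases hii' ζ h2 h3
    (fun k : Fin n => (x : Matrix (Fin n) (Fin n) F) *ᵥ Pi.single k (1 : F))
    (fullQ4_cols_linearIndependent x) π c hπ
  have hπid : ∀ k, π k = k := by
    intro k
    rcases hcyc k with h | ⟨_, h, _⟩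
    · exact h
    · exact absurd h h4
  -- a column with non-zero entry in row `i`
  obtain ⟨k, hk⟩ : ∃ k, (x : Matrix (Fin n) (Fin n) F) i k ≠ 0 := by
    by_contra hcon
    push Not at hcon
    have h := congrFun (congrFun (Units.mul_inv x) i) i
    rw [Matrix.mul_apply, Matrix.one_apply_eq] at h
    have : ∑ l, (x : Matrix (Fin n) (Fin n) F) i l *
        ((x⁻¹ : GL (Fin n) F) : Matrix (Fin n) (Fin n) F) l i = 0 :=
      Finset.sum_eq_zero (fun l _ => by rw [hcon l, zero_mul])
    rw [this] at h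
    exact zero_ne_one h
  have hk' := hπ k
  rw [hπid k, dg2_mulVec hii'] at hk'
  -- the `i`-th coordinate gives `c k = ζ`
  have hck : c k = (ζ : F) := by
    have := congrFun hk' i
    rw [Function.update_of_ne hii', Function.update_self, Pi.smul_apply, smul_eq_mul,
      fullQ4_mulVec_single] at this
    exact (mul_right_cancel₀ hk this).symm
  -- the column `k` is monomial
  have hmono : colMono x k := by
    refine ⟨i, fun r hr => ?_⟩
    have := congrFun hk' r
    rw [Pi.smul_apply, smul_eq_mul, hck, fullQ4_mulVec_single] at this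
    by_cases hri' : r = i'
    · subst hri'
      rw [Function.update_self, fullQ4_mulVec_single, hζinv] at this
      -- `ζ⁻¹ v = ζ v`
      have h5 : ((ζ : F) ^ 2 - 1) * (x : Matrix (Fin n) (Fin n) F) r k = 0 := by
        have h6 : (ζ : F) * ((ζ : F)⁻¹ * (x : Matrix (Fin n) (Fin n) F) r k) =
            (ζ : F) * ((ζ : F) * (x : Matrix (Fin n) (Fin n) F) r k) := by rw [this]
        rw [← mul_assoc, mul_inv_cancel₀ hζ0, one_mul] at h6
        linear_combination -h6
      rcases mul_eq_zero.mp h5 with h | h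
      · exact absurd (sub_eq_zero.mp h) h2
      · exact h
    · rw [Function.update_of_ne hri', Function.update_of_ne hr, fullQ4_mulVec_single] at this
      have h5 : ((ζ : F) - 1) * (x : Matrix (Fin n) (Fin n) F) r k = 0 := by
        linear_combination -this
      rcases mul_eq_zero.mp h5 with h | h
      · exact absurd (sub_eq_zero.mp h) h1
      · exact h
  exact hTI x hx ⟨k, hmono⟩

end Cfsg.Agent.Lib.Helper70.UMon
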