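/-
helper70, project UMON (S5655). MODULE UMON-[ROT].  (proved by helper58; uses `norm_surj`, `card_norm_fiber` of UMon/Field)
Sheet: Cfsg/Agent/Lib/Helper70/UMon/UMON_SHEET.md

Explicit elements of `SU(⟨e_b, e_c⟩)` (identity on the other coordinates).  Let `blockMat b c x y z w` be the matrix which
is `!![x, y; z, w]` on the coordinates `b, c` and the identity elsewhere (define it e.g. as
`1 + (x-1) • E_bb + y • E_bc + z • E_cb + (w-1) • E_cc`); it is unitary iff the `2×2` matrix is, its determinant is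
`x w - y z`, its inverse comes from the inverse `2×2` matrix.
* `rot_exists`: `(v_b, v_c)` with `ν = N(v_b) + N(v_c) ≠ 0`.  Pick `λ` with `N(λ) = ν` (`norm_surj`; `ν` is fixed by `σ`).
  Take `!![σ v_b / σ λ, σ v_c / σ λ; - v_c / λ, v_b / λ]`: unitary, determinant `ν/(λ σ λ) = 1`, maps `(v_b, v_c)` to
  `(λ, 0)`.
* `scale_exists`: `(v_b, v_c)` isotropic, `l` in the fixed field, `l ≠ 0`.  If `v_b = 0` then `v_c = 0`: take `g = 1`.
  Otherwise `v_c = κ v_b` with `N(κ) = -1`; pick `κ' ≠ κ` with `N(κ') = -1` (`card_norm_fiber`: `q + 1 ≥ 2` solutions);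
  `w = (1, κ)`, `w' = (1, κ')` are isotropic with `(w,w') = 1 - κ/κ' ≠ 0`; the linear map `w ↦ l w`, `w' ↦ l⁻¹ w'` is unitary
  (it preserves `(w,w')` as `l σ(l⁻¹) = 1`) of determinant 1.  Explicitly, with `δ = κ' - κ`:
  `!![ (l κ' - l⁻¹ κ)/δ , (l⁻¹ - l)/δ ; κ κ' (l - l⁻¹)/δ , (l⁻¹ κ' - l κ)/δ ]`.
-/
import Mathlib
import Cfsg.Agent.Lib.Helper70.UMon.Defs
import Cfsg.Agent.Lib.Helper70.UMon.Field

set_option autoImplicit false

namespace Cfsg.Agent.Lib.Helper70.UMon

open Matrix Module Cfsg.Agent.S0837 Cfsg.Agent.S0781 Cfsg.Agent.S2644 Cfsg.Agent.Lib.Helper37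
open Cfsg.Agent.Lib.Helper13 (UX)
open Cfsg.Agent.Lib.Helper94.Mono (monGL mem_monGL slGL mem_slGL colMono diagUnit dg dg2)
open Cfsg.Agent.Lib.Helper94.SUSub (MemM)

section aux

variable {F : Type*} [Field F] {σ : F →+* F} {n : ℕ}

/-- the selection matrix with columns `e_b`, `e_c` -/
def rotSel (F : Type*) [Field F] {n : ℕ} (b c : Fin n) : Matrix (Fin n) (Fin 2) F :=
  Matrix.of fun r i => if r = ![b, c] i then 1 else 0

theorem rotSel_transpose_mul {b c : Fin n} (hbc : b ≠ c) :
    (rotSel F b c)ᵀ * rotSel F b c = (1 : Matrix (Fin 2) (Fin 2) F) := by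
  ext i j
  rw [Matrix.mul_apply]
  simp only [Matrix.transpose_apply, rotSel, Matrix.of_apply, ite_mul, one_mul, zero_mul,
    Finset.sum_ite_eq', Finset.mem_univ, if_true, Matrix.one_apply]
  fin_cases i <;> fin_cases j <;> simp [hbc, hbc.symm]

/-- `A` on the coordinates `b, c`, the identity elsewhere -/
def rotBlock (b c : Fin n) (A : Matrix (Fin 2) (Fin 2) F) : Matrix (Fin n) (Fin n) F :=
  1 + rotSel F b c * (A - 1) * (rotSel F b c)ᵀ

theorem det_rotBlock {b c : Fin n} (hbc : b ≠ c) (A : Matrix (Fin 2) (Fin 2) F) :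
    (rotBlock b c A).det = A.det := by
  unfold rotBlock
  rw [Matrix.mul_assoc, Matrix.det_one_add_mul_comm, Matrix.mul_assoc, rotSel_transpose_mul (F := F) hbc,
    Matrix.mul_one]
  simp

theorem rotBlock_mulVec {b c : Fin n} (hbc : b ≠ c) (A : Matrix (Fin 2) (Fin 2) F) (x : Fin n → F)
    (r : Fin n) :
    (rotBlock b c A *ᵥ x) r = if r = b then A 0 0 * x b + A 0 1 * x c
      else if r = c then A 1 0 * x b + A 1 1 * x c else x r := by
  have h1 : (rotSel F b c)ᵀ *ᵥ x = ![x b, x c] := by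
    have h0 : ∀ i, ((rotSel F b c)ᵀ *ᵥ x) i = x (![b, c] i) := by
      intro i
      simp only [mulVec, dotProduct, Matrix.transpose_apply, rotSel, Matrix.of_apply, ite_mul,
        one_mul, zero_mul, Finset.sum_ite_eq', Finset.mem_univ, if_true]
    ext i
    rw [h0]
    fin_cases i <;> rfl
  have h2 : ∀ y : Fin 2 → F, (rotSel F b c *ᵥ y) r =
      (if r = b then y 0 else 0) + (if r = c then y 1 else 0) := by
    intro y
    simp only [mulVec, dotProduct, rotSel, Fin.sum_univ_two, Matrix.of_apply, Matrix.cons_val_zero,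
      Matrix.cons_val_one, ite_mul, one_mul, zero_mul]
    congr
  unfold rotBlock
  rw [add_mulVec, one_mulVec, ← mulVec_mulVec, ← mulVec_mulVec, h1, Pi.add_apply, h2]
  by_cases hrb : r = b
  · subst hrb
    simp [hbc, mulVec, dotProduct, Fin.sum_univ_two, Matrix.sub_apply]
    ring
  · by_cases hrc : r = c
    · subst hrc
      simp [hrb, mulVec, dotProduct, Fin.sum_univ_two, Matrix.sub_apply]
      ring
    · simp [hrb, hrc]


/-- an element `!![X, Y; -σ Y, σ X]` of `SU₂` on the coordinates `b, c`, identity elsewhere -/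
theorem rot_su2_block_exists (hσ2 : ∀ a, σ (σ a) = a) {b c : Fin n} (hbc : b ≠ c) (X Y : F)
    (h : X * σ X + Y * σ Y = 1) :
    ∃ g : GL (Fin n) F, g ∈ UG σ n ∧ (g : Matrix (Fin n) (Fin n) F).det = 1 ∧
      ∀ (x : Fin n → F) (r : Fin n), ((g : Matrix (Fin n) (Fin n) F) *ᵥ x) r =
        if r = b then X * x b + Y * x c else if r = c then -σ Y * x b + σ X * x c else x r := by
  set A : Matrix (Fin 2) (Fin 2) F := !![X, Y; -σ Y, σ X] with hA
  have hdetA : A.det = 1 := by
    rw [hA, Matrix.det_fin_two_of]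
    linear_combination h
  have hdet : (rotBlock b c A).det = 1 := by rw [det_rotBlock hbc, hdetA]
  have hmv : ∀ (x : Fin n → F) (r : Fin n), (rotBlock b c A *ᵥ x) r =
      if r = b then X * x b + Y * x c else if r = c then -σ Y * x b + σ X * x c else x r := by
    intro x r
    rw [rotBlock_mulVec hbc]
    simp [hA]
  refine ⟨Matrix.GeneralLinearGroup.mkOfDetNeZero (rotBlock b c A) (by rw [hdet]; exact one_ne_zero),
    ?_, ?_, ?_⟩
  · rw [mem_UG]
    intro x y
    simp only [Matrix.GeneralLinearGroup.val_mkOfDetNeZero]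
    have hsub : hf σ (rotBlock b c A *ᵥ x) (rotBlock b c A *ᵥ y) - hf σ x y = 0 := by
      unfold hf
      rw [← Finset.sum_sub_distrib]
      rw [Finset.sum_eq_add b c hbc]
      · rw [hmv x b, hmv y b, hmv x c, hmv y c]
        simp only [if_true, if_neg hbc.symm, map_add, map_mul, map_neg, hσ2]
        have h' : σ X * X + σ Y * Y = 1 := by linear_combination h
        linear_combination (x b * σ (y b)) * h + (x c * σ (y c)) * h
      · intro r _ hr
        rw [hmv x r, hmv y r, if_neg hr.1, if_neg hr.2, if_neg hr.1, if_neg hr.2, sub_self]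
      · intro hb; exact absurd (Finset.mem_univ b) hb
      · intro hc; exact absurd (Finset.mem_univ c) hc
    exact sub_eq_zero.mp hsub
  · simp only [Matrix.GeneralLinearGroup.val_mkOfDetNeZero]
    exact hdet
  · intro x r
    simp only [Matrix.GeneralLinearGroup.val_mkOfDetNeZero]
    exact hmv x r


end aux

variable {F : Type*} [Field F] [Fintype F] {σ : F →+* F} {q n : ℕ}

theorem rot_exists (hC : FCtx σ q) {b c : Fin n} (hbc : b ≠ c) (vb vc : F)
    (hν : vb * σ vb + vc * σ vc ≠ 0) :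
    ∃ g : GL (Fin n) F, g ∈ UG σ n ∧ (g : Matrix (Fin n) (Fin n) F).det = 1 ∧
      (∀ y : Fin n → F, y b = 0 → y c = 0 → (g : Matrix (Fin n) (Fin n) F) *ᵥ y = y) ∧
      ∀ x : Fin n → F, x b = vb → x c = vc →
        ((g : Matrix (Fin n) (Fin n) F) *ᵥ x) c = 0 ∧
          ∀ r, r ≠ b → r ≠ c → ((g : Matrix (Fin n) (Fin n) F) *ᵥ x) r = x r := by
  have hσ2 := hC.invol
  have hνfix : σ (vb * σ vb + vc * σ vc) = vb * σ vb + vc * σ vc := by
    simp only [map_add, map_mul, hσ2]; ring
  obtain ⟨lam, hlam⟩ := norm_surj hC hνfix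
  have hlam0 : lam ≠ 0 := by
    rintro rfl
    rw [zero_mul] at hlam
    exact hν hlam.symm
  have hσlam0 : σ lam ≠ 0 := (map_ne_zero σ).mpr hlam0
  obtain ⟨g, hgU, hgdet, hg⟩ := rot_su2_block_exists hσ2 hbc (σ vb / σ lam) (σ vc / σ lam) (by
    rw [map_div₀, map_div₀, hσ2, hσ2, hσ2]
    field_simp
    linear_combination -hlam)
  refine ⟨g, hgU, hgdet, ?_, ?_⟩
  · intro y hyb hyc
    funext r
    rw [hg]
    by_cases hrb : r = b
    · rw [if_pos hrb, hyb, hyc, hrb, hyb]; ring
    · by_cases hrc : r = c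
      · rw [if_neg hrb, if_pos hrc, hyb, hyc, hrc, hyc]; ring
      · rw [if_neg hrb, if_neg hrc]
  · intro x hxb hxc
    refine ⟨?_, ?_⟩
    · rw [hg, if_neg hbc.symm, if_pos rfl, hxb, hxc, map_div₀, map_div₀, hσ2, hσ2, hσ2]
      field_simp
      ring
    · intro r hrb hrc
      rw [hg, if_neg hrb, if_neg hrc]

theorem scale_exists (hC : FCtx σ q) {b c : Fin n} (hbc : b ≠ c) (vb vc : F)
    (hν : vb * σ vb + vc * σ vc = 0) {l : F} (hl : σ l = l) (hl0 : l ≠ 0) :
    ∃ g : GL (Fin n) F, g ∈ UG σ n ∧ (g : Matrix (Fin n) (Fin n) F).det = 1 ∧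
      (∀ y : Fin n → F, y b = 0 → y c = 0 → (g : Matrix (Fin n) (Fin n) F) *ᵥ y = y) ∧
      ∀ x : Fin n → F, x b = vb → x c = vc →
        ((g : Matrix (Fin n) (Fin n) F) *ᵥ x) b = l * vb ∧ ((g : Matrix (Fin n) (Fin n) F) *ᵥ x) c = l * vc ∧
          ∀ r, r ≠ b → r ≠ c → ((g : Matrix (Fin n) (Fin n) F) *ᵥ x) r = x r := by
  have hσ2 := hC.invol
  by_cases hvb : vb = 0
  · have hvc : vc = 0 := by
      rw [hvb, zero_mul, zero_add] at hν
      rcases mul_eq_zero.mp hν with h | h
      · exact h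
      · exact (map_eq_zero σ).mp h
    refine ⟨1, one_mem _, by simp, fun y _ _ => by simp, ?_⟩
    intro x hxb hxc
    refine ⟨by simp [hxb, hvb], by simp [hxc, hvc], fun r _ _ => by simp⟩
  · have hσvb : σ vb ≠ 0 := (map_ne_zero σ).mpr hvb
    set κ : F := vc / vb with hκdef
    have hκ : κ * σ κ = -1 := by
      rw [hκdef, map_div₀]
      field_simp
      linear_combination hν
    have hcard := card_norm_fiber hC (d := (-1 : F)) (by simp) (by simp)
    obtain ⟨κ', hκ', hne⟩ : ∃ κ' : F, κ' * σ κ' = -1 ∧ κ' ≠ κ := by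
      by_contra hcon
      have hall : ∀ a : F, a * σ a = -1 → a = κ := by
        intro a ha
        by_contra hne
        exact hcon ⟨a, ha, hne⟩
      have hle : Nat.card {x : F // x * σ x = -1} ≤ 1 := by
        rw [Finite.card_le_one_iff_subsingleton]
        constructor
        intro a a'
        ext
        rw [hall a a.2, hall a' a'.2]
      have := hC.two_le
      omega
    have hκ0 : κ ≠ 0 := by
      rintro h0
      rw [h0, zero_mul] at hκ
      exact one_ne_zero (neg_eq_zero.mp hκ.symm)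
    have hκ'0 : κ' ≠ 0 := by
      rintro h0
      rw [h0, zero_mul] at hκ'
      exact one_ne_zero (neg_eq_zero.mp hκ'.symm)
    have hσκ : σ κ = -κ⁻¹ := by
      field_simp
      linear_combination hκ
    have hσκ' : σ κ' = -κ'⁻¹ := by
      field_simp
      linear_combination hκ'
    have hδ : κ' - κ ≠ 0 := sub_ne_zero.mpr hne
    have hσδ : σ (κ' - κ) = (κ' - κ) / (κ * κ') := by
      rw [map_sub, hσκ, hσκ']
      field_simp
      ring
    have hσlinv : σ l⁻¹ = l⁻¹ := by rw [map_inv₀, hl]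
    set X : F := (l * κ' - l⁻¹ * κ) / (κ' - κ) with hX
    set Y : F := (l⁻¹ - l) / (κ' - κ) with hY
    have hσX : σ X = (l⁻¹ * κ' - l * κ) / (κ' - κ) := by
      rw [hX, map_div₀, hσδ, map_sub, map_mul, map_mul, hl, hσlinv, hσκ, hσκ']
      field_simp
      ring
    have hσY : σ Y = (l⁻¹ - l) * (κ * κ') / (κ' - κ) := by
      rw [hY, map_div₀, hσδ, map_sub, hl, hσlinv]
      field_simp
    obtain ⟨g, hgU, hgdet, hg⟩ := rot_su2_block_exists hσ2 hbc X Y (by
      rw [hσX, hσY, hX, hY]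
      field_simp
      ring)
    have hvc : vc = κ * vb := by
      rw [hκdef]; field_simp
    refine ⟨g, hgU, hgdet, ?_, ?_⟩
    · intro y hyb hyc
      funext r
      rw [hg]
      by_cases hrb : r = b
      · rw [if_pos hrb, hyb, hyc, hrb, hyb]; ring
      · by_cases hrc : r = c
        · rw [if_neg hrb, if_pos hrc, hyb, hyc, hrc, hyc]; ring
        · rw [if_neg hrb, if_neg hrc]
    · intro x hxb hxc
      refine ⟨?_, ?_, ?_⟩
      · rw [hg, if_pos rfl, hxb, hxc, hvc, hX, hY]
        field_simp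
        ring
      · rw [hg, if_neg hbc.symm, if_pos rfl, hxb, hxc, hσX, hσY, hvc]
        field_simp
        ring
      · intro r hrb hrc
        rw [hg, if_neg hrb, if_neg hrc]

end Cfsg.Agent.Lib.Helper70.UMon

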