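/-
helper70, project UMON (S5655). MODULE UMON-[SU2GEN].
PROVED by helper73 (hedge of helper62); statement unchanged.
Sheet: Cfsg/Agent/Lib/Helper70/UMon/UMON_SHEET.md

`SU(P) ≤ M` for a non-degenerate plane `P` all of whose isotropic vectors are in `UX σ M`: a unitary matrix of
determinant 1 fixing `P^⊥` pointwise lies in `M`.

Proof (helper37's frame machinery, `Cfsg/Agent/Lib/Helper37/UnitaryGen.lean`, and `Cfsg.Agent.S0837`).
`W := perp σ P` is non-degenerate of dimension `n - 2` with `perp σ W = P` (`Cfsg.Agent.Lib.Helper13.perp_perp`).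
`main_frame σ hσ hσ2 W hW` gives `m`, a unitary frame `Pm : Matrix (Fin n) (Fin (finrank W) ⊕ Fin m) F` with
`finrank W + m = n` (so `m = 2`).  `reduce_frame` applied to `g` (which fixes `W` pointwise) gives
`E : Matrix (Fin m) (Fin m) F` unitary, `det E = det g = 1`, `g = Pm * fromBlocks 1 0 0 E * hs σ Pm`.  By helper37's
`su_gen` (for `m = 2`: no exception) the unit `E` lies in `TG σ m`, the group generated by unitary transvections of `F^m`.
Now copy the proof of `lift_TG`: the block embedding `φ : GL_m → GL_n` maps the generator `tv σ z c` to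
`tv σ (Pm *ᵥ Sum.elim 0 z) c` (`psi_tv`), whose centre is isotropic and lies in `perp σ W = P` (it is orthogonal to the
first `finrank W` columns of `Pm`, which span `W`), hence this generator lies in `M` by `hX`.  So `TG σ m ≤ M.comap φ`
(`Subgroup.closure_le`), and `g = φ E ∈ M`.
-/
import Mathlib
import Cfsg.Agent.Lib.Helper70.UMon.Defs

set_option autoImplicit false

namespace Cfsg.Agent.Lib.Helper70.UMon

open Matrix Module Cfsg.Agent.S0837 Cfsg.Agent.S0781 Cfsg.Agent.S2644 Cfsg.Agent.Lib.Helper37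
open Cfsg.Agent.Lib.Helper13 (UX)
open Cfsg.Agent.Lib.Helper94.Mono (monGL mem_monGL slGL mem_slGL colMono diagUnit dg dg2)
open Cfsg.Agent.Lib.Helper94.SUSub (MemM)

variable {F : Type*} [Field F] [Finite F] {σ : F →+* F} {n : ℕ}

theorem su2gen (hσ : σ ≠ RingHom.id F) (hσ2 : ∀ a, σ (σ a) = a) {M : Subgroup (GL (Fin n) F)}
    {P : Submodule F (Fin n → F)} (hP2 : finrank F P = 2)
    (hPnd : ∀ u ∈ P, (∀ v ∈ P, hf σ u v = 0) → u = 0)
    (hX : ∀ ω ∈ P, hf σ ω ω = 0 → ω ∈ UX σ M) {g : GL (Fin n) F} (hg : g ∈ UG σ n)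
    (hdet : (g : Matrix (Fin n) (Fin n) F).det = 1)
    (hfix : ∀ y, (∀ v ∈ P, hf σ y v = 0) → (g : Matrix (Fin n) (Fin n) F) *ᵥ y = y) : g ∈ M := by
  classical
  -- the orthogonal complement `W` of `P`
  have hPP : perp σ (perp σ P) = P := Cfsg.Agent.Lib.Helper13.perp_perp σ hσ2 P
  have hW : ∀ u ∈ perp σ P, (∀ v ∈ perp σ P, hf σ u v = 0) → u = 0 := by
    intro u hu hperp
    have huP : u ∈ P := by
      rw [← hPP]
      exact hperp
    exact hPnd u huP hu
  have hrk : finrank F (perp σ P) + finrank F P = n :=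
    Cfsg.Agent.Lib.Helper13.finrank_perp σ hσ2 P
  obtain ⟨m, Pm, hkm, h1, h2, hWP⟩ := main_frame σ hσ hσ2 (perp σ P) hW
  obtain rfl : m = 2 := by omega
  have hfixW : ∀ w ∈ perp σ P, (g : Matrix (Fin n) (Fin n) F) *ᵥ w = w := fun w hw => hfix w hw
  obtain ⟨E, hEE, hEE', hEdet, hEM⟩ := reduce_frame σ Pm hσ2 h1 h2 (perp σ P) hWP _ hg hfixW
  have hE : (⟨E, hs σ E, hEE', hEE⟩ : GL (Fin 2) F) ∈ TG σ 2 :=
    su_gen σ hσ hσ2 2 (by norm_num) (by intro h; omega) ⟨E, hs σ E, hEE', hEE⟩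
      (preserves_of_hs_mul σ hσ2 E hEE) (by rw [hEdet, hdet])
  set φ : GL (Fin 2) F →* GL (Fin n) F :=
    (psiGL σ Pm h1 h2).comp (MonoidHom.inr (GL (Fin (finrank F (perp σ P))) F) (GL (Fin 2) F)) with hφ
  have hφc : ∀ s : GL (Fin 2) F, ((φ s : GL (Fin n) F) : Matrix (Fin n) (Fin n) F) =
      Pm * fromBlocks (1 : Matrix (Fin (finrank F (perp σ P))) (Fin (finrank F (perp σ P))) F) 0 0
        (s : Matrix (Fin 2) (Fin 2) F) * hs σ Pm := by
    intro s
    rw [hφ, MonoidHom.comp_apply, psiGL_coe]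
    rfl
  have hle : TG σ 2 ≤ M.comap φ := by
    unfold TG
    rw [Subgroup.closure_le]
    rintro s ⟨z, c, hz, hc, hs'⟩
    show φ s ∈ M
    have hω0 : hf σ (Pm *ᵥ (Sum.elim (0 : Fin (finrank F (perp σ P)) → F) z))
        (Pm *ᵥ (Sum.elim (0 : Fin (finrank F (perp σ P)) → F) z)) = 0 := by
      rw [preserves_of_hs_mul σ hσ2 Pm h1, hf_sum_elim, hz]
    have hωP : Pm *ᵥ (Sum.elim (0 : Fin (finrank F (perp σ P)) → F) z) ∈ P := by
      have hmem' : Pm *ᵥ (Sum.elim (0 : Fin (finrank F (perp σ P)) → F) z) ∈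
          perp σ (perp σ P) := by
        intro w hw
        rw [hf_adjoint_left σ hσ2]
        have hw' := (hWP w).mp hw
        unfold hf
        rw [Fintype.sum_sum_type]
        simp [hw']
      rwa [hPP] at hmem'
    obtain ⟨hv, hmem⟩ := hX _ hωP hω0
    have := hmem c hc
    have heq : φ s = tvGL σ (Pm *ᵥ (Sum.elim (0 : Fin (finrank F (perp σ P)) → F) z)) c hv := by
      apply Units.ext
      rw [hφc, hs', psi_tv σ Pm h2]
      rfl
    rw [heq]
    exact this
  have hgφ : g = φ ⟨E, hs σ E, hEE', hEE⟩ := by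
    apply Units.ext
    rw [hφc, hEM]
  rw [hgφ]
  exact hle hE

end Cfsg.Agent.Lib.Helper70.UMon
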