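/-
helper70, project UMON (S5655). MODULE UMON-[GEN2].
PLACEHOLDER: exact statement(s) + paper proof; the prover replaces every `sorry` (keep names and statements).
Sheet: Cfsg/Agent/Lib/Helper70/UMon/UMON_SHEET.md

End of path (A): if the isotropic vectors of every coordinate plane are in `UX σ M` (`M ≤ SU_n`, `q ≥ 3`) then EVERY
isotropic vector is in `UX σ M`.

Proof.  By `su2gen` (with `P = ⟨e_b, e_c⟩`: dimension 2, non-degenerate; `y ⊥ P ↔ y b = y c = 0`) every `g ∈ UG σ n` with
`det g = 1` fixing all `y` with `y b = y c = 0` lies in `M`; `UX σ M` is stable under such `g` and `g⁻¹` (`ux_map`).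
Strong induction on `(supp v).card` for isotropic `v`.  `card = 0`: `v = 0 ∈ UX` (`tvGL σ 0 c = 1`).  `card = 1`: impossible
(`(v,v) = N(v b) ≠ 0`).  `card = 2`: hypothesis.  `card ≥ 3`: if some pair `b ≠ c` in the support has
`N(v b) + N(v c) ≠ 0`, `rot_exists` gives `g ∈ M` with `(g v) c = 0` and the other coordinates `r ≠ b, c` unchanged, so
`supp (g v) ⊆ supp v \ {c}`; `g v` is isotropic, in `UX` by induction, and `v = g⁻¹ (g v) ∈ UX`.  Otherwise
`N(v b) + N(v c) = 0` for all pairs in the support; with three indices `b, c, d`: `2 N(v b) = 0`, so `2 = 0` in `F` and all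
`N(v r)` (`r` in the support) are equal.  Pick `l` in the fixed field, `l ≠ 0, 1` (`card_fixed`, `q ≥ 3`); `scale_exists`
gives `g ∈ M` with `(g v) b = l v b`, `(g v) c = l v c`, others unchanged; `g v` has the same support and now
`N((g v) b) + N((g v) d) = (l² + 1) N(v b) = (l+1)² N(v b) ≠ 0`, so the first case applies to `g v`; conclude as before.
-/
import Mathlib
import Cfsg.Agent.Lib.Helper70.UMon.Defs
import Cfsg.Agent.Lib.Helper70.UMon.Rot
import Cfsg.Agent.Lib.Helper70.UMon.SU2Gen
import Cfsg.Agent.Lib.Helper70.UMon.Field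

set_option autoImplicit false

namespace Cfsg.Agent.Lib.Helper70.UMon

open Matrix Module Cfsg.Agent.S0837 Cfsg.Agent.S0781 Cfsg.Agent.S2644 Cfsg.Agent.Lib.Helper37
open Cfsg.Agent.Lib.Helper13 (UX)
open Cfsg.Agent.Lib.Helper94.Mono (monGL mem_monGL slGL mem_slGL colMono diagUnit dg dg2)
open Cfsg.Agent.Lib.Helper94.SUSub (MemM)

variable {F : Type*} [Field F] [Fintype F] {σ : F →+* F} {q n : ℕ}

omit [Fintype F] in
theorem tv_zero_center (c : F) : tv σ (0 : Fin n → F) c = 1 := by
  apply Matrix.toLin'.injective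
  apply LinearMap.ext
  intro x
  rw [Matrix.toLin'_apply, tv_mulVec, smul_zero, add_zero, Matrix.toLin'_one]
  rfl

omit [Fintype F] in
theorem ux_zero_mem {M : Subgroup (GL (Fin n) F)} : (0 : Fin n → F) ∈ UX σ M := by
  refine ⟨hf_zero_left σ 0, fun c _ => ?_⟩
  have : tvGL σ (0 : Fin n → F) c (hf_zero_left σ 0) = 1 := Units.ext (tv_zero_center c)
  rw [this]
  exact M.one_mem

omit [Fintype F] in
theorem hf_self_supp (v : Fin n → F) : hf σ v v = ∑ i ∈ supp v, v i * σ (v i) := by
  unfold hf
  symm
  apply Finset.sum_subset (Finset.subset_univ _)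
  intro i _ hi
  rw [mem_supp, not_not] at hi
  rw [hi, zero_mul]

/-- `SU(⟨e_b, e_c⟩) ≤ M` -/
theorem mem_of_fix_coord_plane (hC : FCtx σ q) {M : Subgroup (GL (Fin n) F)}
    (hpl : ∀ b c : Fin n, b ≠ c → ∀ ω : Fin n → F, (∀ r, r ≠ b → r ≠ c → ω r = 0) → hf σ ω ω = 0 →
      ω ∈ UX σ M) {b c : Fin n} (hbc : b ≠ c) {g : GL (Fin n) F} (hgU : g ∈ UG σ n)
    (hdet : (g : Matrix (Fin n) (Fin n) F).det = 1)
    (hfix : ∀ y : Fin n → F, y b = 0 → y c = 0 → (g : Matrix (Fin n) (Fin n) F) *ᵥ y = y) :
    g ∈ M := by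
  have hσ2 := hC.invol
  have hσ := hC.ne_id
  have hcoord : ∀ α β : F, ∀ r, ((α • (Pi.single b 1 : Fin n → F) + β • (Pi.single c 1 : Fin n → F)) : Fin n → F) r =
      if r = b then α else if r = c then β else 0 := by
    intro α β r
    simp only [Pi.add_apply, Pi.smul_apply, Pi.single_apply, smul_eq_mul]
    by_cases hrb : r = b
    · have hrc : r ≠ c := fun h => hbc (hrb.symm.trans h)
      simp [hrb, hbc]
    · by_cases hrc : r = c
      · simp [hrc, Ne.symm hbc]
      · simp [hrb, hrc]
  have hli : LinearIndependent F ![(Pi.single b 1 : Fin n → F), Pi.single c 1] := by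
    rw [LinearIndependent.pair_iff]
    intro α β h
    have hb' := congrFun h b
    have hc' := congrFun h c
    rw [hcoord] at hb' hc'
    simp only [if_true, if_neg (Ne.symm hbc), Pi.zero_apply] at hb' hc'
    exact ⟨hb', hc'⟩
  have hP2 : finrank F (Submodule.span F ({Pi.single b 1, Pi.single c 1} : Set (Fin n → F))) = 2 := by
    have := finrank_span_eq_card hli
    rw [Matrix.range_cons_cons_empty] at this
    rw [this]; simp
  have hPnd : ∀ x ∈ Submodule.span F ({Pi.single b 1, Pi.single c 1} : Set (Fin n → F)),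
      (∀ v ∈ Submodule.span F ({Pi.single b 1, Pi.single c 1} : Set (Fin n → F)), hf σ x v = 0) →
      x = 0 := by
    intro x hx h
    obtain ⟨α, β, rfl⟩ := Submodule.mem_span_pair.1 hx
    have h1 := h (Pi.single b 1) (Submodule.subset_span (by simp))
    have h2 := h (Pi.single c 1) (Submodule.subset_span (by simp))
    rw [hf_single_right, hcoord] at h1 h2
    simp only [if_true, if_neg (Ne.symm hbc)] at h1 h2
    rw [h1, h2, zero_smul, zero_smul, add_zero]
  have hX : ∀ ω ∈ Submodule.span F ({Pi.single b 1, Pi.single c 1} : Set (Fin n → F)),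
      hf σ ω ω = 0 → ω ∈ UX σ M := by
    intro ω hω hiso
    apply hpl b c hbc ω _ hiso
    intro r hrb hrc
    obtain ⟨α, β, rfl⟩ := Submodule.mem_span_pair.1 hω
    rw [hcoord, if_neg hrb, if_neg hrc]
  apply su2gen hσ hσ2 hP2 hPnd hX hgU hdet
  intro y hy
  apply hfix
  · have := hy (Pi.single b 1) (Submodule.subset_span (by simp))
    rwa [hf_single_right] at this
  · have := hy (Pi.single c 1) (Submodule.subset_span (by simp))
    rwa [hf_single_right] at this

theorem gen2_aux (hC : FCtx σ q) (hq : 3 ≤ q) {M : Subgroup (GL (Fin n) F)} (hMU : M ≤ SUn σ n)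
    (hpl : ∀ b c : Fin n, b ≠ c → ∀ ω : Fin n → F, (∀ r, r ≠ b → r ≠ c → ω r = 0) → hf σ ω ω = 0 →
      ω ∈ UX σ M) :
    ∀ (k : ℕ) (v : Fin n → F), hf σ v v = 0 → (supp v).card = k → v ∈ UX σ M := by
  have hσ2 := hC.invol
  intro k
  induction k using Nat.strong_induction_on with
  | _ k ih =>
    -- moving by an element of `SU(⟨e_b, e_c⟩)`
    have hmove : ∀ (b c : Fin n), b ≠ c → ∀ (g : GL (Fin n) F), g ∈ UG σ n →
        (g : Matrix (Fin n) (Fin n) F).det = 1 →
        (∀ y : Fin n → F, y b = 0 → y c = 0 → (g : Matrix (Fin n) (Fin n) F) *ᵥ y = y) →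
        ∀ w : Fin n → F, (g : Matrix (Fin n) (Fin n) F) *ᵥ w ∈ UX σ M → w ∈ UX σ M := by
      intro b c hbc g hgU hdet hfix w hw
      have hgM : g ∈ M := mem_of_fix_coord_plane hC hpl hbc hgU hdet hfix
      have := Cfsg.Agent.Lib.Helper13.ux_map σ g⁻¹ (M.inv_mem hgM) ((UG σ n).inv_mem hgU) hw
      rwa [mulVec_mulVec, ← Units.val_mul, inv_mul_cancel, Units.val_one, one_mulVec] at this
    -- case A: a pair in the support with non-zero norm sum
    have caseA : ∀ w : Fin n → F, hf σ w w = 0 → (supp w).card = k →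
        (∃ b c, b ≠ c ∧ w b ≠ 0 ∧ w c ≠ 0 ∧ w b * σ (w b) + w c * σ (w c) ≠ 0) → w ∈ UX σ M := by
      intro w hw hk ⟨b, c, hbc, hwb, hwc, hν⟩
      obtain ⟨g, hgU, hdet, hfix, hg⟩ := rot_exists hC hbc (w b) (w c) hν
      obtain ⟨hgc, hgr⟩ := hg w rfl rfl
      apply hmove b c hbc g hgU hdet hfix
      have hsub : supp ((g : Matrix (Fin n) (Fin n) F) *ᵥ w) ⊆ (supp w).erase c := by
        intro r hr
        rw [mem_supp] at hr
        rw [Finset.mem_erase, mem_supp]
        refine ⟨fun hrc => hr (hrc ▸ hgc), fun hwr => hr ?_⟩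
        by_cases hrb : r = b
        · exact absurd (hrb ▸ hwr) hwb
        · by_cases hrc : r = c
          · exact absurd (hrc ▸ hwr) hwc
          · rw [hgr r hrb hrc, hwr]
      have hlt : (supp ((g : Matrix (Fin n) (Fin n) F) *ᵥ w)).card < k := by
        have h1 := Finset.card_le_card hsub
        rw [Finset.card_erase_of_mem (mem_supp.2 hwc), hk] at h1
        have h2 : 0 < k := by rw [← hk]; exact Finset.card_pos.2 ⟨c, mem_supp.2 hwc⟩
        omega
      exact ih _ hlt _ (by rw [hgU, hw]) rfl
    intro v hv hk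
    by_cases hk0 : k = 0
    · have : v = 0 := by
        funext i
        by_contra hi
        have : i ∈ supp v := mem_supp.2 hi
        rw [hk0, Finset.card_eq_zero] at hk
        rw [hk] at this
        exact absurd this (Finset.notMem_empty i)
      rw [this]
      exact ux_zero_mem
    by_cases hk1 : k = 1
    · exfalso
      rw [hk1, Finset.card_eq_one] at hk
      obtain ⟨b, hb⟩ := hk
      have hvb : v b ≠ 0 := by rw [← mem_supp, hb]; simp
      rw [hf_self_supp, hb, Finset.sum_singleton] at hv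
      rcases mul_eq_zero.1 hv with h | h
      · exact hvb h
      · exact hvb ((map_eq_zero σ).1 h)
    by_cases hk2 : k = 2
    · rw [hk2, Finset.card_eq_two] at hk
      obtain ⟨b, c, hbc, hs⟩ := hk
      apply hpl b c hbc v _ hv
      intro r hrb hrc
      by_contra hr
      have : r ∈ supp v := mem_supp.2 hr
      rw [hs] at this
      simp only [Finset.mem_insert, Finset.mem_singleton] at this
      rcases this with h | h
      · exact hrb h
      · exact hrc h
    -- `k ≥ 3`
    have hk3 : 2 < (supp v).card := by omega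
    obtain ⟨b, hb, c, hc, d, hd, hbc, hbd, hcd⟩ := Finset.two_lt_card.1 hk3
    rw [mem_supp] at hb hc hd
    by_cases hA : ∃ b c, b ≠ c ∧ v b ≠ 0 ∧ v c ≠ 0 ∧ v b * σ (v b) + v c * σ (v c) ≠ 0
    · exact caseA v hv hk hA
    · push Not at hA
      have hbc0 := hA b c hbc hb hc
      have hbd0 := hA b d hbd hb hd
      have hcd0 := hA c d hcd hc hd
      have hNb : v b * σ (v b) ≠ 0 := mul_ne_zero hb ((map_ne_zero σ).2 hb)
      have h2 : (2 : F) = 0 := by
        have : (2 : F) * (v b * σ (v b)) = 0 := by linear_combination hbc0 + hbd0 - hcd0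
        exact (mul_eq_zero.1 this).resolve_right hNb
      -- an element of the fixed field different from `0, 1`
      obtain ⟨l, hl, hl0, hl1⟩ : ∃ l : F, σ l = l ∧ l ≠ 0 ∧ l ≠ 1 := by
        classical
        have hcard := card_fixed hC
        have : Finite {x : F // σ x = x} := Subtype.finite
        have h2lt : 2 < Nat.card {x : F // σ x = x} := by rw [hcard]; omega
        by_contra hne
        push Not at hne
        have hall : ∀ x : {x : F // σ x = x}, x = ⟨0, map_zero σ⟩ ∨ x = ⟨1, map_one σ⟩ := by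
          intro x
          by_cases hx0 : (x : F) = 0
          · left; exact Subtype.ext hx0
          · right; exact Subtype.ext (hne x x.2 hx0)
        have := Fintype.ofFinite {x : F // σ x = x}
        have hle : Fintype.card {x : F // σ x = x} ≤ 2 := by
          have hsub : (Finset.univ : Finset {x : F // σ x = x}) ⊆
              {⟨0, map_zero σ⟩, ⟨1, map_one σ⟩} := by
            intro x _
            rcases hall x with h | h
            · simp [h]
            · simp [h]
          calc Fintype.card {x : F // σ x = x} = (Finset.univ : Finset {x : F // σ x = x}).card :=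
                (Finset.card_univ).symm
            _ ≤ _ := Finset.card_le_card hsub
            _ ≤ 2 := Finset.card_le_two
        rw [Nat.card_eq_fintype_card] at h2lt
        omega
      obtain ⟨g, hgU, hdet, hfix, hg⟩ := scale_exists hC hbc (v b) (v c) hbc0 hl hl0
      obtain ⟨hgb, hgc, hgr⟩ := hg v rfl rfl
      apply hmove b c hbc g hgU hdet hfix
      set w : Fin n → F := (g : Matrix (Fin n) (Fin n) F) *ᵥ v with hw
      have hwd : w d = v d := hgr d (Ne.symm hbd) (Ne.symm hcd)
      have hsupp : supp w = supp v := by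
        ext r
        rw [mem_supp, mem_supp]
        by_cases hrb : r = b
        · subst hrb
          rw [hgb]
          exact ⟨fun _ => hb, fun _ => mul_ne_zero hl0 hb⟩
        · by_cases hrc : r = c
          · subst hrc
            rw [hgc]
            exact ⟨fun _ => hc, fun _ => mul_ne_zero hl0 hc⟩
          · rw [hgr r hrb hrc]
      apply caseA w (by rw [hw, hgU, hv]) (by rw [hsupp, hk])
      refine ⟨b, d, hbd, ?_, ?_, ?_⟩
      · rw [hgb]; exact mul_ne_zero hl0 hb
      · rw [hwd]; exact hd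
      · rw [hgb, hwd, map_mul, hl]
        have hl1' : l - 1 ≠ 0 := sub_ne_zero.2 hl1
        have : l * v b * (l * σ (v b)) + v d * σ (v d) = (l - 1) ^ 2 * (v b * σ (v b)) := by
          linear_combination hbd0 + ((l - 1) * (v b * σ (v b))) * h2
        rw [this]
        exact mul_ne_zero (pow_ne_zero 2 hl1') hNb

theorem gen2 (hC : FCtx σ q) (hq : 3 ≤ q) {M : Subgroup (GL (Fin n) F)} (hMU : M ≤ SUn σ n)
    (hpl : ∀ b c : Fin n, b ≠ c → ∀ ω : Fin n → F, (∀ r, r ≠ b → r ≠ c → ω r = 0) → hf σ ω ω = 0 →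
      ω ∈ UX σ M) :
    ∀ v : Fin n → F, hf σ v v = 0 → v ∈ UX σ M :=
  fun v hv => gen2_aux hC hq hMU hpl _ v hv rfl

end Cfsg.Agent.Lib.Helper70.UMon
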