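/-
helper70, project UMON (S5655). MODULE UMON-[INVDET].
PROVED by helper15 (statements unchanged).
Sheet: Cfsg/Agent/Lib/Helper70/UMon/UMON_SHEET.md

Pure linear algebra (Mathlib only + `Vm` from Defs): the determinant of an involution in characteristic `≠ 2` is
`(-1)^(dim of the (-1)-eigenspace)`.

Proof.  `A² = 1`, `2 ≠ 0`: `F^n = V₊ ⊕ V₋` with `V₋ = Vm A` and `V₊ = ker(A - 1)` (`v = (v + A v)/2 + (v - A v)/2`).  In a
basis adapted to this decomposition `A` is diagonal with entries `+1` (on `V₊`) and `-1` (on `V₋`), so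
`det A = (-1)^(dim V₋)`.  Possible Mathlib routes: `LinearMap.det` of `Matrix.toLin' A` via
`LinearMap.det_eq_det_mul_det`-type lemmas for complementary invariant subspaces, or
`Module.End` eigenspace/diagonalisation, or write `A = 1 - 2 • P` with `P` a projection of rank `dim V₋` and use
`LinearMap.IsProj` / `Matrix.det_one_sub_mul_comm`; or induction on `finrank (Vm A)`.
Also: `Vm A = ⊥ → A = 1` for an involution (`(A - 1) w ∈ Vm A` because `A (A w - w) = w - A w`).
-/
import Mathlib
import Cfsg.Agent.Lib.Helper70.UMon.Defs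

set_option autoImplicit false

namespace Cfsg.Agent.Lib.Helper70.UMon

open Matrix Module Cfsg.Agent.S0837 Cfsg.Agent.S0781 Cfsg.Agent.S2644 Cfsg.Agent.Lib.Helper37
open Cfsg.Agent.Lib.Helper13 (UX)
open Cfsg.Agent.Lib.Helper94.Mono (monGL mem_monGL slGL mem_slGL colMono diagUnit dg dg2)
open Cfsg.Agent.Lib.Helper94.SUSub (MemM)

variable {F : Type*} [Field F] {n : ℕ}

theorem det_involution {A : Matrix (Fin n) (Fin n) F} (hA : A * A = 1) (h2 : (2 : F) ≠ 0) :
    A.det = (-1) ^ (finrank F (Vm A)) := by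
  classical
  have hVp : ∀ v, v ∈ LinearMap.ker (Matrix.toLin' A - LinearMap.id) ↔ A *ᵥ v = v := by
    intro v
    rw [LinearMap.mem_ker, LinearMap.sub_apply, sub_eq_zero, Matrix.toLin'_apply, LinearMap.id_apply]
  have hcompl : IsCompl (LinearMap.ker (Matrix.toLin' A - LinearMap.id)) (Vm A) := by
    constructor
    · rw [Submodule.disjoint_def]
      intro v hvp hvm
      rw [hVp] at hvp
      rw [mem_Vm] at hvm
      have h1 : v = -v := hvp.symm.trans hvm
      have h3 : (2 : F) • v = 0 := by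
        rw [two_smul]
        exact eq_neg_iff_add_eq_zero.mp h1
      rcases smul_eq_zero.mp h3 with h | h
      · exact absurd h h2
      · exact h
    · rw [codisjoint_iff, eq_top_iff]
      intro v _
      rw [Submodule.mem_sup]
      refine ⟨(2 : F)⁻¹ • (v + A *ᵥ v), ?_, (2 : F)⁻¹ • (v - A *ᵥ v), ?_, ?_⟩
      · rw [hVp, Matrix.mulVec_smul, Matrix.mulVec_add, Matrix.mulVec_mulVec, hA, Matrix.one_mulVec,
          add_comm]
      · rw [mem_Vm, Matrix.mulVec_smul, Matrix.mulVec_sub, Matrix.mulVec_mulVec, hA, Matrix.one_mulVec,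
          ← smul_neg, neg_sub]
      · rw [← smul_add, add_add_sub_cancel, ← two_smul F v, smul_smul, inv_mul_cancel₀ h2, one_smul]
  have hconj : Matrix.toLin' A =
      (Submodule.prodEquivOfIsCompl _ _ hcompl).toLinearMap ∘ₗ
        (LinearMap.prodMap LinearMap.id (-LinearMap.id)) ∘ₗ
        (Submodule.prodEquivOfIsCompl _ _ hcompl).symm.toLinearMap := by
    apply LinearMap.ext
    intro v
    obtain ⟨⟨a, b⟩, hab⟩ := (Submodule.prodEquivOfIsCompl _ _ hcompl).surjective v
    have ha : A *ᵥ (a : Fin n → F) = a := (hVp a).mp a.2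
    have hb : A *ᵥ (b : Fin n → F) = -b := b.2
    rw [← hab, LinearMap.comp_apply, LinearMap.comp_apply, LinearEquiv.coe_coe, LinearEquiv.coe_coe,
      LinearEquiv.symm_apply_apply]
    simp only [LinearMap.prodMap_apply, LinearMap.id_apply, LinearMap.neg_apply,
      Submodule.coe_prodEquivOfIsCompl', Matrix.toLin'_apply, Matrix.mulVec_add, ha, hb,
      Submodule.coe_neg]
  have hneg : (-LinearMap.id : Module.End F (Vm A)) = (-1 : F) • LinearMap.id := by
    ext x
    simp
  rw [← LinearMap.det_toLin', hconj, LinearMap.det_conj, LinearMap.det_prodMap, LinearMap.det_id,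
    one_mul, hneg, LinearMap.det_smul, LinearMap.det_id, mul_one]

theorem eq_one_of_Vm_eq_bot {A : Matrix (Fin n) (Fin n) F} (hA : A * A = 1) (h2 : (2 : F) ≠ 0)
    (h : Vm A = ⊥) : A = 1 := by
  have hw : ∀ w, A *ᵥ w = w := by
    intro w
    have hm : A *ᵥ w - w ∈ Vm A := by
      rw [mem_Vm, Matrix.mulVec_sub, Matrix.mulVec_mulVec, hA, Matrix.one_mulVec, neg_sub]
    rw [h, Submodule.mem_bot, sub_eq_zero] at hm
    exact hm
  apply Matrix.toLin'.injective
  apply LinearMap.ext
  intro w
  rw [Matrix.toLin'_apply, hw w, Matrix.toLin'_one, LinearMap.id_apply]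

end Cfsg.Agent.Lib.Helper70.UMon
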