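/-
helper70, project UMON (S5655). MODULE UMON-[K1-FRAME].
PROVED by helper95 (statement unchanged; uses `norm_surj` of Field.lean).
Sheet: Cfsg/Agent/Lib/Helper70/UMon/UMON_SHEET.md

Bridge for `k = 1`: a decomposition of `F^n` into pairwise orthogonal non-degenerate LINES is the image of the
coordinate frame under a unitary matrix `P`, and its stabiliser is the conjugate `P · monGL · P⁻¹` of the monomial group.

Proof.  `hD : IsNondegenerateMDecomposition (hf σ) 1 D` (Prelude, `Cfsg/Prelude/Def_GeometricClasses.lean`): `D i` has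
dimension 1, `D i = span{b i}`; non-degeneracy gives `(b i, b i) ≠ 0`; it is fixed by `σ` (`hf_self_fixed`), so by
`norm_surj` rescale to `(b i, b i) = 1`.  `iSupIndep D` and `iSup D = ⊤` give `t = n` (sum of the dimensions) and that the
`b i` form a basis; fix a bijection `e : Fin n ≃ Fin t` and let `P` be the matrix with columns `b (e j)`.  Orthogonality
gives `hs σ P * P = 1` (`hs_mul_apply`), so `P` is invertible and `P ∈ UG σ n` (`preserves_of_hs_mul`).
`g` stabilises `D` iff `g` permutes the lines `⟨P e_j⟩` iff `P⁻¹ g P` permutes the coordinate lines `⟨e_j⟩` iff every column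
of `P⁻¹ g P` is a multiple of a coordinate vector and the map column ↦ row is a permutation (injective because the
matrix is invertible) iff `P⁻¹ g P ∈ monGL` (`mem_monGL`).  (`decompositionStabilizer`: `∃ τ : Perm (Fin t), ∀ i,
(D i).map (toLin' g) = D (τ i)`.)
-/
import Mathlib
import Cfsg.Agent.Lib.Helper70.UMon.Defs
import Cfsg.Agent.Lib.Helper70.UMon.Field

set_option autoImplicit false

namespace Cfsg.Agent.Lib.Helper70.UMon

open Matrix Module Cfsg.Agent.S0837 Cfsg.Agent.S0781 Cfsg.Agent.S2644 Cfsg.Agent.Lib.Helper37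
open Cfsg.Agent.Lib.Helper13 (UX)
open Cfsg.Agent.Lib.Helper94.Mono (monGL mem_monGL slGL mem_slGL colMono diagUnit dg dg2)
open Cfsg.Agent.Lib.Helper94.SUSub (MemM)

/-- each member of a decomposition into lines is spanned by a non-zero vector -/
theorem k1_exists_gen {F : Type*} [Field F] {n t : ℕ} {D : Fin t → Submodule F (Fin n → F)}
    (hD : Cfsg.Geo.IsMDecomposition 1 D) (i : Fin t) :
    ∃ b : Fin n → F, b ≠ 0 ∧ D i = Submodule.span F {b} := by
  have h1 := hD.finrank_eq i
  rw [finrank_eq_one_iff'] at h1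
  obtain ⟨v, hv0, hv⟩ := h1
  refine ⟨v, fun h => hv0 (Subtype.ext h), ?_⟩
  apply le_antisymm
  · intro x hx
    obtain ⟨c, hc⟩ := hv ⟨x, hx⟩
    rw [Submodule.mem_span_singleton]
    exact ⟨c, congrArg Subtype.val hc⟩
  · rw [Submodule.span_singleton_le_iff_mem]
    exact v.2

/-- the number of members of a decomposition into lines -/
theorem k1_card_eq {F : Type*} [Field F] {n t : ℕ} {D : Fin t → Submodule F (Fin n → F)}
    (hD : Cfsg.Geo.IsMDecomposition 1 D) : t = n := by
  have hint : DirectSum.IsInternal D :=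
    DirectSum.isInternal_submodule_of_iSupIndep_of_iSup_eq_top hD.indep hD.iSup_eq_top
  have h1 : Module.finrank F (Fin n → F) = n := by
    rw [Module.finrank_fintype_fun_eq_card]; simp
  have h3 : Module.finrank F (Fin n → F) = ∑ i, Module.finrank F (D i) := by
    rw [← (LinearEquiv.ofBijective (DirectSum.coeLinearMap D) hint).finrank_eq,
      Module.finrank_directSum]
  rw [h1, Finset.sum_congr rfl (fun i _ => hD.finrank_eq i)] at h3
  simp at h3
  exact h3.symm

/-- column `j` of a monomial matrix along `τ` -/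
theorem k1_mulVec_single_of_mono {F : Type*} [Field F] {n : ℕ} {A : Matrix (Fin n) (Fin n) F}
    {τ : Equiv.Perm (Fin n)} (hτ : ∀ i j, i ≠ τ j → A i j = 0) (j : Fin n) :
    A *ᵥ Pi.single j 1 = A (τ j) j • Pi.single (τ j) (1 : F) := by
  funext i
  rw [Matrix.mulVec_single_one, Pi.smul_apply, Pi.single_apply, smul_eq_mul]
  show A i j = _
  by_cases hi : i = τ j
  · rw [if_pos hi, mul_one, hi]
  · rw [if_neg hi, mul_zero, hτ i j hi]

/-- membership in the stabiliser of a frame of lines -/
theorem k1_mem_stab_iff {F : Type*} [Field F] {n : ℕ}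
    {D : Fin n → Submodule F (Fin n → F)} {b : Fin n → Fin n → F}
    (hbD : ∀ i, D i = Submodule.span F {b i}) (P : GL (Fin n) F)
    (hP : ∀ j, (P : Matrix (Fin n) (Fin n) F) *ᵥ Pi.single j 1 = b j) (g : GL (Fin n) F) :
    g ∈ Cfsg.Geo.decompositionStabilizer D ↔ P⁻¹ * g * P ∈ monGL (Fin n) F := by
  have hPinv : ∀ j, ((P⁻¹ : GL (Fin n) F) : Matrix (Fin n) (Fin n) F) *ᵥ b j = Pi.single j 1 := by
    intro j
    rw [← hP j, Matrix.mulVec_mulVec, ← Units.val_mul, inv_mul_cancel, Units.val_one,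
      Matrix.one_mulVec]
  constructor
  · rintro ⟨τ, hτ⟩
    have hc : ∀ i, ∃ c : F, (g : Matrix (Fin n) (Fin n) F) *ᵥ b i = c • b (τ i) := by
      intro i
      have hmem : (g : Matrix (Fin n) (Fin n) F) *ᵥ b i ∈ D (τ i) := by
        rw [← hτ i]
        refine ⟨b i, ?_, by rw [Matrix.toLin'_apply]⟩
        rw [hbD i]
        exact Submodule.mem_span_singleton_self _
      rw [hbD (τ i), Submodule.mem_span_singleton] at hmem
      obtain ⟨c, hc⟩ := hmem
      exact ⟨c, hc.symm⟩
    choose c hc using hc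
    refine ⟨τ, fun i j hij => ?_⟩
    have hcol : ((P⁻¹ * g * P : GL (Fin n) F) : Matrix (Fin n) (Fin n) F) *ᵥ Pi.single j 1 =
        c j • Pi.single (τ j) (1 : F) := by
      rw [Units.val_mul, Units.val_mul, ← Matrix.mulVec_mulVec, ← Matrix.mulVec_mulVec, hP j, hc j,
        Matrix.mulVec_smul, hPinv]
    have h2 := congrFun hcol i
    rw [Matrix.mulVec_single_one, Pi.smul_apply, Pi.single_apply, if_neg hij, smul_zero] at h2
    exact h2
  · rintro ⟨τ, hτ⟩
    set h : GL (Fin n) F := P⁻¹ * g * P with hh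
    have hg : g = P * h * P⁻¹ := by
      rw [hh]; group
    have hne : ∀ j, (h : Matrix (Fin n) (Fin n) F) (τ j) j ≠ 0 := by
      intro j h0
      have h1 := k1_mulVec_single_of_mono hτ j
      rw [h0, zero_smul] at h1
      have h2 : ((h⁻¹ : GL (Fin n) F) : Matrix (Fin n) (Fin n) F) *ᵥ
          ((h : Matrix (Fin n) (Fin n) F) *ᵥ Pi.single j 1) = Pi.single j 1 := by
        rw [Matrix.mulVec_mulVec, ← Units.val_mul, inv_mul_cancel, Units.val_one,
          Matrix.one_mulVec]
      rw [h1, Matrix.mulVec_zero] at h2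
      have h3 := congrFun h2 j
      simp at h3
    have hgb : ∀ j, (g : Matrix (Fin n) (Fin n) F) *ᵥ b j =
        (h : Matrix (Fin n) (Fin n) F) (τ j) j • b (τ j) := by
      intro j
      rw [hg, Units.val_mul, Units.val_mul, ← Matrix.mulVec_mulVec, ← Matrix.mulVec_mulVec, hPinv,
        k1_mulVec_single_of_mono hτ j, Matrix.mulVec_smul, hP]
    refine ⟨τ, fun i => ?_⟩
    rw [hbD i, hbD (τ i), Submodule.map_span, Set.image_singleton, Matrix.toLin'_apply, hgb i]
    exact Submodule.span_singleton_smul_eq (IsUnit.mk0 _ (hne i)) _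

variable {F : Type*} [Field F] [Fintype F] {σ : F →+* F} {q n : ℕ}

theorem k1_frame (hC : FCtx σ q) {t : ℕ} (D : Fin t → Submodule F (Fin n → F))
    (hD : Cfsg.Geo.IsNondegenerateMDecomposition (hf σ) 1 D) :
    ∃ P : GL (Fin n) F, P ∈ UG σ n ∧ ∀ g : GL (Fin n) F,
      g ∈ Cfsg.Geo.decompositionStabilizer D ↔ P⁻¹ * g * P ∈ monGL (Fin n) F := by
  classical
  have htn : t = n := k1_card_eq hD.decomp
  subst htn
  have hσ2 : ∀ a, σ (σ a) = a := hC.invol
  choose b hb0 hbD using k1_exists_gen hD.decomp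
  -- the generators are non-isotropic
  have hbb : ∀ i, hf σ (b i) (b i) ≠ 0 := by
    intro i
    obtain ⟨⟨x, hx, hxb⟩, -⟩ := hD.nondegenerate i (b i)
      (by rw [hbD i]; exact Submodule.mem_span_singleton_self _) (hb0 i)
    rw [hbD i, Submodule.mem_span_singleton] at hx
    obtain ⟨c, rfl⟩ := hx
    rw [hf_smul_left] at hxb
    exact fun h0 => hxb (by rw [h0, mul_zero])
  -- rescaling
  have hc : ∀ i, ∃ c : F, c * σ c = hf σ (b i) (b i) := fun i =>
    norm_surj hC (hf_self_fixed σ hσ2 (b i))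
  choose c hc using hc
  have hc0 : ∀ i, c i ≠ 0 := by
    intro i h0
    apply hbb i
    rw [← hc i, h0, zero_mul]
  set b' : Fin t → Fin t → F := fun i => (c i)⁻¹ • b i with hb'
  have hb'D : ∀ i, D i = Submodule.span F {b' i} := by
    intro i
    rw [hbD i, hb']
    exact (Submodule.span_singleton_smul_eq (IsUnit.mk0 _ (inv_ne_zero (hc0 i))) _).symm
  have hb'1 : ∀ i, hf σ (b' i) (b' i) = 1 := by
    intro i
    rw [hb', hf_smul_left, hf_smul_right, ← hc i, map_inv₀]
    have := hc0 i
    have h2 : σ (c i) ≠ 0 := by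
      intro h0
      apply hbb i
      rw [← hc i, h0, mul_zero]
    field_simp
  have hb'0 : ∀ i j, i ≠ j → hf σ (b' i) (b' j) = 0 := by
    intro i j hij
    apply hD.orthogonal i j hij
    · rw [hb'D i]; exact Submodule.mem_span_singleton_self _
    · rw [hb'D j]; exact Submodule.mem_span_singleton_self _
  -- the matrix
  set Pm : Matrix (Fin t) (Fin t) F := Matrix.of fun i j => b' j i with hPm
  have hcol : ∀ j, Pm.col j = b' j := fun j => by
    funext i; rfl
  have hPP : hs σ Pm * Pm = 1 := by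
    ext i j
    rw [hs_mul_apply, hcol, hcol, Matrix.one_apply]
    by_cases hij : i = j
    · subst hij; rw [if_pos rfl, hb'1]
    · rw [if_neg hij, hb'0 j i (Ne.symm hij)]
  have hPP' : Pm * hs σ Pm = 1 := mul_eq_one_comm.1 hPP
  let P : GL (Fin t) F := ⟨Pm, hs σ Pm, hPP', hPP⟩
  have hP : ∀ j, (P : Matrix (Fin t) (Fin t) F) *ᵥ Pi.single j 1 = b' j := by
    intro j
    funext i
    rw [Matrix.mulVec_single_one]
    rfl
  refine ⟨P, ?_, fun g => k1_mem_stab_iff hb'D P hP g⟩
  rw [mem_UG]
  intro x y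
  exact preserves_of_hs_mul σ hσ2 Pm hPP x y

end Cfsg.Agent.Lib.Helper70.UMon
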