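/-
helper70, project UMON (S5655). MODULE UMON-[K1-PROPER].  Proved by helper25.
Sheet: Cfsg/Agent/Lib/Helper70/UMon/UMON_SHEET.md

`SU_n(q)` (`n ≥ 4`) is not monomial.

Proof.  Pick `λ` with `λ σ λ = -1` (`norm_surj`; `-1` is fixed by `σ`), so `λ ≠ 0`; `v := e_0 + λ e_1 + e_2 + λ e_3` is
isotropic: `(v,v) = 1 - 1 + 1 - 1 = 0`.  Pick `c ≠ 0` with `c + σ c = 0` (helper37's `exists_trace_zero_ne`).
`g := tvGL σ v c` is unitary (`tvGL_mem`, `TG_le_UG`) of determinant `1 + c (v,v) = 1` (`tv_det`), so `g ∈ SUn σ n`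
(`mem_SUn`).  Its column `0` is `g e_0 = e_0 + (c σ(v 0)) • v = e_0 + c • v` (`tv_mulVec`, `hf_single_left`), which has the
non-zero entries `c λ` (row 1) and `c` (row 2): so `g ∉ monGL` (`mem_monGL`: a monomial matrix has at most one non-zero
entry per column).
-/
import Mathlib
import Cfsg.Agent.Lib.Helper70.UMon.Defs
import Cfsg.Agent.Lib.Helper70.UMon.Field

set_option autoImplicit false

namespace Cfsg.Agent.Lib.Helper70.UMon

open Matrix Module Cfsg.Agent.S0837 Cfsg.Agent.S0781 Cfsg.Agent.S2644 Cfsg.Agent.Lib.Helper37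
open Cfsg.Agent.Lib.Helper13 (UX)
open Cfsg.Agent.Lib.Helper94.Mono (monGL mem_monGL slGL mem_slGL colMono diagUnit dg dg2)
open Cfsg.Agent.Lib.Helper94.SUSub (MemM)

variable {F : Type*} [Field F] [Fintype F] {σ : F →+* F} {q n : ℕ}

theorem exists_not_mono (hC : FCtx σ q) (hn : 4 ≤ n) :
    ∃ g : GL (Fin n) F, g ∈ SUn σ n ∧ g ∉ monGL (Fin n) F := by
  have hσ2 : ∀ a, σ (σ a) = a := hC.invol
  obtain ⟨l, hl⟩ := norm_surj hC (a := (-1 : F)) (by rw [map_neg, map_one])
  obtain ⟨c, hc0, hc⟩ := exists_trace_zero_ne σ hC.ne_id hσ2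
  have hl0 : l ≠ 0 := by
    rintro rfl
    rw [zero_mul] at hl
    exact one_ne_zero (neg_eq_zero.mp hl.symm)
  -- the four indices
  let i0 : Fin n := ⟨0, by omega⟩
  let i1 : Fin n := ⟨1, by omega⟩
  let i2 : Fin n := ⟨2, by omega⟩
  let i3 : Fin n := ⟨3, by omega⟩
  have h01 : i0 ≠ i1 := by intro h; have := congrArg Fin.val h; simp [i0, i1] at this
  have h02 : i0 ≠ i2 := by intro h; have := congrArg Fin.val h; simp [i0, i2] at this
  have h03 : i0 ≠ i3 := by intro h; have := congrArg Fin.val h; simp [i0, i3] at this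
  have h12 : i1 ≠ i2 := by intro h; have := congrArg Fin.val h; simp [i1, i2] at this
  have h13 : i1 ≠ i3 := by intro h; have := congrArg Fin.val h; simp [i1, i3] at this
  have h23 : i2 ≠ i3 := by intro h; have := congrArg Fin.val h; simp [i2, i3] at this
  -- the vector
  obtain ⟨v, hv⟩ : ∃ v : Fin n → F, v = Pi.single i0 1 + Pi.single i1 l + Pi.single i2 1 + Pi.single i3 l :=
    ⟨_, rfl⟩
  have hv0 : v i0 = 1 := by
    rw [hv]; simp [h01, h02, h03]
  have hv1 : v i1 = l := by
    rw [hv]; simp [h01.symm, h12, h13]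
  have hv2 : v i2 = 1 := by
    rw [hv]; simp [h02.symm, h12.symm, h23]
  have hvv : hf σ v v = 0 := by
    have e : ∀ i, v i * σ (v i) =
        (if i = i0 then (1 : F) else 0) + (if i = i1 then l * σ l else 0) + (if i = i2 then (1 : F) else 0)
          + (if i = i3 then l * σ l else 0) := by
      intro i
      rw [hv]
      simp only [Pi.add_apply, Pi.single_apply]
      by_cases e0 : i = i0
      · subst e0; simp [h01, h02, h03]
      · by_cases e1 : i = i1
        · subst e1; simp [h01.symm, h12, h13]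
        · by_cases e2 : i = i2
          · subst e2; simp [h02.symm, h12.symm, h23]
          · by_cases e3 : i = i3
            · subst e3; simp [h03.symm, h13.symm, h23.symm]
            · simp [e0, e1, e2, e3]
    unfold hf
    rw [Finset.sum_congr rfl (fun i _ => e i)]
    simp only [Finset.sum_add_distrib, Finset.sum_ite_eq', Finset.mem_univ, if_true]
    rw [hl]; ring
  refine ⟨tvGL σ v c hvv, ?_, ?_⟩
  · rw [mem_SUn]
    refine ⟨TG_le_UG σ hσ2 (tvGL_mem σ v c hvv hc), ?_⟩
    show (tv σ v c).det = 1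
    rw [tv_det, hvv, mul_zero, add_zero]
  · intro hmon
    obtain ⟨π, hπ⟩ := hmon
    -- column i0 of g
    have hcol : ∀ i, ((tvGL σ v c hvv : GL (Fin n) F) : Matrix (Fin n) (Fin n) F) i i0 =
        ((Pi.single i0 (1 : F) : Fin n → F) + (c * hf σ (Pi.single i0 (1 : F) : Fin n → F) v) • v) i := by
      intro i
      have h1 := congrFun (tv_mulVec σ v c (Pi.single i0 1)) i
      rw [mulVec_single_one] at h1
      exact h1
    have hcoef : c * hf σ (Pi.single i0 (1 : F) : Fin n → F) v = c := by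
      rw [hf_single_left, hv0, map_one, mul_one]
    have e1 : ((tvGL σ v c hvv : GL (Fin n) F) : Matrix (Fin n) (Fin n) F) i1 i0 = c * l := by
      rw [hcol, hcoef]
      simp [h01.symm, hv1]
    have e2 : ((tvGL σ v c hvv : GL (Fin n) F) : Matrix (Fin n) (Fin n) F) i2 i0 = c := by
      rw [hcol, hcoef]
      simp [h02.symm, hv2]
    have n1 : i1 = π i0 := by
      by_contra h
      have := hπ i1 i0 h
      rw [e1] at this
      exact mul_ne_zero hc0 hl0 this
    have n2 : i2 = π i0 := by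
      by_contra h
      have := hπ i2 i0 h
      rw [e2] at this
      exact hc0 this
    exact h12 (n1.trans n2.symm)

end Cfsg.Agent.Lib.Helper70.UMon
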