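/-
helper70, project UMON (S5655). MODULE UMON-[NT-START].
Proved by helper25 (hedge), statement unchanged.  Simplification: no normalisation by `n₁` is needed: take `a := i₀` (the ROW of the
monomial column `x e_{j₀} = c e_{i₀}`), `u := x e_j` for a non-monomial column `j`, and conjugate `dg2 j j₀ ζ` by `x`.
Sheet: Cfsg/Agent/Lib/Helper70/UMon/UMON_SHEET.md

Start of path (A): if `TIp M` fails there are an index `a` and a vector `u ∈ 𝒰_a(M)` with at least two non-zero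
coordinates.

Proof.  `¬ TIp M`: some `x ∈ M`, `x ∉ monGL`, with a monomial column `j₀`: `x e_{j₀} = c e_{i₀}`; `c σ c = 1` (`x` unitary,
`(e_{j₀}, e_{j₀}) = 1`), in particular `c ≠ 0`.  Choose `n₁ ∈ NU σ n` with `n₁ e_{i₀} = c⁻¹ e_{j₀}`:
`n₁ = mono (Equiv.swap i₀ j₀) d` with `d i₀ = c⁻¹` and, if `i₀ ≠ j₀`, `d j₀ = -c` (determinant `(-1)(c⁻¹)(-c) = 1`), resp. if
`i₀ = j₀` `d k = c` for one other index `k` (`n ≥ 2`); all other `d = 1` (`mono_mem_NU`).  `x' := n₁ * x ∈ M`, `x' ∉ monGL`,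
`x' e_{j₀} = e_{j₀}`.  Put `a := j₀`.  As `x'` is unitary and fixes `e_a`, `(x' e_j) a = (x' e_j, x' e_a) = (e_j,e_a) = 0` for
`j ≠ a`.  Since `x' ∉ monGL` some column `j ≠ a`, `u := x' e_j`, has two non-zero coordinates (otherwise every column is a
multiple of a coordinate vector and `x'`, being invertible, is monomial: the map column ↦ its row is injective).
`(u,u) = 1`.  Finally `x' * dg2 j a ζ * x'⁻¹ ∈ M` has matrix `refl σ u ζ * dmat a ζ⁻¹`: `x' * dmat j ζ = refl σ u ζ * x'`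
(`refl_conj`, `refl_single`) and `x'` commutes with `dmat a ζ⁻¹ = refl σ e_a ζ⁻¹` (`refl_conj` with `x' e_a = e_a`).
-/
import Mathlib
import Cfsg.Agent.Lib.Helper70.UMon.Defs
import Cfsg.Agent.Lib.Helper70.UMon.Refl
import Cfsg.Agent.Lib.Helper70.UMon.MonoApi

set_option autoImplicit false

namespace Cfsg.Agent.Lib.Helper70.UMon

open Matrix Module Cfsg.Agent.S0837 Cfsg.Agent.S0781 Cfsg.Agent.S2644 Cfsg.Agent.Lib.Helper37
open Cfsg.Agent.Lib.Helper13 (UX)
open Cfsg.Agent.Lib.Helper94.Mono (monGL mem_monGL slGL mem_slGL colMono diagUnit dg dg2)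
open Cfsg.Agent.Lib.Helper94.SUSub (MemM)

variable {F : Type*} [Field F] {σ : F →+* F} {n : ℕ}

/-- an invertible matrix all of whose columns have at most one non-zero entry is monomial -/
theorem ntstart_all_colMono {g : GL (Fin n) F} (h : ∀ j, colMono g j) : g ∈ monGL (Fin n) F := by
  classical
  choose ρ hρ using h
  have hu : IsUnit (g : Matrix (Fin n) (Fin n) F).det :=
    (Matrix.isUnit_iff_isUnit_det _).mp g.isUnit
  have hsurj : Function.Surjective ρ := by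
    intro i₁
    by_contra hne
    push Not at hne
    have hdet : (g : Matrix (Fin n) (Fin n) F).det = 0 := by
      apply Matrix.det_eq_zero_of_row_eq_zero i₁
      intro j
      exact hρ j i₁ (fun h => hne j h.symm)
    exact hu.ne_zero hdet
  have hbij : Function.Bijective ρ := ⟨Finite.injective_iff_surjective.mpr hsurj, hsurj⟩
  rw [mem_monGL]
  exact ⟨Equiv.ofBijective ρ hbij, fun i j hij => hρ j i hij⟩

theorem nt_start (hσ2 : ∀ a, σ (σ a) = a) (hn : 3 ≤ n) {M : Subgroup (GL (Fin n) F)} (hM : Over σ M)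
    (hTI : ¬ TIp M) :
    ∃ (a : Fin n) (u : Fin n → F), InU σ M a u ∧ ∃ i j, i ≠ j ∧ u i ≠ 0 ∧ u j ≠ 0 := by
  classical
  unfold TIp at hTI
  push Not at hTI
  obtain ⟨x, hxM, ⟨j₀, i₀, hcol⟩, hxmon⟩ := hTI
  have hxU : x ∈ UG σ n := ((mem_SUn σ).mp (hM.le hxM)).1
  have hxU' : ∀ a b, hf σ ((x : Matrix (Fin n) (Fin n) F) *ᵥ a) ((x : Matrix (Fin n) (Fin n) F) *ᵥ b)
      = hf σ a b := (mem_UG σ x).mp hxU
  -- a column that is not monomial
  obtain ⟨j, hj⟩ : ∃ j, ¬ colMono x j := by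
    by_contra h
    push Not at h
    exact hxmon (ntstart_all_colMono h)
  have hjj₀ : j ≠ j₀ := by
    rintro rfl
    exact hj ⟨i₀, hcol⟩
  -- the monomial column
  obtain ⟨c, hc⟩ : ∃ c : F, c = (x : Matrix (Fin n) (Fin n) F) i₀ j₀ := ⟨_, rfl⟩
  have hxe : (x : Matrix (Fin n) (Fin n) F) *ᵥ Pi.single j₀ 1 = c • Pi.single i₀ 1 := by
    ext i
    rw [mulVec_single_one]
    simp only [Pi.smul_apply, Pi.single_apply, smul_eq_mul, Matrix.col_apply]
    by_cases hi : i = i₀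
    · subst hi; simp [hc]
    · rw [if_neg hi, mul_zero]; exact hcol i hi
  have hcn : c * σ c = 1 := by
    have h1 := hxU' (Pi.single j₀ 1) (Pi.single j₀ 1)
    rw [hxe, hf_smul_left, hf_smul_right, hf_single_single, if_pos rfl, hf_single_single,
      if_pos rfl] at h1
    linear_combination h1
  have hc0 : c ≠ 0 := by
    rintro h
    rw [h, zero_mul] at hcn
    exact zero_ne_one hcn
  have hσc0 : σ c ≠ 0 := by
    intro h
    rw [h, mul_zero] at hcn
    exact zero_ne_one hcn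
  -- u
  obtain ⟨u, hu⟩ : ∃ u : Fin n → F, u = (x : Matrix (Fin n) (Fin n) F) *ᵥ Pi.single j 1 := ⟨_, rfl⟩
  have hui : ∀ i, u i = (x : Matrix (Fin n) (Fin n) F) i j := by
    intro i
    rw [hu, mulVec_single_one]
    rfl
  have hua : u i₀ = 0 := by
    have h1 := hxU' (Pi.single j 1) (Pi.single j₀ 1)
    rw [hxe, ← hu, hf_smul_right, hf_single_right, hf_single_single, if_neg hjj₀] at h1
    exact (mul_eq_zero.mp h1).resolve_left hσc0
  have huu : hf σ u u = 1 := by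
    have h1 := hxU' (Pi.single j 1) (Pi.single j 1)
    rwa [← hu, hf_single_single, if_pos rfl] at h1
  refine ⟨i₀, u, ⟨hua, by rw [huu]; exact one_ne_zero, ?_⟩, ?_⟩
  · intro ζ hζ
    have hζ0 : ζ ≠ 0 := by
      rintro rfl
      rw [zero_mul] at hζ
      exact zero_ne_one hζ
    obtain ⟨ζu, hζu⟩ : ∃ ζu : Fˣ, (ζu : F) = ζ := ⟨Units.mk0 ζ hζ0, rfl⟩
    have hdM : (dg2 j j₀ ζu : GL (Fin n) F) ∈ M :=
      hM.ge (dg2_mem_NU hjj₀ (by rw [hζu]; exact hζ))
    refine ⟨x * dg2 j j₀ ζu * x⁻¹, M.mul_mem (M.mul_mem hxM hdM) (M.inv_mem hxM), ?_⟩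
    rw [Units.val_mul, Units.val_mul, dg2_val, hζu]
    have hinv : ((ζu⁻¹ : Fˣ) : F) = ζ⁻¹ := by rw [Units.val_inv_eq_inv_val, hζu]
    rw [hinv]
    have e1 : (x : Matrix (Fin n) (Fin n) F) * dmat j ζ = refl σ u ζ * (x : Matrix (Fin n) (Fin n) F) := by
      rw [← refl_single (σ := σ) j ζ, refl_conj _ hxU', ← hu]
    have e2 : (x : Matrix (Fin n) (Fin n) F) * dmat j₀ ζ⁻¹ =
        dmat i₀ ζ⁻¹ * (x : Matrix (Fin n) (Fin n) F) := by
      rw [← refl_single (σ := σ) j₀ ζ⁻¹, refl_conj _ hxU', hxe, refl_smul hσ2 hc0, refl_single]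
    calc (x : Matrix (Fin n) (Fin n) F) * (dmat j ζ * dmat j₀ ζ⁻¹) * ((x⁻¹ : GL (Fin n) F) : Matrix (Fin n) (Fin n) F)
        = ((x : Matrix (Fin n) (Fin n) F) * dmat j ζ) * dmat j₀ ζ⁻¹ * ((x⁻¹ : GL (Fin n) F) : Matrix (Fin n) (Fin n) F) := by
          simp only [Matrix.mul_assoc]
      _ = refl σ u ζ * ((x : Matrix (Fin n) (Fin n) F) * dmat j₀ ζ⁻¹) * ((x⁻¹ : GL (Fin n) F) : Matrix (Fin n) (Fin n) F) := by
          rw [e1]; simp only [Matrix.mul_assoc]
      _ = refl σ u ζ * dmat i₀ ζ⁻¹ * ((x : Matrix (Fin n) (Fin n) F) * ((x⁻¹ : GL (Fin n) F) : Matrix (Fin n) (Fin n) F)) := by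
          rw [e2]
          simp only [Matrix.mul_assoc]
      _ = refl σ u ζ * dmat i₀ ζ⁻¹ := by
          rw [← Units.val_mul, mul_inv_cancel, Units.val_one, Matrix.mul_one]
  · -- two non-zero coordinates
    have hj' : ∀ i, ∃ i', i' ≠ i ∧ (x : Matrix (Fin n) (Fin n) F) i' j ≠ 0 := by
      intro i
      by_contra h
      push Not at h
      exact hj ⟨i, h⟩
    obtain ⟨i₁, -, h1⟩ := hj' i₀
    obtain ⟨i₂, h21, h2⟩ := hj' i₁
    exact ⟨i₁, i₂, h21.symm, by rw [hui]; exact h1, by rw [hui]; exact h2⟩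

end Cfsg.Agent.Lib.Helper70.UMon
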