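/-
helper70, project UMON (S5655).  Path (A): assembly.  If `TIp M` fails (and `q ≥ 3`) then `M = SU_n`.
-/
import Mathlib
import Cfsg.Agent.Lib.Helper70.UMon.Defs
import Cfsg.Agent.Lib.Helper70.UMon.NTStart
import Cfsg.Agent.Lib.Helper70.UMon.Desc
import Cfsg.Agent.Lib.Helper70.UMon.CoordPlane
import Cfsg.Agent.Lib.Helper70.UMon.CoordAll
import Cfsg.Agent.Lib.Helper70.UMon.Gen2

set_option autoImplicit false

namespace Cfsg.Agent.Lib.Helper70.UMon

open Matrix Module Cfsg.Agent.S0837 Cfsg.Agent.S0781 Cfsg.Agent.S2644 Cfsg.Agent.Lib.Helper37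
open Cfsg.Agent.Lib.Helper13 (UX)
open Cfsg.Agent.Lib.Helper94.Mono (monGL mem_monGL slGL mem_slGL colMono diagUnit dg dg2)

variable {F : Type*} [Field F] [Fintype F] {σ : F →+* F} {q n : ℕ}

/-- if all isotropic vectors are in `UX σ M` then `SU_n ≤ M` (helper37's `su_gen`) -/
theorem su_le_of_all_ux (hC : FCtx σ q) (hn : 4 ≤ n) {M : Subgroup (GL (Fin n) F)}
    (h : ∀ v : Fin n → F, hf σ v v = 0 → v ∈ UX σ M) : SUn σ n ≤ M := by
  intro g hg
  rw [mem_SUn] at hg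
  have hT : g ∈ TG σ n :=
    su_gen σ hC.ne_id hC.invol n (by omega) (fun h3 => by omega) g hg.1 hg.2
  have hle : TG σ n ≤ M := by
    unfold TG
    rw [Subgroup.closure_le]
    rintro t ⟨z, c, hz, hc, ht⟩
    obtain ⟨hz', hzM⟩ := h z hz
    have := hzM c hc
    have e : tvGL σ z c hz' = t := by
      apply Units.ext
      rw [ht]; rfl
    rw [← e]
    exact this
  exact hle hT

/-- **Path (A)**: if `TIp M` fails then `M = SU_n`. -/
theorem nonTI_main (hC : FCtx σ q) (hq : 3 ≤ q) (hn : 13 ≤ n) {M : Subgroup (GL (Fin n) F)}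
    (hM : Over σ M) (hTI : ¬ TIp M) : SUn σ n ≤ M := by
  obtain ⟨a, u, hu, h2⟩ := nt_start hC.invol (by omega) hM hTI
  obtain ⟨v, b, c, hv, hbc, hvb, hvc, hsupp⟩ := desc hC hq hM hu h2
  have h1 := coord_plane hC hM hv hbc hvb hvc hsupp
  have h3 := coord_all hC.invol hM hbc h1
  exact su_le_of_all_ux hC (by omega) (gen2 hC hq hM.le h3)

end Cfsg.Agent.Lib.Helper70.UMon
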