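/-
helper70, project UMON (S5655). MODULE UMON-[ODD-DIM].   (proved by helper46)
Sheet: Cfsg/Agent/Lib/Helper70/UMon/UMON_SHEET.md

Small dimension facts for the odd-`q` TI-killer (characteristic `≠ 2`).
* `finrank_Vm_sEl`, `finrank_Vm_zEl`: by `mem_Vm_sEl` / `mem_Vm_zEl` the spaces are `⟨e_a, e_b⟩` resp. `⟨e_i - ε e_j, e_c⟩`.
* `Vm_conj`: `v ∈ Vm (f s f⁻¹) ↔ f⁻¹ v ∈ Vm s`; so `Vm (f s f⁻¹) = (Vm s).map (toLin' f)` and the dimensions agree
  (`toLin' f` is injective; `LinearEquiv.finrank_map_eq` / `Submodule.finrank_map_of_injective`-type lemma).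
* `Vm_ne_bot`: `eq_one_of_Vm_eq_bot`.
* `even_finrank_Vm`: `det_involution`: `(-1)^d = 1` with `-1 ≠ 1` forces `d` even (`neg_one_pow_eq_one_iff_even`).
-/
import Mathlib
import Cfsg.Agent.Lib.Helper70.UMon.Defs
import Cfsg.Agent.Lib.Helper70.UMon.MonoApi
import Cfsg.Agent.Lib.Helper70.UMon.InvDet

set_option autoImplicit false

namespace Cfsg.Agent.Lib.Helper70.UMon

open Matrix Module Cfsg.Agent.S0837 Cfsg.Agent.S0781 Cfsg.Agent.S2644 Cfsg.Agent.Lib.Helper37
open Cfsg.Agent.Lib.Helper13 (UX)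
open Cfsg.Agent.Lib.Helper94.Mono (monGL mem_monGL slGL mem_slGL colMono diagUnit dg dg2)
open Cfsg.Agent.Lib.Helper94.SUSub (MemM)

variable {F : Type*} [Field F] {n : ℕ}

/-- a subspace with two "dual" coordinates has dimension `2` -/
theorem oddDim_finrank_two (V : Submodule F (Fin n → F)) (w₁ w₂ : Fin n → F) (k₁ k₂ : Fin n)
    (h₁ : w₁ ∈ V) (h₂ : w₂ ∈ V) (h11 : w₁ k₁ = 1) (h12 : w₁ k₂ = 0) (h21 : w₂ k₁ = 0) (h22 : w₂ k₂ = 1)
    (hspan : ∀ v ∈ V, v = v k₁ • w₁ + v k₂ • w₂) : finrank F V = 2 := by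
  let f : V →ₗ[F] (Fin 2 → F) :=
    { toFun := fun v => ![(v : Fin n → F) k₁, (v : Fin n → F) k₂]
      map_add' := by
        intro x y
        ext t
        fin_cases t <;> simp
      map_smul' := by
        intro c x
        ext t
        fin_cases t <;> simp }
  have hf : ∀ v : V, f v = ![(v : Fin n → F) k₁, (v : Fin n → F) k₂] := fun _ => rfl
  have hinj : Function.Injective f := by
    rw [← LinearMap.ker_eq_bot, LinearMap.ker_eq_bot']
    intro v hv
    rw [hf] at hv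
    have e1 : (v : Fin n → F) k₁ = 0 := by
      have := congrFun hv 0
      simpa using this
    have e2 : (v : Fin n → F) k₂ = 0 := by
      have := congrFun hv 1
      simpa using this
    apply Subtype.ext
    rw [hspan v v.2, e1, e2, zero_smul, zero_smul, add_zero]
    rfl
  have hsurj : Function.Surjective f := by
    intro x
    refine ⟨⟨x 0 • w₁ + x 1 • w₂, V.add_mem (V.smul_mem _ h₁) (V.smul_mem _ h₂)⟩, ?_⟩
    rw [hf]
    ext t
    fin_cases t
    · simp [h11, h21]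
    · simp [h12, h22]
  have e := LinearEquiv.ofBijective f ⟨hinj, hsurj⟩
  rw [e.finrank_eq, Module.finrank_fin_fun]

theorem finrank_Vm_sEl (h2 : (2 : F) ≠ 0) {a b : Fin n} (hab : a ≠ b) :
    finrank F (Vm ((sEl a b : GL (Fin n) F) : Matrix (Fin n) (Fin n) F)) = 2 := by
  classical
  refine oddDim_finrank_two _ (Pi.single a 1) (Pi.single b 1) a b ?_ ?_ ?_ ?_ ?_ ?_ ?_
  · rw [mem_Vm_sEl h2 hab]
    intro r hra _
    rw [Pi.single_apply, if_neg hra]
  · rw [mem_Vm_sEl h2 hab]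
    intro r _ hrb
    rw [Pi.single_apply, if_neg hrb]
  · simp
  · simp [hab.symm]
  · simp [hab]
  · simp
  · intro v hv
    rw [mem_Vm_sEl h2 hab] at hv
    ext r
    by_cases hra : r = a
    · subst hra
      simp [hab]
    · by_cases hrb : r = b
      · subst hrb
        simp [hra]
      · simp [hra, hrb, hv r hra hrb]

theorem finrank_Vm_zEl (h2 : (2 : F) ≠ 0) {i j c : Fin n} (hij : i ≠ j) (hic : i ≠ c) (hjc : j ≠ c)
    {ε : Fˣ} (hε : ε = 1 ∨ ε = -1) :
    finrank F (Vm ((zEl i j c ε : GL (Fin n) F) : Matrix (Fin n) (Fin n) F)) = 2 := by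
  classical
  refine oddDim_finrank_two _ (Pi.single i 1 - (ε : F) • Pi.single j 1) (Pi.single c 1) i c ?_ ?_ ?_ ?_ ?_ ?_ ?_
  · rw [mem_Vm_zEl h2 hij hic hjc hε]
    refine ⟨?_, ?_⟩
    · simp [hij, hij.symm]
    · intro r hri hrj _
      simp [hri, hrj]
  · rw [mem_Vm_zEl h2 hij hic hjc hε]
    refine ⟨?_, ?_⟩
    · simp [hic, hjc]
    · intro r _ _ hrc
      simp [hrc]
  · simp [hij]
  · simp [hic.symm, hjc.symm]
  · simp [hic]
  · simp
  · intro v hv
    rw [mem_Vm_zEl h2 hij hic hjc hε] at hv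
    obtain ⟨hvj, hv0⟩ := hv
    ext r
    by_cases hri : r = i
    · subst hri
      simp [hij, hic]
    · by_cases hrj : r = j
      · subst hrj
        simp [hri, hjc, hvj]
        ring
      · by_cases hrc : r = c
        · subst hrc
          simp [hri, hrj]
        · simp [hri, hrj, hrc, hv0 r hri hrj hrc]

theorem mem_Vm_conj (f s : GL (Fin n) F) (v : Fin n → F) :
    v ∈ Vm ((f * s * f⁻¹ : GL (Fin n) F) : Matrix (Fin n) (Fin n) F) ↔
      ((f⁻¹ : GL (Fin n) F) : Matrix (Fin n) (Fin n) F) *ᵥ v ∈ Vm (s : Matrix (Fin n) (Fin n) F) := by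
  rw [mem_Vm, mem_Vm]
  have e1 : ((f⁻¹ : GL (Fin n) F) : Matrix (Fin n) (Fin n) F) *
      ((f * s * f⁻¹ : GL (Fin n) F) : Matrix (Fin n) (Fin n) F) =
      (s : Matrix (Fin n) (Fin n) F) * ((f⁻¹ : GL (Fin n) F) : Matrix (Fin n) (Fin n) F) := by
    rw [← Units.val_mul, ← Units.val_mul]
    congr 1
    group
  have e2 : (f : Matrix (Fin n) (Fin n) F) * (s : Matrix (Fin n) (Fin n) F) *
      ((f⁻¹ : GL (Fin n) F) : Matrix (Fin n) (Fin n) F) =
      ((f * s * f⁻¹ : GL (Fin n) F) : Matrix (Fin n) (Fin n) F) := by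
    rw [Units.val_mul, Units.val_mul]
  have e3 : (f : Matrix (Fin n) (Fin n) F) * ((f⁻¹ : GL (Fin n) F) : Matrix (Fin n) (Fin n) F) = 1 := by
    rw [← Units.val_mul, mul_inv_cancel, Units.val_one]
  constructor
  · intro h
    rw [mulVec_mulVec, ← e1, ← mulVec_mulVec, h, mulVec_neg]
  · intro h
    have h' := congrArg (fun w => (f : Matrix (Fin n) (Fin n) F) *ᵥ w) h
    beta_reduce at h'
    rw [mulVec_mulVec, mulVec_mulVec, e2, mulVec_neg, mulVec_mulVec, e3, one_mulVec] at h'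
    exact h'

theorem finrank_Vm_conj (f s : GL (Fin n) F) :
    finrank F (Vm ((f * s * f⁻¹ : GL (Fin n) F) : Matrix (Fin n) (Fin n) F)) =
      finrank F (Vm (s : Matrix (Fin n) (Fin n) F)) := by
  have e3 : (f : Matrix (Fin n) (Fin n) F) * ((f⁻¹ : GL (Fin n) F) : Matrix (Fin n) (Fin n) F) = 1 := by
    rw [← Units.val_mul, mul_inv_cancel, Units.val_one]
  have e4 : ((f⁻¹ : GL (Fin n) F) : Matrix (Fin n) (Fin n) F) * (f : Matrix (Fin n) (Fin n) F) = 1 := by
    rw [← Units.val_mul, inv_mul_cancel, Units.val_one]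
  -- the linear equivalence `v ↦ f v`
  let e : (Fin n → F) ≃ₗ[F] (Fin n → F) := Matrix.toLin'OfInv e4 e3
  have he : ∀ v, e v = (f : Matrix (Fin n) (Fin n) F) *ᵥ v := fun _ => rfl
  have hes : ∀ v, e.symm v = ((f⁻¹ : GL (Fin n) F) : Matrix (Fin n) (Fin n) F) *ᵥ v := fun _ => rfl
  have hmap : Vm ((f * s * f⁻¹ : GL (Fin n) F) : Matrix (Fin n) (Fin n) F) =
      (Vm (s : Matrix (Fin n) (Fin n) F)).map (e : (Fin n → F) →ₗ[F] (Fin n → F)) := by
    ext v
    rw [Submodule.mem_map_equiv, hes, mem_Vm_conj]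
  rw [hmap]
  exact LinearEquiv.finrank_map_eq e _

theorem Vm_ne_bot (h2 : (2 : F) ≠ 0) {g : GL (Fin n) F} (hinv : g * g = 1) (hne : g ≠ 1) :
    Vm (g : Matrix (Fin n) (Fin n) F) ≠ ⊥ := by
  intro h
  apply hne
  apply Units.ext
  rw [Units.val_one]
  refine eq_one_of_Vm_eq_bot ?_ h2 h
  rw [← Units.val_mul, hinv, Units.val_one]

theorem even_finrank_Vm (h2 : (2 : F) ≠ 0) {g : GL (Fin n) F} (hinv : g * g = 1)
    (hdet : (g : Matrix (Fin n) (Fin n) F).det = 1) :
    Even (finrank F (Vm (g : Matrix (Fin n) (Fin n) F))) := by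
  have hA : (g : Matrix (Fin n) (Fin n) F) * (g : Matrix (Fin n) (Fin n) F) = 1 := by
    rw [← Units.val_mul, hinv, Units.val_one]
  have h1 := det_involution hA h2
  rw [hdet] at h1
  have hne : (-1 : F) ≠ 1 := by
    intro h
    apply h2
    linear_combination (-1 : F) * h
  exact (neg_one_pow_eq_one_iff_even hne).mp h1.symm

end Cfsg.Agent.Lib.Helper70.UMon
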