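/-
helper70, project UMON (S5655). MODULE UMON-[ODD-FIN].
PROVED by helper84 (statement unchanged).
Sheet: Cfsg/Agent/Lib/Helper70/UMon/UMON_SHEET.md

Odd-`q` TI-killer, the end (pure linear algebra).  `P` a plane containing a vector `p` with at least 9 non-zero
coordinates; for all `i ≠ j` and both signs `ε = ±1` there is a non-zero `w ∈ P` with support `≤ 4` and `w j = -ε w i`.
Contradiction (characteristic `≠ 2`).

Proof.  Two linearly independent vectors of `P` with supports `≤ 4` would span `P`, so `p` would have support `≤ 8`.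
Hence all the short non-zero vectors of `P` are proportional to one of them, `w₀ ≠ 0`.  For `i ≠ j` the vectors for
`ε = 1` and `ε = -1` are non-zero multiples of `w₀`, so `w₀ j = - w₀ i` and `w₀ j = w₀ i`: `2 w₀ i = 0`, `w₀ i = 0`.  As `i` is
arbitrary (`n ≥ 2`), `w₀ = 0`: contradiction.
-/
import Mathlib
import Cfsg.Agent.Lib.Helper70.UMon.Defs

set_option autoImplicit false

namespace Cfsg.Agent.Lib.Helper70.UMon

open Matrix Module Cfsg.Agent.S0837 Cfsg.Agent.S0781 Cfsg.Agent.S2644 Cfsg.Agent.Lib.Helper37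
open Cfsg.Agent.Lib.Helper13 (UX)
open Cfsg.Agent.Lib.Helper94.Mono (monGL mem_monGL slGL mem_slGL colMono diagUnit dg dg2)
open Cfsg.Agent.Lib.Helper94.SUSub (MemM)

variable {F : Type*} [Field F] {n : ℕ}

theorem odd_fin (h2 : (2 : F) ≠ 0) (hn : 2 ≤ n) (P : Submodule F (Fin n → F)) (hP : finrank F P = 2)
    (p : Fin n → F) (hp : p ∈ P) (hpfull : 9 ≤ (supp p).card)
    (H : ∀ i j : Fin n, i ≠ j → ∀ ε : Fˣ, (ε = 1 ∨ ε = -1) →
      ∃ w : Fin n → F, w ≠ 0 ∧ w ∈ P ∧ (supp w).card ≤ 4 ∧ w j = -(ε : F) * w i) : False := by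
  classical
  -- two short vectors of `P` are linearly dependent
  have hA : ∀ w1 w2 : Fin n → F, w1 ∈ P → w2 ∈ P → (supp w1).card ≤ 4 → (supp w2).card ≤ 4 →
      ¬ LinearIndependent F ![w1, w2] := by
    intro w1 w2 h1 h2 c1 c2 hli
    have hspan : Submodule.span F (Set.range ![w1, w2]) = P := by
      apply Submodule.eq_of_le_of_finrank_eq
      · rw [Submodule.span_le]
        rintro _ ⟨i, rfl⟩
        fin_cases i
        · exact h1
        · exact h2
      · rw [finrank_span_eq_card hli, hP]
        simp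
    have hp' : p ∈ Submodule.span F (Set.range ![w1, w2]) := by rw [hspan]; exact hp
    rw [Matrix.range_cons_cons_empty, Submodule.mem_span_pair] at hp'
    obtain ⟨a, b, hab⟩ := hp'
    have hsub : supp p ⊆ supp w1 ∪ supp w2 := by
      intro i hi
      rw [mem_supp] at hi
      rw [Finset.mem_union, mem_supp, mem_supp]
      by_contra hcon
      push Not at hcon
      apply hi
      rw [← hab]
      simp [hcon.1, hcon.2]
    have hcard := Finset.card_le_card hsub
    have hunion := Finset.card_union_le (supp w1) (supp w2)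
    omega
  -- a reference short vector
  have h01 : (⟨0, by omega⟩ : Fin n) ≠ ⟨1, by omega⟩ := by
    intro h
    have := congrArg Fin.val h
    simp at this
  obtain ⟨w0, hw0, hw0P, hw0c, -⟩ := H ⟨0, by omega⟩ ⟨1, by omega⟩ h01 1 (Or.inl rfl)
  have hprop : ∀ w : Fin n → F, w ∈ P → (supp w).card ≤ 4 → ∃ a : F, a • w0 = w := by
    intro w hwP hwc
    have := hA w0 w hw0P hwP hw0c hwc
    rw [LinearIndependent.pair_iff' hw0] at this
    push Not at this
    exact this
  apply hw0
  funext i
  -- pick `j ≠ i`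
  obtain ⟨j, hij⟩ : ∃ j : Fin n, i ≠ j := by
    by_cases hi : i = ⟨0, by omega⟩
    · exact ⟨⟨1, by omega⟩, by rw [hi]; exact h01⟩
    · exact ⟨⟨0, by omega⟩, hi⟩
  obtain ⟨wp, hwp0, hwpP, hwpc, hwp⟩ := H i j hij 1 (Or.inl rfl)
  obtain ⟨wm, hwm0, hwmP, hwmc, hwm⟩ := H i j hij (-1) (Or.inr rfl)
  obtain ⟨a, ha⟩ := hprop wp hwpP hwpc
  obtain ⟨b, hb⟩ := hprop wm hwmP hwmc
  have ha0 : a ≠ 0 := by
    rintro rfl
    apply hwp0
    rw [← ha, zero_smul]
  have hb0 : b ≠ 0 := by
    rintro rfl
    apply hwm0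
    rw [← hb, zero_smul]
  have e1 : w0 j = - w0 i := by
    have : a * w0 j = -(1 : F) * (a * w0 i) := by
      have := hwp
      rw [← ha] at this
      simpa using this
    have h3 : a * (w0 j + w0 i) = 0 := by linear_combination this
    rcases mul_eq_zero.mp h3 with h | h
    · exact absurd h ha0
    · linear_combination h
  have e2 : w0 j = w0 i := by
    have : b * w0 j = (b * w0 i) := by
      have := hwm
      rw [← hb] at this
      simpa using this
    have h3 : b * (w0 j - w0 i) = 0 := by linear_combination this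
    rcases mul_eq_zero.mp h3 with h | h
    · exact absurd h hb0
    · linear_combination h
  have h4 : (2 : F) * w0 i = 0 := by linear_combination e1 - e2
  rcases mul_eq_zero.mp h4 with h | h
  · exact absurd h h2
  · simpa using h

end Cfsg.Agent.Lib.Helper70.UMon
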