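/-
helper70, project UMON (S5655). MODULE UMON-[MINV].
PROVED by helper84 (statements unchanged; helper lemmas `minv_*` added).
Sheet: Cfsg/Agent/Lib/Helper70/UMon/UMON_SHEET.md

Monomial involutions and their `(-1)`-eigenspaces (characteristic `≠ 2`).
A monomial involution is `g = mono π d` with `π² = 1` and `d (π k) * d k = 1` (`exists_mono_of_mem`, `mono_mul`,
injectivity of `(π,d) ↦ mono π d` on the entries).  By `mono_mulVec`: `v ∈ Vm g ↔ ∀ k, v (π k) = -(d k * v k)`.
ATOMS: a fixed point `k` of `π` with `d k = -1` gives `e_k ∈ Vm g`; a fixed point with `d k ≠ -1` forces `v k = 0`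
(`(1 + d k) v k = 0`); a 2-cycle `{k, π k}` gives the line `{v (π k) = - d k * v k}` in `⟨e_k, e_{πk}⟩`.  Hence
`Vm g ≅ F^(atoms)` and `finrank (Vm g) = #{negative fixed points} + #{2-cycles}`.
* `supp_bound`: `T := {k | π k ≠ k} ∪ {k | π k = k ∧ d k = -1}` has `2 #{2-cycles} + #{neg. fixed points} ≤ 2 finrank`
  elements, contains the support of every `v ∈ Vm g`, and `g e_k = e_k` for `k ∉ T` (then `π k = k`, and `d k = 1`
  because `d k * d k = 1`, `d k ≠ -1`).
* `vm_pure`: `finrank (Vm g) = 2` and no `e_l ∈ Vm g` (no negative fixed point): exactly two 2-cycles `{l,l'}`, `{m,m'}`;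
  `κ = -d l`, `κ' = -d m`.
-/
import Mathlib
import Cfsg.Agent.Lib.Helper70.UMon.Defs
import Cfsg.Agent.Lib.Helper70.UMon.MonoApi

set_option autoImplicit false

namespace Cfsg.Agent.Lib.Helper70.UMon

open Matrix Module Cfsg.Agent.S0837 Cfsg.Agent.S0781 Cfsg.Agent.S2644 Cfsg.Agent.Lib.Helper37
open Cfsg.Agent.Lib.Helper13 (UX)
open Cfsg.Agent.Lib.Helper94.Mono (monGL mem_monGL slGL mem_slGL colMono diagUnit dg dg2)
open Cfsg.Agent.Lib.Helper94.SUSub (MemM)

variable {F : Type*} [Field F] {n : ℕ}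

theorem minv_mono_injective {π π' : Equiv.Perm (Fin n)} {d d' : Fin n → Fˣ}
    (h : (mono π d : GL (Fin n) F) = mono π' d') : π = π' ∧ d = d' := by
  have key : ∀ k, π k = π' k ∧ d k = d' k := by
    intro k
    have h1 : ((mono π d : GL (Fin n) F) : Matrix (Fin n) (Fin n) F) (π k) k =
        ((mono π' d' : GL (Fin n) F) : Matrix (Fin n) (Fin n) F) (π k) k := by rw [h]
    rw [mono_apply, mono_apply, if_pos rfl] at h1
    by_cases hk : π k = π' k
    · rw [if_pos hk] at h1
      exact ⟨hk, Units.ext h1⟩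
    · rw [if_neg hk] at h1
      exact absurd h1 (Units.ne_zero _)
  exact ⟨Equiv.ext fun k => (key k).1, funext fun k => (key k).2⟩

theorem mono_inv_form {g : GL (Fin n) F} (hg : g ∈ monGL (Fin n) F) (hinv : g * g = 1) :
    ∃ (π : Equiv.Perm (Fin n)) (d : Fin n → Fˣ), g = mono π d ∧ π * π = 1 ∧ ∀ k, d (π k) * d k = 1 := by
  obtain ⟨π, d, rfl⟩ := exists_mono_of_mem hg
  rw [mono_mul, ← mono_one] at hinv
  obtain ⟨h1, h2⟩ := minv_mono_injective hinv
  exact ⟨π, d, rfl, h1, fun k => congrFun h2 k⟩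

theorem mem_Vm_mono (π : Equiv.Perm (Fin n)) (d : Fin n → Fˣ) (v : Fin n → F) :
    v ∈ Vm ((mono π d : GL (Fin n) F) : Matrix (Fin n) (Fin n) F) ↔ ∀ k, v (π k) = -((d k : F) * v k) := by
  rw [mem_Vm]
  constructor
  · intro h k
    have h1 := congrFun h (π k)
    rw [mono_mulVec, Equiv.symm_apply_apply, Pi.neg_apply] at h1
    linear_combination h1
  · intro h
    ext r
    rw [mono_mulVec, Pi.neg_apply]
    have := h (π.symm r)
    rw [Equiv.apply_symm_apply] at this
    linear_combination this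

section core

variable {π : Equiv.Perm (Fin n)} {d : Fin n → Fˣ}

theorem minv_pi_pi (hπ : π * π = 1) (k : Fin n) : π (π k) = k := by
  have : (π * π) k = k := by rw [hπ]; rfl
  exact this

theorem minv_d_mul (hπ : π * π = 1) (hd : ∀ k, d (π k) * d k = 1) (k : Fin n) :
    (d k : F) * (d (π k) : F) = 1 := by
  have := hd (π k)
  rw [minv_pi_pi hπ] at this
  rw [← Units.val_mul, this, Units.val_one]

open Classical in
/-- representatives of the 2-cycles -/
noncomputable def minvR (π : Equiv.Perm (Fin n)) : Finset (Fin n) := Finset.univ.filter fun k => k < π k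

open Classical in
/-- negative fixed points -/
noncomputable def minvN (π : Equiv.Perm (Fin n)) (d : Fin n → Fˣ) : Finset (Fin n) :=
  Finset.univ.filter fun k => π k = k ∧ d k = -1

theorem mem_minvR {k : Fin n} : k ∈ minvR π ↔ k < π k := by
  simp [minvR]

theorem mem_minvN {k : Fin n} : k ∈ minvN π d ↔ π k = k ∧ d k = -1 := by
  simp [minvN]

theorem minv_disjoint : Disjoint (minvR π) (minvN π d) := by
  rw [Finset.disjoint_left]
  intro k hR hN
  rw [mem_minvR] at hR
  rw [mem_minvN] at hN
  rw [hN.1] at hR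
  exact lt_irrefl _ hR

theorem minv_fix_of_not (hπ : π * π = 1) {k : Fin n} (h1 : k ∉ minvR π) (h2 : π k ∉ minvR π) : π k = k := by
  rw [mem_minvR] at h1 h2
  rw [minv_pi_pi hπ] at h2
  exact le_antisymm (not_lt.mp h1) (not_lt.mp h2)

theorem minv_image_not_mem (hπ : π * π = 1) {k : Fin n} (h1 : k ∈ minvR π) :
    π k ∉ minvR π ∧ π k ∉ minvN π d := by
  rw [mem_minvR] at h1
  constructor
  · rw [mem_minvR, minv_pi_pi hπ]
    exact not_lt.mpr h1.le
  · rw [mem_minvN, minv_pi_pi hπ]
    rintro ⟨h, -⟩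
    rw [← h] at h1
    exact lt_irrefl _ h1

/-- a vector of `Vm` vanishing on the representatives vanishes -/
theorem minv_eq_zero (hπ : π * π = 1)
    {v : Fin n → F} (hv : v ∈ Vm ((mono π d : GL (Fin n) F) : Matrix (Fin n) (Fin n) F))
    (h0 : ∀ k, k ∈ minvR π ∪ minvN π d → v k = 0) : v = 0 := by
  rw [mem_Vm_mono] at hv
  funext r
  rw [Pi.zero_apply]
  by_cases hR : r ∈ minvR π
  · exact h0 r (Finset.mem_union_left _ hR)
  by_cases hR' : π r ∈ minvR π
  · have h1 := hv (π r)
    rw [minv_pi_pi hπ, h0 (π r) (Finset.mem_union_left _ hR'), mul_zero, neg_zero] at h1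
    exact h1
  have hfix := minv_fix_of_not hπ hR hR'
  by_cases hdr : d r = -1
  · exact h0 r (Finset.mem_union_right _ (mem_minvN.mpr ⟨hfix, hdr⟩))
  · have h1 := hv r
    rw [hfix] at h1
    have h3 : (1 + (d r : F)) * v r = 0 := by linear_combination h1
    rcases mul_eq_zero.mp h3 with h | h
    · exfalso
      apply hdr
      apply Units.ext
      rw [Units.val_neg, Units.val_one]
      linear_combination h
    · exact h

open Classical in
/-- the vector of `Vm` with prescribed values on the representatives -/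
noncomputable def minvW (π : Equiv.Perm (Fin n)) (d : Fin n → Fˣ) (c : Fin n → F) : Fin n → F := fun r =>
  if r ∈ minvR π ∪ minvN π d then c r
  else if π r ∈ minvR π then -((d (π r) : F) * c (π r)) else 0

theorem minvW_apply {c : Fin n → F} {k : Fin n} (hk : k ∈ minvR π ∪ minvN π d) :
    minvW π d c k = c k := by
  unfold minvW
  rw [if_pos hk]

theorem minvW_apply_image {c : Fin n → F} {k : Fin n} (hk : k ∉ minvR π ∪ minvN π d)
    (hk' : π k ∈ minvR π) : minvW π d c k = -((d (π k) : F) * c (π k)) := by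
  unfold minvW
  rw [if_neg hk, if_pos hk']

theorem minvW_apply_zero {c : Fin n → F} {k : Fin n} (hk : k ∉ minvR π ∪ minvN π d)
    (hk' : π k ∉ minvR π) : minvW π d c k = 0 := by
  unfold minvW
  rw [if_neg hk, if_neg hk']

theorem minvW_mem (hπ : π * π = 1) (hd : ∀ k, d (π k) * d k = 1) (c : Fin n → F) :
    minvW π d c ∈ Vm ((mono π d : GL (Fin n) F) : Matrix (Fin n) (Fin n) F) := by
  rw [mem_Vm_mono]
  intro k
  by_cases hR : k ∈ minvR π
  · obtain ⟨h1, h2⟩ := minv_image_not_mem (d := d) hπ hR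
    have hA : π k ∉ minvR π ∪ minvN π d := by
      rw [Finset.mem_union]; push Not; exact ⟨h1, h2⟩
    have hA' : k ∈ minvR π ∪ minvN π d := Finset.mem_union_left _ hR
    have hR2 : π (π k) ∈ minvR π := by rw [minv_pi_pi hπ]; exact hR
    rw [minvW_apply_image hA hR2, minvW_apply hA', minv_pi_pi hπ]
  by_cases hN : k ∈ minvN π d
  · have hA' : k ∈ minvR π ∪ minvN π d := Finset.mem_union_right _ hN
    obtain ⟨hfix, hdk⟩ := mem_minvN.mp hN
    rw [hfix, minvW_apply hA', hdk]
    simp
  have hA' : k ∉ minvR π ∪ minvN π d := by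
    rw [Finset.mem_union]; push Not; exact ⟨hR, hN⟩
  by_cases hR' : π k ∈ minvR π
  · have hA : π k ∈ minvR π ∪ minvN π d := Finset.mem_union_left _ hR'
    rw [minvW_apply hA, minvW_apply_image hA' hR']
    have := minv_d_mul (F := F) hπ hd k
    linear_combination (-(c (π k))) * this
  · have hfix := minv_fix_of_not hπ hR hR'
    rw [minvW_apply_zero hA' hR', hfix, minvW_apply_zero hA' hR']
    simp

/-- the dimension formula -/
theorem minv_finrank (hπ : π * π = 1) (hd : ∀ k, d (π k) * d k = 1) :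
    finrank F (Vm ((mono π d : GL (Fin n) F) : Matrix (Fin n) (Fin n) F)) =
      (minvR π).card + (minvN π d).card := by
  classical
  set A : Finset (Fin n) := minvR π ∪ minvN π d with hA
  set V := Vm ((mono π d : GL (Fin n) F) : Matrix (Fin n) (Fin n) F) with hV
  let ρ : V →ₗ[F] (↥A → F) := (LinearMap.funLeft F F (Subtype.val : ↥A → Fin n)).comp V.subtype
  have hρ : ∀ (v : V) (k : ↥A), ρ v k = (v : Fin n → F) k := fun v k => rfl
  have hinj : Function.Injective ρ := by
    rw [← LinearMap.ker_eq_bot, LinearMap.ker_eq_bot']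
    intro v hv0
    apply Subtype.ext
    apply minv_eq_zero hπ v.2
    intro k hk
    have := congrFun hv0 ⟨k, hk⟩
    rw [hρ] at this
    exact this
  have hsurj : Function.Surjective ρ := by
    intro c
    let c' : Fin n → F := fun r => if h : r ∈ A then c ⟨r, h⟩ else 0
    refine ⟨⟨minvW π d c', minvW_mem hπ hd c'⟩, ?_⟩
    funext k
    rw [hρ]
    show minvW π d c' k = c k
    rw [minvW_apply k.2]
    show (if h : (k : Fin n) ∈ A then c ⟨k, h⟩ else 0) = c k
    rw [dif_pos k.2]
  have e : V ≃ₗ[F] (↥A → F) := LinearEquiv.ofBijective ρ ⟨hinj, hsurj⟩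
  rw [e.finrank_eq, Module.finrank_fintype_fun_eq_card, Fintype.card_coe, hA,
    Finset.card_union_of_disjoint minv_disjoint]

end core

theorem supp_bound (h2 : (2 : F) ≠ 0) {g : GL (Fin n) F} (hg : g ∈ monGL (Fin n) F) (hinv : g * g = 1) :
    ∃ T : Finset (Fin n), T.card ≤ 2 * finrank F (Vm (g : Matrix (Fin n) (Fin n) F)) ∧
      (∀ v ∈ Vm (g : Matrix (Fin n) (Fin n) F), ∀ r, v r ≠ 0 → r ∈ T) ∧
      ∀ k, k ∉ T → (g : Matrix (Fin n) (Fin n) F) *ᵥ Pi.single k 1 = Pi.single k 1 := by
  classical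
  obtain ⟨π, d, rfl, hπ, hd⟩ := mono_inv_form hg hinv
  refine ⟨(minvR π ∪ (minvR π).image π) ∪ minvN π d, ?_, ?_, ?_⟩
  · rw [minv_finrank hπ hd]
    have h1 := Finset.card_union_le (minvR π ∪ (minvR π).image π) (minvN π d)
    have h3 := Finset.card_union_le (minvR π) ((minvR π).image π)
    have h4 : ((minvR π).image π).card ≤ (minvR π).card := Finset.card_image_le
    omega
  · intro v hv r hr
    by_contra hT
    simp only [Finset.mem_union, Finset.mem_image, not_or, not_exists, not_and] at hT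
    obtain ⟨⟨hR, hI⟩, hN⟩ := hT
    have hR' : π r ∉ minvR π := by
      intro h
      apply hI (π r) h
      exact minv_pi_pi hπ r
    have hfix := minv_fix_of_not hπ hR hR'
    rw [mem_Vm_mono] at hv
    have h1 := hv r
    rw [hfix] at h1
    have h3 : (1 + (d r : F)) * v r = 0 := by linear_combination h1
    rcases mul_eq_zero.mp h3 with h | h
    · apply hN
      rw [mem_minvN]
      refine ⟨hfix, ?_⟩
      apply Units.ext
      rw [Units.val_neg, Units.val_one]
      linear_combination h
    · exact hr h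
  · intro k hT
    simp only [Finset.mem_union, Finset.mem_image, not_or, not_exists, not_and] at hT
    obtain ⟨⟨hR, hI⟩, hN⟩ := hT
    have hR' : π k ∉ minvR π := by
      intro h
      apply hI (π k) h
      exact minv_pi_pi hπ k
    have hfix := minv_fix_of_not hπ hR hR'
    have hdd : (d k : F) * (d k : F) = 1 := by
      have := minv_d_mul (F := F) hπ hd k
      rw [hfix] at this
      exact this
    have hd1 : (d k : F) = 1 := by
      have h3 : ((d k : F) - 1) * ((d k : F) + 1) = 0 := by linear_combination hdd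
      rcases mul_eq_zero.mp h3 with h | h
      · linear_combination h
      · exfalso
        apply hN
        rw [mem_minvN]
        refine ⟨hfix, ?_⟩
        apply Units.ext
        rw [Units.val_neg, Units.val_one]
        linear_combination h
    rw [mono_mulVec_single, hfix, hd1, one_smul]

theorem vm_pure (h2 : (2 : F) ≠ 0) {g : GL (Fin n) F} (hg : g ∈ monGL (Fin n) F) (hinv : g * g = 1)
    (hd : finrank F (Vm (g : Matrix (Fin n) (Fin n) F)) = 2)
    (hpure : ∀ l : Fin n, (Pi.single l 1 : Fin n → F) ∉ Vm (g : Matrix (Fin n) (Fin n) F)) :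
    ∃ (l l' m m' : Fin n) (κ κ' : F), l ≠ l' ∧ m ≠ m' ∧ l ≠ m ∧ l ≠ m' ∧ l' ≠ m ∧ l' ≠ m' ∧ κ ≠ 0 ∧ κ' ≠ 0 ∧
      ∀ v : Fin n → F, v ∈ Vm (g : Matrix (Fin n) (Fin n) F) ↔
        (v l' = κ * v l ∧ v m' = κ' * v m ∧ ∀ r, r ≠ l → r ≠ l' → r ≠ m → r ≠ m' → v r = 0) := by
  classical
  obtain ⟨π, d, rfl, hπ, hdd⟩ := mono_inv_form hg hinv
  -- no negative fixed points
  have hNone : ∀ k, ¬ (π k = k ∧ d k = -1) := by
    rintro k ⟨hfix, hdk⟩
    apply hpure k
    rw [mem_Vm, mono_mulVec_single, hfix, hdk]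
    simp
  have hN : minvN π d = ∅ := by
    rw [Finset.eq_empty_iff_forall_notMem]
    intro k hk
    exact hNone k (mem_minvN.mp hk)
  have hR2 : (minvR π).card = 2 := by
    have := minv_finrank (F := F) hπ hdd
    rw [hd, hN, Finset.card_empty, add_zero] at this
    exact this.symm
  obtain ⟨l, m, hlm, hRlm⟩ := Finset.card_eq_two.mp hR2
  have hlR : l ∈ minvR π := by rw [hRlm]; simp
  have hmR : m ∈ minvR π := by rw [hRlm]; simp
  have hl : l < π l := mem_minvR.mp hlR
  have hm : m < π m := mem_minvR.mp hmR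
  have hRmem : ∀ k, k ∈ minvR π → k = l ∨ k = m := by
    intro k hk
    rw [hRlm] at hk
    simpa using hk
  have hl'R : π l ∉ minvR π := (minv_image_not_mem (d := d) hπ hlR).1
  have hm'R : π m ∉ minvR π := (minv_image_not_mem (d := d) hπ hmR).1
  -- fixed points outside
  have hfixed : ∀ r, r ≠ l → r ≠ π l → r ≠ m → r ≠ π m → π r = r := by
    intro r h1 h2 h3 h4
    apply minv_fix_of_not hπ
    · intro h
      rcases hRmem r h with h | h
      · exact h1 h
      · exact h3 h
    · intro h
      rcases hRmem (π r) h with h | h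
      · apply h2
        rw [← h, minv_pi_pi hπ]
      · apply h4
        rw [← h, minv_pi_pi hπ]
  have hzero : ∀ v : Fin n → F, (∀ k, v (π k) = -((d k : F) * v k)) → ∀ r, π r = r → v r = 0 := by
    intro v hv r hfix
    have h1 := hv r
    rw [hfix] at h1
    have h3 : (1 + (d r : F)) * v r = 0 := by linear_combination h1
    rcases mul_eq_zero.mp h3 with h | h
    · exfalso
      apply hNone r
      refine ⟨hfix, ?_⟩
      apply Units.ext
      rw [Units.val_neg, Units.val_one]
      linear_combination h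
    · exact h
  refine ⟨l, π l, m, π m, -(d l : F), -(d m : F), hl.ne, hm.ne, hlm, ?_, ?_, ?_, ?_, ?_, ?_⟩
  · intro h
    rw [h] at hlR
    exact hm'R hlR
  · intro h
    rw [← h] at hmR
    exact hl'R hmR
  · intro h
    exact hlm (π.injective h)
  · exact neg_ne_zero.mpr (Units.ne_zero _)
  · exact neg_ne_zero.mpr (Units.ne_zero _)
  · intro v
    rw [mem_Vm_mono]
    constructor
    · intro hv
      refine ⟨?_, ?_, ?_⟩
      · rw [hv l]; ring
      · rw [hv m]; ring
      · intro r h1 h2 h3 h4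
        exact hzero v hv r (hfixed r h1 h2 h3 h4)
    · rintro ⟨hvl, hvm, hv0⟩ k
      by_cases h1 : k = l
      · rw [h1, hvl]; ring
      by_cases h2 : k = π l
      · rw [h2, minv_pi_pi hπ, hvl]
        have := minv_d_mul (F := F) hπ hdd l
        linear_combination (-(v l)) * this
      by_cases h3 : k = m
      · rw [h3, hvm]; ring
      by_cases h4 : k = π m
      · rw [h4, minv_pi_pi hπ, hvm]
        have := minv_d_mul (F := F) hπ hdd m
        linear_combination (-(v m)) * this
      rw [hfixed k h1 h2 h3 h4, hv0 k h1 h2 h3 h4]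
      simp

end Cfsg.Agent.Lib.Helper70.UMon
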