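/-
helper70, project UMON (S5655). MODULE UMON-[ODD-CENT].   (proved by helper46)
Sheet: Cfsg/Agent/Lib/Helper70/UMon/UMON_SHEET.md

Odd-`q` TI-killer, centralisers.  `Full M` (every non-monomial element of `M` has at most one zero per column),
characteristic `≠ 2`, `s = sEl a b = diag(-1 at a, b)`, `z = zEl i j c ε` (`e_i ↦ ε e_j`, `e_j ↦ ε e_i`, `e_c ↦ -e_c`).
* `cent_sEl`: `x ∈ M` commuting with `s` preserves `Vm s = {v supported on {a,b}}` (`mem_Vm_sEl`), so the column `x e_a`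
  (`e_a ∈ Vm s`) has `n - 2 ≥ 2` zeros and `x ∈ monGL` by `Full M` (contrapositive).
* `cent_zEl`: likewise `x e_c ∈ Vm z` is supported on `{i, j, c}` (`mem_Vm_zEl`): `n - 3 ≥ 2` zeros.
* `not_conj`: if `g z g⁻¹ = s` with `g ∈ M` then `g (Vm z) ⊆ Vm s`, so `g e_c` is supported on `{a,b}` and `g ∈ monGL`,
  `g = mono π d`; then `g e_c`, `g (e_i - ε e_j) ∈ Vm s` force `π c, π i, π j ∈ {a, b}`: three different elements of a set
  with two elements.
-/
import Mathlib
import Cfsg.Agent.Lib.Helper70.UMon.Defs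
import Cfsg.Agent.Lib.Helper70.UMon.MonoApi

set_option autoImplicit false

namespace Cfsg.Agent.Lib.Helper70.UMon

open Matrix Module Cfsg.Agent.S0837 Cfsg.Agent.S0781 Cfsg.Agent.S2644 Cfsg.Agent.Lib.Helper37
open Cfsg.Agent.Lib.Helper13 (UX)
open Cfsg.Agent.Lib.Helper94.Mono (monGL mem_monGL slGL mem_slGL colMono diagUnit dg dg2)
open Cfsg.Agent.Lib.Helper94.SUSub (MemM)

variable {F : Type*} [Field F] {n : ℕ}

/-- the entries of `A e_c` are the entries of the column `c` -/
theorem oddCent_mulVec_single (A : Matrix (Fin n) (Fin n) F) (c r : Fin n) :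
    (A *ᵥ Pi.single c 1) r = A r c := by
  simp [Matrix.mulVec, dotProduct, Pi.single_apply]

/-- two different indices outside a small set -/
theorem oddCent_exists_two (S : Finset (Fin n)) (hS : S.card + 2 ≤ n) :
    ∃ r r' : Fin n, r ≠ r' ∧ r ∉ S ∧ r' ∉ S := by
  have h1 : 1 < (Finset.univ \ S).card := by
    rw [Finset.card_sdiff_of_subset (Finset.subset_univ S), Finset.card_univ, Fintype.card_fin]
    omega
  obtain ⟨r, hr, r', hr', hne⟩ := Finset.one_lt_card.mp h1
  exact ⟨r, r', hne, (Finset.mem_sdiff.mp hr).2, (Finset.mem_sdiff.mp hr').2⟩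

/-- an element of a full group with a column vanishing outside a small set is monomial -/
theorem oddCent_mono_of_col {M : Subgroup (GL (Fin n) F)} (hFull : Full M) {x : GL (Fin n) F} (hx : x ∈ M)
    (col : Fin n) (S : Finset (Fin n)) (hS : S.card + 2 ≤ n)
    (h0 : ∀ r, r ∉ S → (x : Matrix (Fin n) (Fin n) F) r col = 0) : x ∈ monGL (Fin n) F := by
  by_contra hnot
  obtain ⟨r, r', hne, hr, hr'⟩ := oddCent_exists_two S hS
  exact hFull x hx hnot col r r' hne (h0 r hr) (h0 r' hr')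

/-- `g s = t g` maps the `(-1)`-eigenspace of `s` into that of `t` -/
theorem oddCent_map_Vm {g s t : GL (Fin n) F} (h : g * s = t * g) {v : Fin n → F}
    (hv : v ∈ Vm (s : Matrix (Fin n) (Fin n) F)) :
    (g : Matrix (Fin n) (Fin n) F) *ᵥ v ∈ Vm (t : Matrix (Fin n) (Fin n) F) := by
  rw [mem_Vm] at hv ⊢
  have h' : (t : Matrix (Fin n) (Fin n) F) * (g : Matrix (Fin n) (Fin n) F) =
      (g : Matrix (Fin n) (Fin n) F) * (s : Matrix (Fin n) (Fin n) F) := by
    rw [← Units.val_mul, ← Units.val_mul, h]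
  rw [mulVec_mulVec, h', ← mulVec_mulVec, hv, mulVec_neg]

theorem cent_sEl (h2 : (2 : F) ≠ 0) (hn : 4 ≤ n) {M : Subgroup (GL (Fin n) F)} (hFull : Full M)
    {a b : Fin n} (hab : a ≠ b) {x : GL (Fin n) F} (hx : x ∈ M) (hc : x * sEl a b = sEl a b * x) :
    x ∈ monGL (Fin n) F := by
  classical
  have hea : (Pi.single a 1 : Fin n → F) ∈ Vm ((sEl a b : GL (Fin n) F) : Matrix (Fin n) (Fin n) F) := by
    rw [mem_Vm_sEl h2 hab]
    intro r hra _
    rw [Pi.single_apply, if_neg hra]
  have h1 := oddCent_map_Vm hc hea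
  rw [mem_Vm_sEl h2 hab] at h1
  refine oddCent_mono_of_col hFull hx a {a, b} ?_ ?_
  · have := Finset.card_le_two (a := a) (b := b)
    omega
  · intro r hr
    rw [Finset.mem_insert, Finset.mem_singleton, not_or] at hr
    have h5 := h1 r hr.1 hr.2
    rwa [oddCent_mulVec_single] at h5

theorem cent_zEl (h2 : (2 : F) ≠ 0) (hn : 5 ≤ n) {M : Subgroup (GL (Fin n) F)} (hFull : Full M)
    {i j c : Fin n} (hij : i ≠ j) (hic : i ≠ c) (hjc : j ≠ c) {ε : Fˣ} (hε : ε = 1 ∨ ε = -1)
    {x : GL (Fin n) F} (hx : x ∈ M) (hc : x * zEl i j c ε = zEl i j c ε * x) :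
    x ∈ monGL (Fin n) F := by
  classical
  have hec : (Pi.single c 1 : Fin n → F) ∈ Vm ((zEl i j c ε : GL (Fin n) F) : Matrix (Fin n) (Fin n) F) := by
    rw [mem_Vm_zEl h2 hij hic hjc hε]
    refine ⟨?_, ?_⟩
    · rw [Pi.single_apply, if_neg hjc, Pi.single_apply, if_neg hic, mul_zero]
    · intro r _ _ hrc
      rw [Pi.single_apply, if_neg hrc]
  have h1 := oddCent_map_Vm hc hec
  rw [mem_Vm_zEl h2 hij hic hjc hε] at h1
  refine oddCent_mono_of_col hFull hx c {i, j, c} ?_ ?_
  · have := Finset.card_le_three (a := i) (b := j) (c := c)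
    omega
  · intro r hr
    rw [Finset.mem_insert, Finset.mem_insert, Finset.mem_singleton, not_or, not_or] at hr
    have h5 := h1.2 r hr.1 hr.2.1 hr.2.2
    rwa [oddCent_mulVec_single] at h5

theorem not_conj_zEl_sEl (h2 : (2 : F) ≠ 0) (hn : 5 ≤ n) {M : Subgroup (GL (Fin n) F)} (hFull : Full M)
    {a b : Fin n} (hab : a ≠ b) {i j c : Fin n} (hij : i ≠ j) (hic : i ≠ c) (hjc : j ≠ c) {ε : Fˣ}
    (hε : ε = 1 ∨ ε = -1) : ¬ ∃ g ∈ M, g * zEl i j c ε * g⁻¹ = sEl a b := by
  classical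
  rintro ⟨g, hg, hconj⟩
  have hgz : g * zEl i j c ε = sEl a b * g := by
    rw [← hconj]; group
  -- `e_c` and `e_i - ε e_j` lie in `Vm z`
  have hec : (Pi.single c 1 : Fin n → F) ∈ Vm ((zEl i j c ε : GL (Fin n) F) : Matrix (Fin n) (Fin n) F) := by
    rw [mem_Vm_zEl h2 hij hic hjc hε]
    refine ⟨?_, ?_⟩
    · rw [Pi.single_apply, if_neg hjc, Pi.single_apply, if_neg hic, mul_zero]
    · intro r _ _ hrc
      rw [Pi.single_apply, if_neg hrc]
  have hw : (Pi.single i 1 - (ε : F) • Pi.single j 1 : Fin n → F) ∈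
      Vm ((zEl i j c ε : GL (Fin n) F) : Matrix (Fin n) (Fin n) F) := by
    rw [mem_Vm_zEl h2 hij hic hjc hε]
    refine ⟨?_, ?_⟩
    · simp [hij, hij.symm]
    · intro r hri hrj _
      simp [hri, hrj]
  have h1 := oddCent_map_Vm hgz hec
  have h3 := oddCent_map_Vm hgz hw
  rw [mem_Vm_sEl h2 hab] at h1 h3
  -- `g` is monomial
  have hmono : g ∈ monGL (Fin n) F := by
    refine oddCent_mono_of_col hFull hg c {a, b} ?_ ?_
    · have := Finset.card_le_two (a := a) (b := b)
      omega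
    · intro r hr
      rw [Finset.mem_insert, Finset.mem_singleton, not_or] at hr
      have h5 := h1 r hr.1 hr.2
      rwa [oddCent_mulVec_single] at h5
  obtain ⟨π, d, rfl⟩ := exists_mono_of_mem hmono
  -- `π c, π i, π j ∈ {a, b}`
  have hπc : π c = a ∨ π c = b := by
    by_contra hcon
    rw [not_or] at hcon
    have := h1 (π c) hcon.1 hcon.2
    rw [mono_mulVec, Equiv.symm_apply_apply, Pi.single_apply, if_pos rfl, mul_one] at this
    exact (d c).ne_zero this
  have hπi : π i = a ∨ π i = b := by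
    by_contra hcon
    rw [not_or] at hcon
    have := h3 (π i) hcon.1 hcon.2
    rw [mono_mulVec, Equiv.symm_apply_apply] at this
    simp [hij] at this
  have hπj : π j = a ∨ π j = b := by
    by_contra hcon
    rw [not_or] at hcon
    have := h3 (π j) hcon.1 hcon.2
    rw [mono_mulVec, Equiv.symm_apply_apply] at this
    simp [hij.symm] at this
  have e1 : π i ≠ π j := fun h => hij (π.injective h)
  have e2 : π i ≠ π c := fun h => hic (π.injective h)
  have e3 : π j ≠ π c := fun h => hjc (π.injective h)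
  rcases hπc with h | h <;> rcases hπi with h' | h' <;> rcases hπj with h'' | h'' <;>
    simp_all

end Cfsg.Agent.Lib.Helper70.UMon
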