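/-
helper70, project UMON (S5655). MODULE UMON-[ODD-SHAPE2].
PROVED by helper37 (statement unchanged; `hσ2`, `hMU` turn out not to be needed: step (ii) is reduced to purity (iv)).
Sheet: Cfsg/Agent/Lib/Helper70/UMon/UMON_SHEET.md

Odd-`q` TI-killer, the main case: `finrank (Vm z') = 2`.  Output: a non-zero vector `w ∈ Vm s₁` (`s₁ = f s f⁻¹`) with
support of size `≤ 4` and `w j = -ε w i`.

Proof.  Write `z = zEl i j c ε`, `P₁ = Vm s₁ = f (Vm s)` (dimension 2, contains the full column `f e_a`).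
(i) PROJECTION: `z'` commutes with `z` and `s₁`, so it preserves `Vm z` and `Vm s₁`; `π := (1 - z')/2` is the identity on
`Vm z'` and maps `Vm z → Vm z ⊓ Vm z'`, `Vm s₁ → Vm s₁ ⊓ Vm z'`.  As `Vm z' ≤ Vm z ⊔ Vm s₁`:
`Vm z' = (Vm z ⊓ Vm z') ⊔ (Vm s₁ ⊓ Vm z')`.
(ii) `Vm s₁ ⊓ Vm z' ≠ ⊥`: otherwise `Vm z' ≤ Vm z`, equal by dimension; `z, z'` are unitary involutions with the same
`(-1)`-space, so `z' = z` (the `(+1)`-space of a unitary involution is the orthogonal complement of its `(-1)`-space);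
then `z₀ := f⁻¹ z f = f⁻¹ z' f ∈ monGL` is a monomial involution with `finrank (Vm z₀) = 2` (`finrank_Vm_conj`), so by
`supp_bound` it fixes `e_k` for all `k` outside a set `T` of at most 4 indices: `z (f e_k) = f e_k`, whose `c`-th coordinate
gives `(f e_k) c = 0` (`2 ≠ 0`).  So row `c` of `f` has `≥ n - 4` zeros; `f⁻¹ = hs σ f` (`f` unitary:
`hs_mul_self_of_preserves`), so column `c` of `f⁻¹ ∈ M` has `≥ n - 4 ≥ 2` zeros and `f⁻¹ ∈ monGL` by `Full M`, i.e.
`f ∈ monGL`: contradiction.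
(iii) `Vm z ⊓ Vm z' ≠ ⊥`: otherwise `Vm z' = Vm s₁ ∋ f e_a`, support `≤ 4` by `supp_bound`, but `≥ n - 1` by `Full M`.
(iv) PURITY: no `e_l ∈ Vm z'`: otherwise `f⁻¹ e_l ∈ Vm (f⁻¹ z' f)` (a monomial involution with 2-dimensional `(-1)`-space)
has support `≤ 4`, but it is a column of `f⁻¹ ∈ M \ monGL`, support `≥ n - 1`.
(v) `vm_pure`: `Vm z' = {v l' = κ v l, v m' = κ' v m, v r = 0 otherwise}`: the supports of its non-zero vectors have 2 or 4
elements.  A non-zero `x₀ ∈ Vm z ⊓ Vm z'` is `α (e_i - ε e_j) + β e_c` (`mem_Vm_zEl`) with support of size 1, 2 or 3; hence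
`β = 0`, `{i,j} = {l,l'}` or `{m,m'}`, and the relation of that 2-cycle reads `v j = -ε v i` on `Vm z'` (use `ε² = 1`).
(vi) a non-zero `w ∈ Vm s₁ ⊓ Vm z'` has support `≤ 4` and `w j = -ε w i`.
-/
import Mathlib
import Cfsg.Agent.Lib.Helper70.UMon.Defs
import Cfsg.Agent.Lib.Helper70.UMon.MonoApi
import Cfsg.Agent.Lib.Helper70.UMon.MonoInv
import Cfsg.Agent.Lib.Helper70.UMon.OddDim
import Cfsg.Agent.Lib.Helper70.UMon.OddCent

set_option autoImplicit false

namespace Cfsg.Agent.Lib.Helper70.UMon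

open Matrix Module Cfsg.Agent.S0837 Cfsg.Agent.S0781 Cfsg.Agent.S2644 Cfsg.Agent.Lib.Helper37
open Cfsg.Agent.Lib.Helper13 (UX)
open Cfsg.Agent.Lib.Helper94.Mono (monGL mem_monGL slGL mem_slGL colMono diagUnit dg dg2)
open Cfsg.Agent.Lib.Helper94.SUSub (MemM)

variable {F : Type*} [Field F] {σ : F →+* F} {n : ℕ}

/-- a column of a non-monomial element of a `Full` group is not supported on a small set -/
theorem full_col_card {M : Subgroup (GL (Fin n) F)} (hFull : Full M) {g : GL (Fin n) F} (hgM : g ∈ M)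
    (hg : g ∉ monGL (Fin n) F) (k : Fin n) (T : Finset (Fin n))
    (hT : ∀ r, ((g : Matrix (Fin n) (Fin n) F) *ᵥ Pi.single k 1) r ≠ 0 → r ∈ T) : n ≤ T.card + 1 := by
  classical
  have hentry : ∀ r, ((g : Matrix (Fin n) (Fin n) F) *ᵥ Pi.single k 1) r =
      (g : Matrix (Fin n) (Fin n) F) r k := by
    intro r
    simp [mulVec, dotProduct, Pi.single_apply]
  have hzero : ((Finset.univ : Finset (Fin n)).filter
      fun r => (g : Matrix (Fin n) (Fin n) F) r k = 0).card ≤ 1 := by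
    rw [Finset.card_le_one]
    intro r hr r' hr'
    rw [Finset.mem_filter] at hr hr'
    by_contra hne
    exact hFull g hgM hg k r r' hne hr.2 hr'.2
  have hsub : ((Finset.univ : Finset (Fin n)).filter
      fun r => ¬ (g : Matrix (Fin n) (Fin n) F) r k = 0) ⊆ T := by
    intro r hr
    rw [Finset.mem_filter] at hr
    apply hT r
    rw [hentry]
    exact hr.2
  have hcard := Finset.card_le_card hsub
  have hsplit := Finset.card_filter_add_card_filter_not (s := (Finset.univ : Finset (Fin n)))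
    (fun r => (g : Matrix (Fin n) (Fin n) F) r k = 0)
  rw [Finset.card_univ, Fintype.card_fin] at hsplit
  omega

/-- the projection `(1 - A)/2` onto the `(-1)`-eigenspace of an involution `A`, restricted to the
`(-1)`-eigenspace of a commuting matrix `B` -/
theorem proj_mem {A B : Matrix (Fin n) (Fin n) F} (hA : A * A = 1) (hAB : A * B = B * A)
    {u : Fin n → F} (hu : u ∈ Vm B) : (2 : F)⁻¹ • (u - A *ᵥ u) ∈ Vm B ⊓ Vm A := by
  refine ⟨?_, ?_⟩
  · apply Submodule.smul_mem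
    apply Submodule.sub_mem _ hu
    rw [mem_Vm, mulVec_mulVec, ← hAB, ← mulVec_mulVec, mem_Vm.mp hu, mulVec_neg]
  · apply Submodule.smul_mem
    rw [mem_Vm, mulVec_sub, mulVec_mulVec, hA, one_mulVec, neg_sub]

theorem proj_self (h2 : (2 : F) ≠ 0) {A : Matrix (Fin n) (Fin n) F} {v : Fin n → F} (hv : v ∈ Vm A) :
    (2 : F)⁻¹ • (v - A *ᵥ v) = v := by
  rw [mem_Vm.mp hv]
  ext r
  simp only [Pi.sub_apply, Pi.smul_apply, Pi.neg_apply, smul_eq_mul]
  field_simp
  ring

/-- `Vm A ≤ (Vm B ⊓ Vm A) ⊔ (Vm C ⊓ Vm A)` when `Vm A ≤ Vm B ⊔ Vm C` and `A` commutes with `B`, `C` -/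
theorem Vm_split (h2 : (2 : F) ≠ 0) {A B C : Matrix (Fin n) (Fin n) F} (hA : A * A = 1)
    (hAB : A * B = B * A) (hAC : A * C = C * A) (hle : Vm A ≤ Vm B ⊔ Vm C) {v : Fin n → F}
    (hv : v ∈ Vm A) : ∃ x ∈ Vm B ⊓ Vm A, ∃ y ∈ Vm C ⊓ Vm A, v = x + y := by
  obtain ⟨x, hx, y, hy, hxy⟩ := Submodule.mem_sup.mp (hle hv)
  refine ⟨_, proj_mem hA hAB hx, _, proj_mem hA hAC hy, ?_⟩
  rw [← smul_add, ← proj_self h2 hv, ← hxy, mulVec_add]
  congr 1
  abel

/-- combinatorial step: the support of `x` is inside `{i, j, c}`, and it is a union of the linked pairs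
`{p, p'}`, `{q, q'}`; if `i = p` then `j = p'`. -/
theorem pair_aux {x : Fin n → F} {i j c p p' q q' : Fin n}
    (hE : ∀ r, r ≠ i → r ≠ j → r ≠ c → x r = 0) (hxi : x i ≠ 0) (hxj : x j ≠ 0)
    (hij : i ≠ j) (hjc : j ≠ c)
    (hpp' : p ≠ p') (hpq : p ≠ q) (hpq' : p ≠ q') (hp'q : p' ≠ q) (hp'q' : p' ≠ q') (hqq' : q ≠ q')
    (hl1 : x p ≠ 0 → x p' ≠ 0) (hl2 : x q ≠ 0 → x q' ≠ 0) (hl3 : x q' ≠ 0 → x q ≠ 0)
    (hC : ∀ r, r ≠ p → r ≠ p' → r ≠ q → r ≠ q' → x r = 0) (hip : i = p) : j = p' := by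
  subst hip
  have h1 : x p' ≠ 0 := hl1 hxi
  by_contra hjp'
  have hp'c : p' = c := by
    by_contra hne
    exact h1 (hE p' (Ne.symm hpp') (Ne.symm hjp') hne)
  subst hp'c
  by_cases hjq : j = q
  · subst hjq
    have h2 : x q' ≠ 0 := hl2 hxj
    exact h2 (hE q' (Ne.symm hpq') (Ne.symm hqq') (Ne.symm hp'q'))
  · by_cases hjq' : j = q'
    · subst hjq'
      have h2 : x q ≠ 0 := hl3 hxj
      exact h2 (hE q (Ne.symm hpq) hqq' (Ne.symm hp'q))
    · exact hxj (hC j (Ne.symm hij) hjp' hjq hjq')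

theorem shape_two (h2 : (2 : F) ≠ 0) (hσ2 : ∀ a, σ (σ a) = a) (hn : 10 ≤ n)
    {M : Subgroup (GL (Fin n) F)} (hMU : M ≤ UG σ n) (hFull : Full M)
    {f : GL (Fin n) F} (hfM : f ∈ M) (hf : f ∉ monGL (Fin n) F) {a b : Fin n} (hab : a ≠ b)
    {i j c : Fin n} (hij : i ≠ j) (hic : i ≠ c) (hjc : j ≠ c) {ε : Fˣ} (hε : ε = 1 ∨ ε = -1)
    {z' : GL (Fin n) F} (hz'M : z' ∈ M) (hinv : z' * z' = 1)
    (hcz : z' * zEl i j c ε = zEl i j c ε * z')
    (hcs : z' * (f * sEl a b * f⁻¹) = (f * sEl a b * f⁻¹) * z')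
    (hz'mon : z' ∈ monGL (Fin n) F) (hz''mon : f⁻¹ * z' * f ∈ monGL (Fin n) F)
    (hle : Vm (z' : Matrix (Fin n) (Fin n) F) ≤
        Vm ((zEl i j c ε : GL (Fin n) F) : Matrix (Fin n) (Fin n) F) ⊔
          Vm ((f * sEl a b * f⁻¹ : GL (Fin n) F) : Matrix (Fin n) (Fin n) F))
    (hd : finrank F (Vm (z' : Matrix (Fin n) (Fin n) F)) = 2) :
    ∃ w : Fin n → F, w ≠ 0 ∧
      w ∈ Vm ((f * sEl a b * f⁻¹ : GL (Fin n) F) : Matrix (Fin n) (Fin n) F) ∧
      (supp w).card ≤ 4 ∧ w j = -(ε : F) * w i := by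
  classical
  -- notation
  have hzz : (zEl i j c ε : GL (Fin n) F) * zEl i j c ε = 1 := zEl_mul_self hij hic hjc hε
  have hA : (z' : Matrix (Fin n) (Fin n) F) * (z' : Matrix (Fin n) (Fin n) F) = 1 := by
    rw [← Units.val_mul, hinv, Units.val_one]
  have hAB : (z' : Matrix (Fin n) (Fin n) F) * ((zEl i j c ε : GL (Fin n) F) : Matrix (Fin n) (Fin n) F)
      = ((zEl i j c ε : GL (Fin n) F) : Matrix (Fin n) (Fin n) F) * (z' : Matrix (Fin n) (Fin n) F) := by
    rw [← Units.val_mul, hcz, Units.val_mul]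
  have hAC : (z' : Matrix (Fin n) (Fin n) F) *
      ((f * sEl a b * f⁻¹ : GL (Fin n) F) : Matrix (Fin n) (Fin n) F)
      = ((f * sEl a b * f⁻¹ : GL (Fin n) F) : Matrix (Fin n) (Fin n) F) *
        (z' : Matrix (Fin n) (Fin n) F) := by
    rw [← Units.val_mul, hcs, Units.val_mul]
  have hfinv : f⁻¹ ∉ monGL (Fin n) F := fun h => hf (by simpa using (monGL (Fin n) F).inv_mem h)
  have hfinvM : f⁻¹ ∈ M := M.inv_mem hfM
  -- the conjugate `z₀ = f⁻¹ z' f`
  have hz0 : f⁻¹ * z' * f = f⁻¹ * z' * (f⁻¹)⁻¹ := by rw [inv_inv]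
  have hz0inv : (f⁻¹ * z' * f) * (f⁻¹ * z' * f) = 1 := by
    calc (f⁻¹ * z' * f) * (f⁻¹ * z' * f) = f⁻¹ * (z' * z') * f := by group
      _ = 1 := by rw [hinv]; group
  have hz0d : finrank F (Vm ((f⁻¹ * z' * f : GL (Fin n) F) : Matrix (Fin n) (Fin n) F)) = 2 := by
    rw [hz0, finrank_Vm_conj, hd]
  -- (iv) purity
  have hpure : ∀ l : Fin n, (Pi.single l 1 : Fin n → F) ∉ Vm (z' : Matrix (Fin n) (Fin n) F) := by
    intro l hl
    obtain ⟨T, hT, hsupp, -⟩ := supp_bound h2 hz''mon hz0inv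
    rw [hz0d] at hT
    have hmem : ((f⁻¹ : GL (Fin n) F) : Matrix (Fin n) (Fin n) F) *ᵥ Pi.single l 1 ∈
        Vm ((f⁻¹ * z' * f : GL (Fin n) F) : Matrix (Fin n) (Fin n) F) := by
      rw [hz0, mem_Vm_conj, mulVec_mulVec, ← Units.val_mul, inv_mul_cancel, Units.val_one, one_mulVec]
      exact hl
    have := full_col_card hFull hfinvM hfinv l T (fun r hr => hsupp _ hmem r hr)
    omega
  -- dimensions
  have hz2 := finrank_Vm_zEl h2 hij hic hjc hε
  have hs2 : finrank F (Vm ((f * sEl a b * f⁻¹ : GL (Fin n) F) : Matrix (Fin n) (Fin n) F)) = 2 := by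
    rw [finrank_Vm_conj, finrank_Vm_sEl h2 hab]
  -- (ii) `Vm s₁ ⊓ Vm z' ≠ ⊥`
  have hne1 : Vm ((f * sEl a b * f⁻¹ : GL (Fin n) F) : Matrix (Fin n) (Fin n) F) ⊓
      Vm (z' : Matrix (Fin n) (Fin n) F) ≠ ⊥ := by
    intro hbot
    have hle' : Vm (z' : Matrix (Fin n) (Fin n) F) ≤
        Vm ((zEl i j c ε : GL (Fin n) F) : Matrix (Fin n) (Fin n) F) := by
      intro v hv
      obtain ⟨x, hx, y, hy, hxy⟩ := Vm_split h2 hA hAB hAC hle hv
      rw [hbot, Submodule.mem_bot] at hy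
      rw [hxy, hy, add_zero]
      exact hx.1
    have heq := Submodule.eq_of_le_of_finrank_le hle' (by rw [hd, hz2])
    apply hpure c
    rw [heq, mem_Vm_zEl h2 hij hic hjc hε]
    refine ⟨?_, ?_⟩
    · rw [Pi.single_apply, if_neg hjc, Pi.single_apply, if_neg hic, mul_zero]
    · intro r _ _ hrc
      rw [Pi.single_apply, if_neg hrc]
  -- (iii) `Vm z ⊓ Vm z' ≠ ⊥`
  have hne2 : Vm ((zEl i j c ε : GL (Fin n) F) : Matrix (Fin n) (Fin n) F) ⊓
      Vm (z' : Matrix (Fin n) (Fin n) F) ≠ ⊥ := by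
    intro hbot
    have hle' : Vm (z' : Matrix (Fin n) (Fin n) F) ≤
        Vm ((f * sEl a b * f⁻¹ : GL (Fin n) F) : Matrix (Fin n) (Fin n) F) := by
      intro v hv
      obtain ⟨x, hx, y, hy, hxy⟩ := Vm_split h2 hA hAB hAC hle hv
      rw [hbot, Submodule.mem_bot] at hx
      rw [hxy, hx, zero_add]
      exact hy.1
    have heq := Submodule.eq_of_le_of_finrank_le hle' (by rw [hd, hs2])
    have hcol : (f : Matrix (Fin n) (Fin n) F) *ᵥ Pi.single a 1 ∈
        Vm (z' : Matrix (Fin n) (Fin n) F) := by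
      rw [heq, mem_Vm_conj, mulVec_mulVec, ← Units.val_mul, inv_mul_cancel, Units.val_one, one_mulVec,
        mem_Vm_sEl h2 hab]
      intro r hra _
      rw [Pi.single_apply, if_neg hra]
    obtain ⟨T, hT, hsupp, -⟩ := supp_bound h2 hz'mon hinv
    rw [hd] at hT
    have := full_col_card hFull hfM hf a T (fun r hr => hsupp _ hcol r hr)
    omega
  -- (v) the shape of `Vm z'`
  obtain ⟨l, l', m, m', κ, κ', hll', hmm', hlm, hlm', hl'm, hl'm', hκ, hκ', hchar⟩ :=
    vm_pure h2 hz'mon hinv hd hpure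
  obtain ⟨x₀, hx₀, hx₀ne⟩ := Submodule.exists_mem_ne_zero_of_ne_bot hne2
  obtain ⟨w, hw, hwne⟩ := Submodule.exists_mem_ne_zero_of_ne_bot hne1
  have hxz := (mem_Vm_zEl h2 hij hic hjc hε x₀).mp hx₀.1
  have hxz' := (hchar x₀).mp hx₀.2
  have hwz' := (hchar w).mp hw.2
  have hee : (ε : F) * (ε : F) = 1 := by
    rw [← Units.val_mul, monoApi_pm_one_sq hε, Units.val_one]
  have hεne : (ε : F) ≠ 0 := ε.ne_zero
  -- `x₀ i ≠ 0`
  have hxi : x₀ i ≠ 0 := by
    intro hi0
    have hj0 : x₀ j = 0 := by rw [hxz.1, hi0, mul_zero]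
    have hall : ∀ r, r ≠ c → x₀ r = 0 := by
      intro r hrc
      by_cases hri : r = i
      · rw [hri]; exact hi0
      · by_cases hrj : r = j
        · rw [hrj]; exact hj0
        · exact hxz.2 r hri hrj hrc
    apply hx₀ne
    ext r
    rw [Pi.zero_apply]
    by_cases hrc : r = c
    · subst hrc
      by_cases h1 : r = l
      · have : x₀ l' = 0 := hall l' (fun h => hll' (h1.symm.trans h.symm))
        rw [hxz'.1] at this
        rw [h1]
        exact (mul_eq_zero.mp this).resolve_left hκ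
      · by_cases h2' : r = l'
        · have : x₀ l = 0 := hall l (fun h => hll' (h.trans h2'))
          rw [h2', hxz'.1, this, mul_zero]
        · by_cases h3 : r = m
          · have : x₀ m' = 0 := hall m' (fun h => hmm' (h3.symm.trans h.symm))
            rw [hxz'.2.1] at this
            rw [h3]
            exact (mul_eq_zero.mp this).resolve_left hκ'
          · by_cases h4 : r = m'
            · have : x₀ m = 0 := hall m (fun h => hmm' (h.trans h4))
              rw [h4, hxz'.2.1, this, mul_zero]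
            · exact hxz'.2.2 r h1 h2' h3 h4
    · exact hall r hrc
  have hxj : x₀ j ≠ 0 := by
    rw [hxz.1]
    exact mul_ne_zero (neg_ne_zero.mpr hεne) hxi
  -- linking
  have hL1 : x₀ l ≠ 0 → x₀ l' ≠ 0 := fun h => by rw [hxz'.1]; exact mul_ne_zero hκ h
  have hL2 : x₀ l' ≠ 0 → x₀ l ≠ 0 := fun h h0 => h (by rw [hxz'.1, h0, mul_zero])
  have hL3 : x₀ m ≠ 0 → x₀ m' ≠ 0 := fun h => by rw [hxz'.2.1]; exact mul_ne_zero hκ' h
  have hL4 : x₀ m' ≠ 0 → x₀ m ≠ 0 := fun h h0 => h (by rw [hxz'.2.1, h0, mul_zero])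
  have hCx := hxz'.2.2
  -- the relation `v j = -ε v i` on `Vm z'`
  have hrel : w j = -(ε : F) * w i := by
    by_cases h1 : i = l
    · have hj : j = l' := pair_aux hxz.2 hxi hxj hij hjc hll' hlm hlm' hl'm hl'm' hmm' hL1 hL3 hL4
        hCx h1
      have hk : κ = -(ε : F) := by
        have e1 := hxz'.1
        rw [← hj, ← h1, hxz.1] at e1
        exact (mul_right_cancel₀ hxi e1).symm
      rw [hj, h1, hwz'.1, hk]
    · by_cases h2' : i = l'
      · have hj : j = l := pair_aux hxz.2 hxi hxj hij hjc (Ne.symm hll') hl'm hl'm' hlm hlm' hmm' hL2 hL3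
          hL4 (fun r a1 a2 a3 a4 => hCx r a2 a1 a3 a4) h2'
        have hk : κ * (-(ε : F)) = 1 := by
          have e1 := hxz'.1
          rw [← hj, ← h2', hxz.1] at e1
          have : (1 : F) * x₀ i = κ * (-(ε : F)) * x₀ i := by linear_combination e1
          exact (mul_right_cancel₀ hxi this).symm
        have e2 := hwz'.1
        rw [← hj, ← h2'] at e2
        rw [e2]
        have : -(ε : F) * (κ * w j) = (κ * (-(ε : F))) * w j := by ring
        rw [this, hk, one_mul]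
      · by_cases h3 : i = m
        · have hj : j = m' := pair_aux hxz.2 hxi hxj hij hjc hmm' (Ne.symm hlm) (Ne.symm hl'm)
            (Ne.symm hlm') (Ne.symm hl'm') hll' hL3 hL1 hL2
            (fun r a1 a2 a3 a4 => hCx r a3 a4 a1 a2) h3
          have hk : κ' = -(ε : F) := by
            have e1 := hxz'.2.1
            rw [← hj, ← h3, hxz.1] at e1
            exact (mul_right_cancel₀ hxi e1).symm
          rw [hj, h3, hwz'.2.1, hk]
        · by_cases h4 : i = m'
          · have hj : j = m := pair_aux hxz.2 hxi hxj hij hjc (Ne.symm hmm') (Ne.symm hlm')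
              (Ne.symm hl'm') (Ne.symm hlm) (Ne.symm hl'm) hll' hL4 hL1 hL2
              (fun r a1 a2 a3 a4 => hCx r a3 a4 a2 a1) h4
            have hk : κ' * (-(ε : F)) = 1 := by
              have e1 := hxz'.2.1
              rw [← hj, ← h4, hxz.1] at e1
              have : (1 : F) * x₀ i = κ' * (-(ε : F)) * x₀ i := by linear_combination e1
              exact (mul_right_cancel₀ hxi this).symm
            have e2 := hwz'.2.1
            rw [← hj, ← h4] at e2
            rw [e2]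
            have : -(ε : F) * (κ' * w j) = (κ' * (-(ε : F))) * w j := by ring
            rw [this, hk, one_mul]
          · exact absurd (hCx i h1 h2' h3 h4) hxi
  refine ⟨w, hwne, hw.1, ?_, hrel⟩
  have hsub : supp w ⊆ {l, l', m, m'} := by
    intro r hr
    rw [mem_supp] at hr
    by_contra hnot
    simp only [Finset.mem_insert, Finset.mem_singleton, not_or] at hnot
    exact hr (hwz'.2.2 r hnot.1 hnot.2.1 hnot.2.2.1 hnot.2.2.2)
  exact le_trans (Finset.card_le_card hsub) Finset.card_le_four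

end Cfsg.Agent.Lib.Helper70.UMon
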