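/-
helper70, project UMON (S5655). MODULE UMON-[ODD-SHAPE4].
PROVED by helper37 (statement unchanged).
Sheet: Cfsg/Agent/Lib/Helper70/UMon/UMON_SHEET.md

Odd-`q` TI-killer: the `(-1)`-eigenspace of `z'` is not 4-dimensional.

Proof.  `Vm z` and `Vm s₁` (`s₁ = f s f⁻¹`) have dimension 2 (`finrank_Vm_zEl`, `finrank_Vm_conj`, `finrank_Vm_sEl`), so
`Vm z ⊔ Vm s₁` has dimension `≤ 4`; if `finrank (Vm z') = 4` then `Vm z' = Vm z ⊔ Vm s₁ ∋ f e_a` (`e_a ∈ Vm s`, `mem_Vm_conj`).
By `supp_bound` the support of `f e_a` has at most 8 elements; but `f ∉ monGL`, so by `Full M` column `a` of `f` has at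
most one zero, i.e. at least `n - 1 ≥ 9` non-zero entries: contradiction.
-/
import Mathlib
import Cfsg.Agent.Lib.Helper70.UMon.Defs
import Cfsg.Agent.Lib.Helper70.UMon.MonoApi
import Cfsg.Agent.Lib.Helper70.UMon.MonoInv
import Cfsg.Agent.Lib.Helper70.UMon.OddDim

set_option autoImplicit false

namespace Cfsg.Agent.Lib.Helper70.UMon

open Matrix Module Cfsg.Agent.S0837 Cfsg.Agent.S0781 Cfsg.Agent.S2644 Cfsg.Agent.Lib.Helper37
open Cfsg.Agent.Lib.Helper13 (UX)
open Cfsg.Agent.Lib.Helper94.Mono (monGL mem_monGL slGL mem_slGL colMono diagUnit dg dg2)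
open Cfsg.Agent.Lib.Helper94.SUSub (MemM)

variable {F : Type*} [Field F] {n : ℕ}

theorem shape_four (h2 : (2 : F) ≠ 0) (hn : 10 ≤ n) {M : Subgroup (GL (Fin n) F)} (hFull : Full M)
    {f : GL (Fin n) F} (hfM : f ∈ M) (hf : f ∉ monGL (Fin n) F) {a b : Fin n} (hab : a ≠ b)
    {i j c : Fin n} (hij : i ≠ j) (hic : i ≠ c) (hjc : j ≠ c) {ε : Fˣ} (hε : ε = 1 ∨ ε = -1)
    {z' : GL (Fin n) F} (hz'mon : z' ∈ monGL (Fin n) F) (hinv : z' * z' = 1)
    (hle : Vm (z' : Matrix (Fin n) (Fin n) F) ≤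
        Vm ((zEl i j c ε : GL (Fin n) F) : Matrix (Fin n) (Fin n) F) ⊔
          Vm ((f * sEl a b * f⁻¹ : GL (Fin n) F) : Matrix (Fin n) (Fin n) F)) :
    finrank F (Vm (z' : Matrix (Fin n) (Fin n) F)) ≠ 4 := by
  classical
  intro h4
  have hz2 := finrank_Vm_zEl h2 hij hic hjc hε
  have hs2 : finrank F (Vm ((f * sEl a b * f⁻¹ : GL (Fin n) F) : Matrix (Fin n) (Fin n) F)) = 2 := by
    rw [finrank_Vm_conj, finrank_Vm_sEl h2 hab]
  have hsup : finrank F ↥(Vm ((zEl i j c ε : GL (Fin n) F) : Matrix (Fin n) (Fin n) F) ⊔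
      Vm ((f * sEl a b * f⁻¹ : GL (Fin n) F) : Matrix (Fin n) (Fin n) F)) ≤ 4 := by
    have := Submodule.finrank_add_le_finrank_add_finrank
      (Vm ((zEl i j c ε : GL (Fin n) F) : Matrix (Fin n) (Fin n) F))
      (Vm ((f * sEl a b * f⁻¹ : GL (Fin n) F) : Matrix (Fin n) (Fin n) F))
    omega
  have heq := Submodule.eq_of_le_of_finrank_le hle (by rw [h4]; exact hsup)
  -- the column `f e_a` lies in `Vm z'`
  have hcol : (f : Matrix (Fin n) (Fin n) F) *ᵥ Pi.single a 1 ∈ Vm (z' : Matrix (Fin n) (Fin n) F) := by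
    rw [heq]
    apply Submodule.mem_sup_right
    rw [mem_Vm_conj, mulVec_mulVec, ← Units.val_mul, inv_mul_cancel, Units.val_one, one_mulVec,
      mem_Vm_sEl h2 hab]
    intro r hra _
    rw [Pi.single_apply, if_neg hra]
  obtain ⟨T, hT, hsupp, -⟩ := supp_bound h2 hz'mon hinv
  rw [h4] at hT
  have hentry : ∀ r, ((f : Matrix (Fin n) (Fin n) F) *ᵥ Pi.single a 1) r =
      (f : Matrix (Fin n) (Fin n) F) r a := by
    intro r
    simp [mulVec, dotProduct, Pi.single_apply]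
  -- at most one zero in column `a`
  have hzero : ((Finset.univ : Finset (Fin n)).filter
      fun r => (f : Matrix (Fin n) (Fin n) F) r a = 0).card ≤ 1 := by
    rw [Finset.card_le_one]
    intro r hr r' hr'
    rw [Finset.mem_filter] at hr hr'
    by_contra hne
    exact hFull f hfM hf a r r' hne hr.2 hr'.2
  have hsub : ((Finset.univ : Finset (Fin n)).filter
      fun r => ¬ (f : Matrix (Fin n) (Fin n) F) r a = 0) ⊆ T := by
    intro r hr
    rw [Finset.mem_filter] at hr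
    apply hsupp _ hcol r
    rw [hentry]
    exact hr.2
  have hcard := Finset.card_le_card hsub
  have hsplit := Finset.card_filter_add_card_filter_not (s := (Finset.univ : Finset (Fin n)))
    (fun r => (f : Matrix (Fin n) (Fin n) F) r a = 0)
  rw [Finset.card_univ, Fintype.card_fin] at hsplit
  omega

end Cfsg.Agent.Lib.Helper70.UMon
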