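/-
helper70, project UMON (S5655). MODULE UMON-[ODD-ZPRIME].
PROVED by helper37 (statement unchanged; helper lemmas sub_mem_Vm_of_invol, word_sub_mem, eq_sub_of_mem_Vm added).
Sheet: Cfsg/Agent/Lib/Helper70/UMon/UMON_SHEET.md

Odd-`q` TI-killer: the central involution of a dihedral group.  `Full M`, `N ≤ M ≤ SU_n`, `f ∈ M`,
`s₁ := f s f⁻¹` (`s = sEl a b`), `z = zEl i j c ε ∈ N`.  Then there is an involution `z' ∈ M`, `z' ≠ 1`, commuting with `z`
and `s₁`, monomial, with `f⁻¹ z' f` monomial, and `Vm z' ≤ Vm z ⊔ Vm s₁`.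

Proof.  `z, s₁ ∈ M` are involutions (`zEl_mul_self`, `sEl_mul_self`, `zEl_mem_NU`, `sEl_mem_NU`).  Apply helper94's
`Cfsg.Agent.Lib.Helper94.SUSub.dihedral_trick` in `G = GL (Fin n) F` (finite) with `x = z`, `y = s₁`.  First alternative:
`h z h⁻¹ = f s f⁻¹` with `h ∈ M`; then `(f⁻¹ h) z (f⁻¹ h)⁻¹ = s`, contradicting `not_conj_zEl_sEl`.  Second alternative:
`z' = (z s₁)^k ∈ M`, `z' ≠ 1`, `z' z' = 1`, commuting with `z` and `s₁`.  `z' ∈ monGL` by `cent_zEl`; `f⁻¹ z' f ∈ M` commutes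
with `s`, so it is monomial by `cent_sEl`.  Finally, for an involution `t` (characteristic `≠ 2`) `Vm t = range (t - 1)`
(`t (t w - w) = -(t w - w)`; `v ∈ Vm t → v = (t - 1)(-v/2)`), and for any word `W` in `z, s₁`:
`range (W - 1) ⊆ range (z - 1) + range (s₁ - 1)` by `A B - 1 = (A - 1) B + (B - 1)` (induction on `k` for `(z s₁)^k`).
-/
import Mathlib
import Cfsg.Agent.Lib.Helper70.UMon.Defs
import Cfsg.Agent.Lib.Helper70.UMon.MonoApi
import Cfsg.Agent.Lib.Helper70.UMon.OddCent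
import Cfsg.Agent.Lib.Helper94.SUSub8

set_option autoImplicit false

namespace Cfsg.Agent.Lib.Helper70.UMon

open Matrix Module Cfsg.Agent.S0837 Cfsg.Agent.S0781 Cfsg.Agent.S2644 Cfsg.Agent.Lib.Helper37
open Cfsg.Agent.Lib.Helper13 (UX)
open Cfsg.Agent.Lib.Helper94.Mono (monGL mem_monGL slGL mem_slGL colMono diagUnit dg dg2)
open Cfsg.Agent.Lib.Helper94.SUSub (MemM)

variable {F : Type*} [Field F] [Fintype F] {σ : F →+* F} {n : ℕ}

omit [Fintype F] in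
theorem sub_mem_Vm_of_invol {A : Matrix (Fin n) (Fin n) F} (hA : A * A = 1) (w : Fin n → F) :
    A *ᵥ w - w ∈ Vm A := by
  rw [mem_Vm, mulVec_sub, mulVec_mulVec, hA, one_mulVec, neg_sub]

omit [Fintype F] in
theorem word_sub_mem (A B : Matrix (Fin n) (Fin n) F) (S : Submodule F (Fin n → F))
    (hA : ∀ w, A *ᵥ w - w ∈ S) (hB : ∀ w, B *ᵥ w - w ∈ S) :
    ∀ (k : ℕ) (w : Fin n → F), ((A * B) ^ k) *ᵥ w - w ∈ S := by
  intro k
  induction k with
  | zero =>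
    intro w
    rw [pow_zero, one_mulVec, sub_self]
    exact S.zero_mem
  | succ k ih =>
    intro w
    have e : ((A * B) ^ (k + 1)) *ᵥ w - w =
        (((A * B) ^ k) *ᵥ ((A * B) *ᵥ w) - (A * B) *ᵥ w) +
          ((A *ᵥ (B *ᵥ w) - B *ᵥ w) + (B *ᵥ w - w)) := by
      rw [pow_succ, ← mulVec_mulVec, ← mulVec_mulVec w A B]
      abel
    rw [e]
    exact S.add_mem (ih _) (S.add_mem (hA _) (hB _))

omit [Fintype F] in
theorem eq_sub_of_mem_Vm (h2 : (2 : F) ≠ 0) {A : Matrix (Fin n) (Fin n) F} {v : Fin n → F}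
    (hv : v ∈ Vm A) : v = A *ᵥ ((-(2 : F)⁻¹) • v) - (-(2 : F)⁻¹) • v := by
  rw [mulVec_smul, mem_Vm.mp hv]
  ext r
  simp only [Pi.sub_apply, Pi.smul_apply, Pi.neg_apply, smul_eq_mul]
  field_simp
  ring

theorem exists_zprime (h2 : (2 : F) ≠ 0) (hn : 5 ≤ n) {M : Subgroup (GL (Fin n) F)} (hM : Over σ M)
    (hFull : Full M) {f : GL (Fin n) F} (hfM : f ∈ M) {a b : Fin n} (hab : a ≠ b) {i j c : Fin n}
    (hij : i ≠ j) (hic : i ≠ c) (hjc : j ≠ c) {ε : Fˣ} (hε : ε = 1 ∨ ε = -1) :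
    ∃ z' : GL (Fin n) F, z' ∈ M ∧ z' ≠ 1 ∧ z' * z' = 1 ∧ z' * zEl i j c ε = zEl i j c ε * z' ∧
      z' * (f * sEl a b * f⁻¹) = (f * sEl a b * f⁻¹) * z' ∧ z' ∈ monGL (Fin n) F ∧
      f⁻¹ * z' * f ∈ monGL (Fin n) F ∧
      Vm (z' : Matrix (Fin n) (Fin n) F) ≤
        Vm ((zEl i j c ε : GL (Fin n) F) : Matrix (Fin n) (Fin n) F) ⊔
          Vm ((f * sEl a b * f⁻¹ : GL (Fin n) F) : Matrix (Fin n) (Fin n) F) := by
  have hzM : (zEl i j c ε : GL (Fin n) F) ∈ M := hM.ge (zEl_mem_NU (σ := σ) hij hic hjc hε)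
  have hsM : (sEl a b : GL (Fin n) F) ∈ M := hM.ge (sEl_mem_NU (σ := σ) hab)
  have hs1M : f * sEl a b * f⁻¹ ∈ M := M.mul_mem (M.mul_mem hfM hsM) (M.inv_mem hfM)
  have hzz : (zEl i j c ε : GL (Fin n) F) * zEl i j c ε = 1 := zEl_mul_self hij hic hjc hε
  have hss : (sEl a b : GL (Fin n) F) * sEl a b = 1 := sEl_mul_self hab
  have hs1s1 : (f * sEl a b * f⁻¹) * (f * sEl a b * f⁻¹) = 1 := by
    calc (f * sEl a b * f⁻¹) * (f * sEl a b * f⁻¹) = f * (sEl a b * sEl a b) * f⁻¹ := by group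
      _ = 1 := by rw [hss]; group
  rcases Cfsg.Agent.Lib.Helper94.SUSub.dihedral_trick M hzM hs1M hzz hs1s1 with
    ⟨h, hhM, hconj⟩ | ⟨k, hkM, hk1, hkk, hkz, hks⟩
  · exfalso
    apply not_conj_zEl_sEl h2 hn hFull hab hij hic hjc hε
    refine ⟨f⁻¹ * h, M.mul_mem (M.inv_mem hfM) hhM, ?_⟩
    calc f⁻¹ * h * zEl i j c ε * (f⁻¹ * h)⁻¹ = f⁻¹ * (h * zEl i j c ε * h⁻¹) * f := by group
      _ = sEl a b := by rw [hconj]; group
  · set z' := (zEl i j c ε * (f * sEl a b * f⁻¹)) ^ k with hz'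
    refine ⟨z', hkM, hk1, hkk, hkz, hks, ?_, ?_, ?_⟩
    · exact cent_zEl h2 hn hFull hij hic hjc hε hkM hkz
    · have hmem : f⁻¹ * z' * f ∈ M := M.mul_mem (M.mul_mem (M.inv_mem hfM) hkM) hfM
      apply cent_sEl h2 (by omega) hFull hab hmem
      calc f⁻¹ * z' * f * sEl a b = f⁻¹ * (z' * (f * sEl a b * f⁻¹)) * f := by group
        _ = f⁻¹ * ((f * sEl a b * f⁻¹) * z') * f := by rw [hks]
        _ = sEl a b * (f⁻¹ * z' * f) := by group
    · intro v hv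
      rw [eq_sub_of_mem_Vm h2 hv]
      have hval : (z' : Matrix (Fin n) (Fin n) F) =
          (((zEl i j c ε : GL (Fin n) F) : Matrix (Fin n) (Fin n) F) *
            ((f * sEl a b * f⁻¹ : GL (Fin n) F) : Matrix (Fin n) (Fin n) F)) ^ k := by
        rw [hz', Units.val_pow_eq_pow_val, Units.val_mul]
      rw [hval]
      apply word_sub_mem
      · intro w
        apply Submodule.mem_sup_left
        apply sub_mem_Vm_of_invol
        rw [← Units.val_mul, hzz, Units.val_one]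
      · intro w
        apply Submodule.mem_sup_right
        apply sub_mem_Vm_of_invol
        rw [← Units.val_mul, hs1s1, Units.val_one]

end Cfsg.Agent.Lib.Helper70.UMon
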