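/-
helper70, project UMON (S5655).  Odd-`q` TI-killer: assembly.  `TIp M`, `Full M`, characteristic `≠ 2`, `n ≥ 13`
imply `M ≤ monGL`.
-/
import Mathlib
import Cfsg.Agent.Lib.Helper70.UMon.Defs
import Cfsg.Agent.Lib.Helper70.UMon.MonoApi
import Cfsg.Agent.Lib.Helper70.UMon.OddDim
import Cfsg.Agent.Lib.Helper70.UMon.OddZPrime
import Cfsg.Agent.Lib.Helper70.UMon.OddShape4
import Cfsg.Agent.Lib.Helper70.UMon.OddShape2
import Cfsg.Agent.Lib.Helper70.UMon.OddFin

set_option autoImplicit false

namespace Cfsg.Agent.Lib.Helper70.UMon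

open Matrix Module Cfsg.Agent.S0837 Cfsg.Agent.S0781 Cfsg.Agent.S2644 Cfsg.Agent.Lib.Helper37
open Cfsg.Agent.Lib.Helper13 (UX)
open Cfsg.Agent.Lib.Helper94.Mono (monGL mem_monGL slGL mem_slGL colMono diagUnit dg dg2)

variable {F : Type*} [Field F] [Fintype F] {σ : F →+* F} {n : ℕ}

/-- a full column has large support -/
theorem card_supp_of_full {M : Subgroup (GL (Fin n) F)} (hFull : Full M) {f : GL (Fin n) F}
    (hfM : f ∈ M) (hf : f ∉ monGL (Fin n) F) (a : Fin n) :
    n - 1 ≤ (supp ((f : Matrix (Fin n) (Fin n) F) *ᵥ Pi.single a 1)).card := by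
  classical
  set p := (f : Matrix (Fin n) (Fin n) F) *ᵥ Pi.single a 1 with hp
  have hpa : ∀ i, p i = (f : Matrix (Fin n) (Fin n) F) i a := by
    intro i
    rw [hp, mulVec_single_one]
    rfl
  -- the complement of the support has at most one element
  have hcompl : (Finset.univ \ supp p).card ≤ 1 := by
    rw [Finset.card_le_one]
    intro i hi i' hi'
    by_contra hne
    have hi0 : p i = 0 := by
      have := (Finset.mem_sdiff.mp hi).2
      rw [mem_supp] at this
      exact not_not.mp this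
    have hi'0 : p i' = 0 := by
      have := (Finset.mem_sdiff.mp hi').2
      rw [mem_supp] at this
      exact not_not.mp this
    rw [hpa] at hi0 hi'0
    exact hFull f hfM hf a i i' hne hi0 hi'0
  have h1 : (Finset.univ \ supp p).card = n - (supp p).card := by
    rw [Finset.card_sdiff_of_subset (Finset.subset_univ _), Finset.card_univ, Fintype.card_fin]
  omega

/-- **Odd `q`**: `TIp` and fullness are contradictory unless `M` is monomial. -/
theorem odd_main (h2 : (2 : F) ≠ 0) (hσ2 : ∀ a, σ (σ a) = a) (hn : 13 ≤ n)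
    {M : Subgroup (GL (Fin n) F)} (hM : Over σ M) (hFull : Full M) : M ≤ monGL (Fin n) F := by
  intro f hfM
  by_contra hf
  have hn0 : 0 < n := by omega
  let a : Fin n := ⟨0, by omega⟩
  let b : Fin n := ⟨1, by omega⟩
  have hab : a ≠ b := by
    intro h
    have := congrArg Fin.val h
    simp [a, b] at this
  have hMU : M ≤ UG σ n := fun g hg => ((mem_SUn σ).mp (hM.le hg)).1
  set s₁ : GL (Fin n) F := f * sEl a b * f⁻¹ with hs₁
  set P : Submodule F (Fin n → F) := Vm (s₁ : Matrix (Fin n) (Fin n) F) with hP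
  have hP2 : finrank F P = 2 := by
    rw [hP, hs₁, finrank_Vm_conj, finrank_Vm_sEl h2 hab]
  set p : Fin n → F := (f : Matrix (Fin n) (Fin n) F) *ᵥ Pi.single a 1 with hp
  have hpP : p ∈ P := by
    rw [hP, hs₁, mem_Vm_conj, hp, mulVec_mulVec, ← Units.val_mul, inv_mul_cancel, Units.val_one,
      one_mulVec, mem_Vm_sEl h2 hab]
    intro r hra _
    rw [Pi.single_apply, if_neg hra]
  have hpfull : 9 ≤ (supp p).card := by
    have := card_supp_of_full hFull hfM hf a
    rw [← hp] at this
    omega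
  apply odd_fin h2 (by omega) P hP2 p hpP hpfull
  intro i j hij ε hε
  -- a third index
  obtain ⟨c, hic, hjc⟩ : ∃ c : Fin n, i ≠ c ∧ j ≠ c := by
    by_contra hcon
    push Not at hcon
    have hsub : (Finset.univ : Finset (Fin n)) ⊆ {i, j} := by
      intro c _
      by_cases h : i = c
      · subst h; simp
      · have := hcon c h
        subst this; simp
    have := Finset.card_le_card hsub
    rw [Finset.card_univ, Fintype.card_fin] at this
    have h3 : ({i, j} : Finset (Fin n)).card ≤ 2 := Finset.card_le_two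
    omega
  obtain ⟨z', hz'M, hz'1, hinv, hcz, hcs, hz'mon, hz''mon, hle⟩ :=
    exists_zprime (σ := σ) h2 (by omega) hM hFull hfM hab hij hic hjc hε
  have hdet : (z' : Matrix (Fin n) (Fin n) F).det = 1 := ((mem_SUn σ).mp (hM.le hz'M)).2
  have heven := even_finrank_Vm h2 hinv hdet
  have hne : Vm (z' : Matrix (Fin n) (Fin n) F) ≠ ⊥ := Vm_ne_bot h2 hinv hz'1
  have hle4 : finrank F (Vm (z' : Matrix (Fin n) (Fin n) F)) ≤ 4 := by
    have h1 := Submodule.finrank_mono hle
    have h3 := Submodule.finrank_add_le_finrank_add_finrank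
      (Vm ((zEl i j c ε : GL (Fin n) F) : Matrix (Fin n) (Fin n) F))
      (Vm ((f * sEl a b * f⁻¹ : GL (Fin n) F) : Matrix (Fin n) (Fin n) F))
    rw [finrank_Vm_zEl h2 hij hic hjc hε, finrank_Vm_conj, finrank_Vm_sEl h2 hab] at h3
    omega
  have hpos : 0 < finrank F (Vm (z' : Matrix (Fin n) (Fin n) F)) := by
    rw [Module.finrank_pos_iff]
    exact (Submodule.nontrivial_iff_ne_bot).mpr hne
  have h4 := shape_four h2 (by omega) hFull hfM hf hab hij hic hjc hε hz'mon hinv hle
  have hd : finrank F (Vm (z' : Matrix (Fin n) (Fin n) F)) = 2 := by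
    obtain ⟨r, hr⟩ := heven
    omega
  obtain ⟨w, hw0, hwP, hwsupp, hwij⟩ := shape_two h2 hσ2 (by omega) hMU hFull hfM hf hab hij hic hjc hε
    hz'M hinv hcz hcs hz'mon hz''mon hle hd
  exact ⟨w, hw0, hwP, hwsupp, hwij⟩

end Cfsg.Agent.Lib.Helper70.UMon
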