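/-
helper70, project UMON (S5655).  THE TORUS THEOREM: an overgroup of the monomial group `N` in `SU_n(q)`, `n ≥ 13`,
is monomial or all of `SU_n(q)`.
-/
import Mathlib
import Cfsg.Agent.Lib.Helper70.UMon.Defs
import Cfsg.Agent.Lib.Helper70.UMon.Field
import Cfsg.Agent.Lib.Helper70.UMon.NonTI
import Cfsg.Agent.Lib.Helper70.UMon.FullQ4
import Cfsg.Agent.Lib.Helper70.UMon.FullQ3
import Cfsg.Agent.Lib.Helper70.UMon.OddAsm
import Cfsg.Agent.Lib.Helper70.UMon.EvenAsm
import Cfsg.Agent.Lib.Helper70.UMon.Q2Asm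

set_option autoImplicit false

namespace Cfsg.Agent.Lib.Helper70.UMon

open Matrix Module Cfsg.Agent.S0837 Cfsg.Agent.S0781 Cfsg.Agent.S2644 Cfsg.Agent.Lib.Helper37
open Cfsg.Agent.Lib.Helper94.Mono (monGL mem_monGL slGL mem_slGL colMono diagUnit dg dg2)

variable {F : Type*} [Field F] [Fintype F] {σ : F →+* F} {q n : ℕ}

/-- **Torus theorem**: `N ≤ M ≤ SU_n(q)`, `M` not monomial, `n ≥ 13`  ⟹  `M = SU_n(q)`. -/
theorem torus_max (hC : FCtx σ q) (hn : 13 ≤ n) {M : Subgroup (GL (Fin n) F)} (hM : Over σ M)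
    (hnm : ¬ M ≤ monGL (Fin n) F) : SUn σ n ≤ M := by
  have h2q := hC.two_le
  rcases Nat.lt_or_ge q 3 with hlt | hq
  · have hq2 : q = 2 := by omega
    subst hq2
    exact q2_main hC hn hM hnm
  · by_cases hTI : TIp M
    · exfalso
      apply hnm
      have hFull : Full M := by
        rcases Nat.lt_or_ge q 4 with hlt4 | hq4
        · have hq3 : q = 3 := by omega
          subst hq3
          exact full_of_TI_three hC (by omega) hM hTI
        · exact full_of_TI hC hq4 hM hTI
      by_cases h2 : (2 : F) = 0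
      · exact even_main hC h2 hq hn hM hTI hFull
      · exact odd_main h2 hC.invol hn hM hFull
    · exact nonTI_main hC hq hn hM hTI

end Cfsg.Agent.Lib.Helper70.UMon
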