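/-
helper70, project UMON (S5655).  The case `k = 1` of S5655: the stabiliser of a decomposition into non-degenerate
lines is maximal in `SU_n(q)`, `n ≥ 13`.
-/
import Mathlib
import Cfsg.Agent.Lib.Helper70.UMon.Defs
import Cfsg.Agent.Lib.Helper70.UMon.Torus
import Cfsg.Agent.Lib.Helper70.UMon.K1Frame
import Cfsg.Agent.Lib.Helper70.UMon.K1Proper
import Cfsg.Agent.Lib.Helper13.Herm
import Cfsg.Agent.Lib.Helper13.UnitMaxBridge
import Cfsg.Agent.Lib.Helper94.SympBridge

set_option autoImplicit false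

namespace Cfsg.Agent.Lib.Helper70.UMon

open Matrix Module Cfsg.Agent.S0837 Cfsg.Agent.S0781 Cfsg.Agent.S2644 Cfsg.Agent.Lib.Helper37
open Cfsg.Agent.Lib.Helper94.Mono (monGL mem_monGL slGL mem_slGL colMono diagUnit dg dg2)
open Cfsg.Agent.Lib.Helper94 (isMaximalIn_of_map map_inf_equiv)

variable {F : Type*} [Field F] [Fintype F] {σ : F →+* F} {q n : ℕ}

/-- the standard monomial group is maximal in `SU_n(q)` -/
theorem std_isMaximalIn (hC : FCtx σ q) (hn : 13 ≤ n) :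
    Cfsg.Geo.IsMaximalIn (SUn σ n) (monGL (Fin n) F ⊓ SUn σ n) := by
  constructor
  · apply lt_of_le_of_ne inf_le_right
    intro heq
    obtain ⟨g, hg, hgm⟩ := exists_not_mono hC (n := n) (by omega)
    rw [← heq] at hg
    exact hgm hg.1
  · intro M hHM hMK
    by_cases hle : M ≤ monGL (Fin n) F
    · left
      exact le_antisymm (le_inf hle hMK) hHM
    · right
      exact le_antisymm hMK (torus_max hC hn ⟨hMK, hHM⟩ hle)

/-- conjugation by a unitary matrix preserves `SU_n` -/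
theorem map_conj_SUn {P : GL (Fin n) F} (hP : P ∈ UG σ n) :
    (SUn σ n).map (MulAut.conj P⁻¹).toMonoidHom = SUn σ n := by
  ext y
  rw [Subgroup.mem_map_equiv, MulAut.conj_symm_apply, inv_inv, mem_SUn, mem_SUn]
  have hdet : ((P * y * P⁻¹ : GL (Fin n) F) : Matrix (Fin n) (Fin n) F).det =
      (y : Matrix (Fin n) (Fin n) F).det := by
    have h3 : Matrix.GeneralLinearGroup.det (P * y * P⁻¹) = Matrix.GeneralLinearGroup.det y := by
      rw [map_mul, map_mul, map_inv, mul_comm, ← mul_assoc, inv_mul_cancel, one_mul]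
    exact congrArg Units.val h3
  rw [hdet]
  constructor
  · rintro ⟨h, hd⟩
    refine ⟨?_, hd⟩
    have := (UG σ n).mul_mem ((UG σ n).mul_mem ((UG σ n).inv_mem hP) h) hP
    simpa [mul_assoc] using this
  · rintro ⟨h, hd⟩
    exact ⟨(UG σ n).mul_mem ((UG σ n).mul_mem hP h) ((UG σ n).inv_mem hP), hd⟩

/-- **S5655 for `k = 1`.** -/
theorem k1_isMaximalIn (n q : ℕ) (hF : Fintype.card F = q ^ 2) (hn : 13 ≤ n) {t : ℕ}
    (D : Fin t → Submodule F (Fin n → F))
    (hD : Cfsg.Geo.IsNondegenerateMDecomposition (Cfsg.hermForm n F q) 1 D) :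
    Cfsg.Geo.IsMaximalIn (Cfsg.GU n F q ⊓ Cfsg.Geo.specialLinear (Fin n) F)
      (Cfsg.Geo.decompositionStabilizer D ⊓
        (Cfsg.GU n F q ⊓ Cfsg.Geo.specialLinear (Fin n) F)) := by
  classical
  obtain ⟨σ, hσ, hσ2⟩ := Cfsg.Agent.Lib.Helper13.exists_frob hF
  have hC : FCtx σ q := ⟨hF, hσ⟩
  have e : Cfsg.hermForm n F q = hf σ := funext₂ (hermForm_eq_hf σ hσ)
  rw [e] at hD
  have hK : Cfsg.GU n F q ⊓ Cfsg.Geo.specialLinear (Fin n) F = SUn σ n := by
    ext g
    rw [Subgroup.mem_inf, Cfsg.Agent.Lib.Helper13.mem_GU_iff_mem_UG σ hσ, SUn, Subgroup.mem_inf]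
  rw [hK]
  obtain ⟨P, hP, hPD⟩ := k1_frame hC D hD
  apply isMaximalIn_of_map (MulAut.conj P⁻¹)
  have h2 : (Cfsg.Geo.decompositionStabilizer D).map (MulAut.conj P⁻¹).toMonoidHom =
      monGL (Fin n) F := by
    ext y
    rw [Subgroup.mem_map_equiv, MulAut.conj_symm_apply, inv_inv, hPD]
    have : P⁻¹ * (P * y * P⁻¹) * P = y := by group
    rw [this]
  rw [map_inf_equiv (MulAut.conj P⁻¹) (Cfsg.Geo.decompositionStabilizer D), map_conj_SUn hP, h2]
  exact std_isMaximalIn hC hn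

end Cfsg.Agent.Lib.Helper70.UMon
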