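/-
helper70, project UMON (S5655). MODULE UMON-[Q2-TRANS].
PROVED by helper37 (statements unchanged; helper lemmas on `F_4` added: `FCtx.two_eq_zero`, `FCtx.norm_one`, ...).
Sheet: Cfsg/Agent/Lib/Helper70/UMon/UMON_SHEET.md

The case `q = 2`: `N` is transitive on the vectors of a given weight `< n`, and on the full-weight vectors with a given
product of the coordinates.  (`UX σ M` is stable under `N ≤ M`: helper13's `ux_map`.)

Proof.  `q2_trans`: `supp v` and `supp v'` have the same cardinality `w < n`; choose a permutation `π` of `Fin n` mapping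
`supp v` onto `supp v'` (extend a bijection between the supports, e.g. `Equiv.Perm` from `Finset.equivOfCardEq` /
`Equiv.extendSubtype`).  Put `d k := v' (π k) / v k` for `k ∈ supp v`, `d k₀ := (∏ of the others)⁻¹` for one
`k₀ ∉ supp v` (exists as `w < n`), `d k = 1` otherwise.  All non-zero elements of `F_4` have norm `x σ x = x³ = 1`, the
sign of `π` is `1 = -1` in characteristic 2, so `g = mono π d ∈ NU σ n` (`mono_mem_NU`) and `g v = v'` (`mono_mulVec`).
`q2_trans_full`: `d k := v' k / v k`, `π = 1`, `∏ d = 1`.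
-/
import Mathlib
import Cfsg.Agent.Lib.Helper70.UMon.Defs
import Cfsg.Agent.Lib.Helper70.UMon.MonoApi
import Cfsg.Agent.Lib.Helper70.UMon.Field

set_option autoImplicit false

namespace Cfsg.Agent.Lib.Helper70.UMon

open Matrix Module Cfsg.Agent.S0837 Cfsg.Agent.S0781 Cfsg.Agent.S2644 Cfsg.Agent.Lib.Helper37
open Cfsg.Agent.Lib.Helper13 (UX)
open Cfsg.Agent.Lib.Helper94.Mono (monGL mem_monGL slGL mem_slGL colMono diagUnit dg dg2)
open Cfsg.Agent.Lib.Helper94.SUSub (MemM)

variable {F : Type*} [Field F] [Fintype F] {σ : F →+* F} {n : ℕ}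

/-- `2 = 0` in `F_4` -/
theorem FCtx.two_eq_zero (hC : FCtx σ 2) : (2 : F) = 0 := by
  have := q_cast_eq_zero hC
  exact_mod_cast this

/-- every non-zero element of `F_4` has norm one -/
theorem FCtx.norm_one (hC : FCtx σ 2) {x : F} (hx : x ≠ 0) : x * σ x = 1 := by
  rw [hC.frob]
  have h := FiniteField.pow_card_sub_one_eq_one x hx
  rw [hC.card] at h
  calc x * x ^ 2 = x ^ (2 ^ 2 - 1) := by ring
    _ = 1 := h

theorem FCtx.sign_cast (hC : FCtx σ 2) (π : Equiv.Perm (Fin n)) :
    (((Equiv.Perm.sign π : ℤˣ) : ℤ) : F) = 1 := by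
  rcases Int.units_eq_one_or (Equiv.Perm.sign π) with h | h
  · rw [h]; simp
  · rw [h]
    have h2 := hC.two_eq_zero
    have : ((((-1 : ℤˣ) : ℤˣ) : ℤ) : F) = -1 := by simp
    rw [this]
    linear_combination -h2

/-- a monomial matrix with unit entries and product of the entries one is in `N` (over `F_4`) -/
theorem FCtx.mono_mem_NU (hC : FCtx σ 2) (π : Equiv.Perm (Fin n)) (d : Fin n → Fˣ)
    (hprod : ∏ k, d k = 1) : (mono π d : GL (Fin n) F) ∈ NU σ n := by
  apply Cfsg.Agent.Lib.Helper70.UMon.mono_mem_NU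
  · intro k
    exact hC.norm_one (d k).ne_zero
  · rw [hC.sign_cast, one_mul, ← Units.coe_prod, hprod, Units.val_one]

omit [Fintype F] in
theorem NU_le_UG : NU σ n ≤ UG σ n := by
  intro g hg
  exact (Subgroup.mem_inf.mp (Subgroup.mem_inf.mp hg).2).1

theorem q2_trans (hC : FCtx σ 2) {M : Subgroup (GL (Fin n) F)} (hM : Over σ M) {v v' : Fin n → F}
    (hv : v ∈ UX σ M) (hcard : (supp v').card = (supp v).card) (hlt : (supp v).card < n) :
    v' ∈ UX σ M := by
  classical
  have hc : Fintype.card {x // x ∈ supp v} = Fintype.card {x // x ∈ supp v'} := by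
    rw [Fintype.card_coe, Fintype.card_coe, hcard]
  let e : {x // x ∈ supp v} ≃ {x // x ∈ supp v'} := Fintype.equivOfCardEq hc
  let π : Equiv.Perm (Fin n) := e.extendSubtype
  have hπ1 : ∀ k, k ∈ supp v → π k ∈ supp v' := fun k hk => e.extendSubtype_mem k hk
  have hπ2 : ∀ k, k ∉ supp v → π k ∉ supp v' := fun k hk => e.extendSubtype_not_mem k hk
  obtain ⟨k₀, hk₀⟩ : ∃ k₀, k₀ ∉ supp v := by
    by_contra h
    push Not at h
    have : supp v = Finset.univ := Finset.eq_univ_iff_forall.mpr h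
    rw [this, Finset.card_univ, Fintype.card_fin] at hlt
    exact lt_irrefl _ hlt
  let d₀ : Fin n → Fˣ := fun k =>
    if h : v k ≠ 0 then
      Units.mk0 (v' (π k) / v k) (div_ne_zero (mem_supp.mp (hπ1 k (mem_supp.mpr h))) h)
    else 1
  have hd₀k₀ : d₀ k₀ = 1 := by
    have : ¬ v k₀ ≠ 0 := fun h => hk₀ (mem_supp.mpr h)
    simp only [d₀, dif_neg this]
  let d : Fin n → Fˣ := Function.update d₀ k₀ (∏ k, d₀ k)⁻¹
  have hprod : ∏ k, d k = 1 := by
    show ∏ k, Function.update d₀ k₀ (∏ k, d₀ k)⁻¹ k = 1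
    rw [Finset.prod_update_of_mem (Finset.mem_univ k₀)]
    have h1 : ∏ k, d₀ k = d₀ k₀ * ∏ x ∈ Finset.univ \ {k₀}, d₀ x :=
      Finset.prod_eq_mul_prod_sdiff_singleton_of_mem (Finset.mem_univ k₀) d₀
    rw [hd₀k₀, one_mul] at h1
    rw [← h1, inv_mul_cancel]
  have hgNU : (mono π d : GL (Fin n) F) ∈ NU σ n := hC.mono_mem_NU π d hprod
  have hgv : ((mono π d : GL (Fin n) F) : Matrix (Fin n) (Fin n) F) *ᵥ v = v' := by
    ext r
    rw [mono_mulVec]
    set k := π.symm r with hk
    have hr : r = π k := by rw [hk, Equiv.apply_symm_apply]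
    by_cases hvk : v k ≠ 0
    · have hkk₀ : k ≠ k₀ := fun h => hk₀ (h ▸ mem_supp.mpr hvk)
      have : d k = d₀ k := Function.update_of_ne hkk₀ _ _
      rw [this]
      simp only [d₀, dif_pos hvk, Units.val_mk0]
      rw [hr]
      field_simp
    · have hvk0 : v k = 0 := not_not.mp hvk
      rw [hvk0, mul_zero, hr]
      have := hπ2 k (fun h => hvk (mem_supp.mp h))
      rw [mem_supp, not_not] at this
      exact this.symm
  have := Cfsg.Agent.Lib.Helper13.ux_map σ (mono π d) (hM.ge hgNU) (NU_le_UG hgNU) hv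
  rw [hgv] at this
  exact this

theorem q2_trans_full (hC : FCtx σ 2) {M : Subgroup (GL (Fin n) F)} (hM : Over σ M)
    {v v' : Fin n → F} (hv : v ∈ UX σ M) (hfull : ∀ k, v k ≠ 0) (hfull' : ∀ k, v' k ≠ 0)
    (hprod : ∏ k, v' k = ∏ k, v k) : v' ∈ UX σ M := by
  classical
  let d : Fin n → Fˣ := fun k => Units.mk0 (v' k / v k) (div_ne_zero (hfull' k) (hfull k))
  have hprod' : ∏ k, d k = 1 := by
    apply Units.ext
    rw [Units.coe_prod, Units.val_one]
    simp only [d, Units.val_mk0]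
    rw [Finset.prod_div_distrib, hprod]
    exact div_self (Finset.prod_ne_zero_iff.mpr fun k _ => hfull k)
  have hgNU : (mono (1 : Equiv.Perm (Fin n)) d : GL (Fin n) F) ∈ NU σ n :=
    hC.mono_mem_NU 1 d hprod'
  have hgv : ((mono (1 : Equiv.Perm (Fin n)) d : GL (Fin n) F) : Matrix (Fin n) (Fin n) F) *ᵥ v = v' := by
    ext r
    rw [mono_mulVec]
    have h1 : (1 : Equiv.Perm (Fin n)).symm r = r := rfl
    rw [h1]
    simp only [d, Units.val_mk0]
    have := hfull r
    field_simp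
  have := Cfsg.Agent.Lib.Helper13.ux_map σ (mono 1 d) (hM.ge hgNU) (NU_le_UG hgNU) hv
  rw [hgv] at this
  exact this

end Cfsg.Agent.Lib.Helper70.UMon
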