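/-
helper70, project UMON (S5655). MODULE UMON-[Q2-START].
PROVED by helper37 (statements unchanged; the counting in `q2_start` is done by a pigeonhole on three non-zero
entries `k₁,k₂,k₃` of a column instead of the `m_ζ` count).
Sheet: Cfsg/Agent/Lib/Helper70/UMon/UMON_SHEET.md

The case `q = 2` (`F = F_4 = {0, 1, ω, ω²}`, `σ x = x²`, `N(x) = x³ = 1` for `x ≠ 0`, `μ = F_4ˣ`; a vector is isotropic iff
its weight `(supp v).card` is even; the only non-trivial transvection parameter is `c = 1`).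
* `q2_weight_two`: `l e_a + l' e_b = l • (e_a + (l'/l) e_b)`; `x1_pair`, `x1_smul` (`l σ l = l³ = 1`), `ux_of_x1_two`.
* `q2_start`: if `M ≰ monGL` there is `v ∈ UX σ M` of weight `≥ 4`.
  Take `f ∈ M` non-monomial, columns `f_a := f e_a` (odd weight, since `(f_a,f_a) = 1`).  For `a ≠ b`, `ζ ≠ 0`:
  `f_a + ζ f_b = f (e_a + ζ e_b) ∈ UX` (`q2_weight_two`, helper13's `ux_map`), of even weight `≥ 2` (non-zero).  Suppose all these
  weights are `2`.  Some column `f_a` has weight `≥ 3` (`f` not monomial, weights odd).  For `b ≠ a` let `A, B` be the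
  supports of `f_a, f_b`, `x = |A \ B|`, `y = |B \ A|`, and for `ζ ∈ {1, ω, ω²}` let `m_ζ = #{k ∈ A ∩ B | f_a k = ζ f_b k}`
  (`Σ m_ζ = |A ∩ B|`).  The weight of `f_a + ζ f_b` is `x + y + |A ∩ B| - m_ζ = 2` for the three `ζ`, so
  `m_1 = m_ω = m_ω² =: m₀` and `x + y + 2 m₀ = 2`, while `|A| = x + 3 m₀ ≥ 3`: hence `m₀ = 1`, `x = y = 0`, `A = B`, `|A| = 3`.
  So all `n ≥ 4` columns of `f` are supported on the same 3 coordinates: they are linearly dependent, contradiction.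
-/
import Mathlib
import Cfsg.Agent.Lib.Helper70.UMon.Defs
import Cfsg.Agent.Lib.Helper70.UMon.X1Api
import Cfsg.Agent.Lib.Helper70.UMon.MonoApi
import Cfsg.Agent.Lib.Helper70.UMon.Q2Trans

set_option autoImplicit false

namespace Cfsg.Agent.Lib.Helper70.UMon

open Matrix Module Cfsg.Agent.S0837 Cfsg.Agent.S0781 Cfsg.Agent.S2644 Cfsg.Agent.Lib.Helper37
open Cfsg.Agent.Lib.Helper13 (UX)
open Cfsg.Agent.Lib.Helper94.Mono (monGL mem_monGL slGL mem_slGL colMono diagUnit dg dg2)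
open Cfsg.Agent.Lib.Helper94.SUSub (MemM)

variable {F : Type*} [Field F] [Fintype F] {σ : F →+* F} {n : ℕ}

/-- over `F_4`: `hf σ v v` is the weight of `v` -/
theorem hf_self_eq_card (hC : FCtx σ 2) (v : Fin n → F) : hf σ v v = ((supp v).card : F) := by
  classical
  unfold hf supp
  rw [Finset.card_filter, Nat.cast_sum]
  apply Finset.sum_congr rfl
  intro k _
  by_cases hk : v k = 0
  · simp [hk]
  · rw [hC.norm_one hk, if_pos hk, Nat.cast_one]

theorem FCtx.charP_two (hC : FCtx σ 2) : CharP F 2 :=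
  CharTwo.of_one_ne_zero_of_two_eq_zero one_ne_zero hC.two_eq_zero

/-- over `F_4` a vector is isotropic iff its weight is even: `hf σ v v = Σ_{k ∈ supp v} N(v k) = (supp v).card • 1`
and `2 = 0`, `1 ≠ 0`. -/
theorem q2_even (hC : FCtx σ 2) {v : Fin n → F} (hv : hf σ v v = 0) : Even (supp v).card := by
  have := hC.charP_two
  rw [hf_self_eq_card hC] at hv
  exact even_iff_two_dvd.mpr ((CharP.cast_eq_zero_iff F 2 _).mp hv)

theorem q2_weight_two (hC : FCtx σ 2) (hn : 3 ≤ n) {M : Subgroup (GL (Fin n) F)} (hM : Over σ M)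
    {a b : Fin n} (hab : a ≠ b) {l l' : F} (hl : l ≠ 0) (hl' : l' ≠ 0) :
    (l • Pi.single a 1 + l' • Pi.single b 1 : Fin n → F) ∈ UX σ M := by
  have h2 := hC.two_eq_zero
  have hσ2 := hC.invol
  have h1 : (Pi.single a 1 + (l' / l) • Pi.single b 1 : Fin n → F) ∈ X1 σ M :=
    x1_pair h2 hσ2 hn hM hab (hC.norm_one (div_ne_zero hl' hl))
  have h3 := x1_smul hσ2 h1 (hC.norm_one hl)
  have e : l • (Pi.single a 1 + (l' / l) • Pi.single b 1 : Fin n → F) =
      l • Pi.single a 1 + l' • Pi.single b 1 := by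
    rw [smul_add, smul_smul]
    congr 2
    field_simp
  rw [e] at h3
  exact ux_of_x1_two hC h3

omit [Fintype F] in
/-- all columns monomial implies monomial -/
theorem mem_monGL_of_cols {g : GL (Fin n) F}
    (h : ∀ j, ∃ i, ∀ i', i' ≠ i → (g : Matrix (Fin n) (Fin n) F) i' j = 0) : g ∈ monGL (Fin n) F := by
  classical
  choose ρ hρ using h
  have hdet : (g : Matrix (Fin n) (Fin n) F).det ≠ 0 := by
    have : IsUnit (g : Matrix (Fin n) (Fin n) F).det :=
      (Matrix.isUnit_iff_isUnit_det _).mp ⟨g, rfl⟩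
    exact this.ne_zero
  have hsurj : Function.Surjective ρ := by
    intro i
    by_contra hno
    push Not at hno
    apply hdet
    apply Matrix.det_eq_zero_of_row_eq_zero i
    intro j
    exact hρ j i (fun h => hno j h.symm)
  have hbij : Function.Bijective ρ := ⟨Finite.injective_iff_surjective.mpr hsurj, hsurj⟩
  rw [mem_monGL]
  exact ⟨Equiv.ofBijective ρ hbij, fun i j hij => hρ j i hij⟩

omit [Fintype F] in
/-- pigeonhole on a support of size at most two -/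
theorem supp_two_pigeon {w : Fin n → F} (hw : (supp w).card ≤ 2) {r k k' : Fin n} (hrk : r ≠ k)
    (hrk' : r ≠ k') (hkk' : k ≠ k') (hr : w r ≠ 0) : w k = 0 ∨ w k' = 0 := by
  classical
  by_contra hno
  push Not at hno
  have hsub : ({r, k, k'} : Finset (Fin n)) ⊆ supp w := by
    intro t ht
    simp only [Finset.mem_insert, Finset.mem_singleton] at ht
    rw [mem_supp]
    rcases ht with rfl | rfl | rfl
    · exact hr
    · exact hno.1
    · exact hno.2
  have h3 : ({r, k, k'} : Finset (Fin n)).card = 3 := by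
    rw [Finset.card_insert_of_notMem, Finset.card_insert_of_notMem, Finset.card_singleton]
    · simpa using hkk'
    · simp [hrk, hrk']
  have := Finset.card_le_card hsub
  omega

omit [Fintype F] in
/-- two different scalars cannot both kill a position where one of the two vectors is non-zero -/
theorem not_both_kill {x y : Fin n → F} {t : Fin n} (ht : x t ≠ 0 ∨ y t ≠ 0) {ζ ζ' : F}
    (hζ : ζ ≠ ζ') : ¬ ((x + ζ • y) t = 0 ∧ (x + ζ' • y) t = 0) := by
  rintro ⟨h1, h2⟩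
  simp only [Pi.add_apply, Pi.smul_apply, smul_eq_mul] at h1 h2
  have h3 : (ζ - ζ') * y t = 0 := by linear_combination h1 - h2
  have hy : y t = 0 := (mul_eq_zero.mp h3).resolve_left (sub_ne_zero.mpr hζ)
  rw [hy, mul_zero, add_zero] at h1
  rcases ht with h | h
  · exact h h1
  · exact h hy

theorem prop_pigeon {Z1 Z2 Z3 Z1' Z2' Z3' : Prop} (a12 : Z1 ∨ Z2) (a13 : Z1 ∨ Z3) (a23 : Z2 ∨ Z3)
    (b12 : Z1' ∨ Z2') (b13 : Z1' ∨ Z3') (b23 : Z2' ∨ Z3') (n1 : ¬ (Z1 ∧ Z1')) (n2 : ¬ (Z2 ∧ Z2'))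
    (n3 : ¬ (Z3 ∧ Z3')) : False := by
  tauto

omit [Fintype F] in
/-- the core pigeonhole: two scalars not killing `r`, three positions where `x` is non-zero -/
theorem q2_core {x y : Fin n → F} {ζ ζ' : F} (hζ : ζ ≠ ζ')
    (hw : (supp (x + ζ • y)).card ≤ 2) (hw' : (supp (x + ζ' • y)).card ≤ 2)
    {k₁ k₂ k₃ r : Fin n} (h12 : k₁ ≠ k₂) (h13 : k₁ ≠ k₃) (h23 : k₂ ≠ k₃)
    (hr1 : r ≠ k₁) (hr2 : r ≠ k₂) (hr3 : r ≠ k₃)
    (hx1 : x k₁ ≠ 0) (hx2 : x k₂ ≠ 0) (hx3 : x k₃ ≠ 0)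
    (hr : (x + ζ • y) r ≠ 0) (hr' : (x + ζ' • y) r ≠ 0) : False := by
  have a12 := supp_two_pigeon hw hr1 hr2 h12 hr
  have a13 := supp_two_pigeon hw hr1 hr3 h13 hr
  have a23 := supp_two_pigeon hw hr2 hr3 h23 hr
  have b12 := supp_two_pigeon hw' hr1 hr2 h12 hr'
  have b13 := supp_two_pigeon hw' hr1 hr3 h13 hr'
  have b23 := supp_two_pigeon hw' hr2 hr3 h23 hr'
  have n1 := not_both_kill (y := y) (Or.inl hx1) hζ
  have n2 := not_both_kill (y := y) (Or.inl hx2) hζ
  have n3 := not_both_kill (y := y) (Or.inl hx3) hζ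
  exact prop_pigeon a12 a13 a23 b12 b13 b23 n1 n2 n3

/-- three distinct non-zero elements of `F_4` -/
theorem FCtx.exists_three (hC : FCtx σ 2) :
    ∃ ζ₁ ζ₂ ζ₃ : F, ζ₁ ≠ 0 ∧ ζ₂ ≠ 0 ∧ ζ₃ ≠ 0 ∧ ζ₁ ≠ ζ₂ ∧ ζ₁ ≠ ζ₃ ∧ ζ₂ ≠ ζ₃ := by
  classical
  have h2 := hC.two_eq_zero
  have hcard : 2 < Fintype.card F := by rw [hC.card]; norm_num
  obtain ⟨ω, hω⟩ : ∃ ω : F, ω ∉ ({0, 1} : Finset F) := by
    by_contra hno
    push Not at hno
    have : (Finset.univ : Finset F) ⊆ {0, 1} := fun x _ => hno x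
    have := Finset.card_le_card this
    rw [Finset.card_univ] at this
    have h2' : ({0, 1} : Finset F).card ≤ 2 := Finset.card_le_two
    omega
  simp only [Finset.mem_insert, Finset.mem_singleton, not_or] at hω
  refine ⟨1, ω, ω + 1, one_ne_zero, hω.1, ?_, fun h => hω.2 h.symm, ?_, ?_⟩
  · intro h
    apply hω.2
    linear_combination h - h2
  · intro h
    apply hω.1
    linear_combination -h
  · intro h
    have : (1 : F) = 0 := by linear_combination -h
    exact one_ne_zero this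

theorem q2_start (hC : FCtx σ 2) (hn : 4 ≤ n) {M : Subgroup (GL (Fin n) F)} (hM : Over σ M)
    (hnm : ¬ M ≤ monGL (Fin n) F) : ∃ v ∈ UX σ M, 4 ≤ (supp v).card := by
  classical
  by_contra hno
  push Not at hno
  have := hC.charP_two
  obtain ⟨f, hfM, hfm⟩ := SetLike.not_le_iff_exists.mp hnm
  have hfU : f ∈ UG σ n := (Subgroup.mem_inf.mp (hM.le hfM)).1
  -- weights of elements of `UX` are at most two
  have hle2 : ∀ v ∈ UX σ M, (supp v).card ≤ 2 := by
    intro v hv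
    have h1 := hno v hv
    obtain ⟨t, ht⟩ := q2_even hC hv.1
    omega
  -- the vectors `f e_a + ζ f e_b`
  have hW : ∀ a b : Fin n, a ≠ b → ∀ ζ : F, ζ ≠ 0 →
      (supp ((f : Matrix (Fin n) (Fin n) F) *ᵥ Pi.single a 1 +
        ζ • ((f : Matrix (Fin n) (Fin n) F) *ᵥ Pi.single b 1))).card ≤ 2 := by
    intro a b hab ζ hζ
    have h1 := q2_weight_two hC (by omega) hM hab (one_ne_zero (α := F)) hζ
    have h3 := Cfsg.Agent.Lib.Helper13.ux_map σ f hfM hfU h1
    rw [one_smul, mulVec_add, mulVec_smul] at h3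
    exact hle2 _ h3
  have hentry : ∀ a r, ((f : Matrix (Fin n) (Fin n) F) *ᵥ Pi.single a 1) r =
      (f : Matrix (Fin n) (Fin n) F) r a := by
    intro a r
    simp [mulVec, dotProduct, Pi.single_apply]
  -- a column with at least three non-zero entries
  obtain ⟨a, ha⟩ : ∃ a, ¬ ∃ i, ∀ i', i' ≠ i → (f : Matrix (Fin n) (Fin n) F) i' a = 0 := by
    by_contra hall
    push Not at hall
    exact hfm (mem_monGL_of_cols hall)
  push Not at ha
  obtain ⟨k₁, -, hk₁⟩ := ha ⟨0, by omega⟩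
  obtain ⟨k₂, hk₂₁, hk₂⟩ := ha k₁
  have hodd : Odd (supp ((f : Matrix (Fin n) (Fin n) F) *ᵥ Pi.single a 1)).card := by
    have h1 : hf σ ((f : Matrix (Fin n) (Fin n) F) *ᵥ Pi.single a 1)
        ((f : Matrix (Fin n) (Fin n) F) *ᵥ Pi.single a 1) = 1 := by
      rw [(mem_UG σ f).mp hfU]
      simp [hf, Pi.single_apply]
    rw [hf_self_eq_card hC] at h1
    have h2 : (((supp ((f : Matrix (Fin n) (Fin n) F) *ᵥ Pi.single a 1)).card + 1 : ℕ) : F) = 0 := by
      push_cast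
      rw [h1]
      have := hC.two_eq_zero
      linear_combination this
    have h3 := (CharP.cast_eq_zero_iff F 2 _).mp h2
    obtain ⟨t, ht⟩ := h3
    exact ⟨t - 1, by omega⟩
  obtain ⟨k₃, hk₃⟩ : ∃ k₃, k₃ ≠ k₁ ∧ k₃ ≠ k₂ ∧ (f : Matrix (Fin n) (Fin n) F) k₃ a ≠ 0 := by
    by_contra hno3
    push Not at hno3
    have hsub : supp ((f : Matrix (Fin n) (Fin n) F) *ᵥ Pi.single a 1) ⊆ {k₁, k₂} := by
      intro t ht
      rw [mem_supp, hentry] at ht
      simp only [Finset.mem_insert, Finset.mem_singleton]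
      by_contra h
      push Not at h
      exact ht (hno3 t h.1 h.2)
    have hsup : ({k₁, k₂} : Finset (Fin n)) ⊆ supp ((f : Matrix (Fin n) (Fin n) F) *ᵥ Pi.single a 1) := by
      intro t ht
      simp only [Finset.mem_insert, Finset.mem_singleton] at ht
      rw [mem_supp, hentry]
      rcases ht with rfl | rfl
      · exact hk₁
      · exact hk₂
    have heq := Finset.Subset.antisymm hsub hsup
    rw [heq, Finset.card_pair (Ne.symm hk₂₁)] at hodd
    exact (by decide : ¬ Odd 2) hodd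
  obtain ⟨hk₃₁, hk₃₂, hk₃⟩ := hk₃
  -- a row outside `{k₁, k₂, k₃}`
  obtain ⟨r, hr⟩ : ∃ r : Fin n, r ∉ ({k₁, k₂, k₃} : Finset (Fin n)) := by
    by_contra hall
    push Not at hall
    have : (Finset.univ : Finset (Fin n)) ⊆ {k₁, k₂, k₃} := fun x _ => hall x
    have := Finset.card_le_card this
    rw [Finset.card_univ, Fintype.card_fin] at this
    have h3 : ({k₁, k₂, k₃} : Finset (Fin n)).card ≤ 3 := Finset.card_le_three
    omega
  simp only [Finset.mem_insert, Finset.mem_singleton, not_or] at hr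
  obtain ⟨hr1, hr2, hr3⟩ := hr
  obtain ⟨ζ₁, ζ₂, ζ₃, hz1, hz2, hz3, hz12, hz13, hz23⟩ := hC.exists_three
  -- for every other column `b`, both columns vanish in row `r`
  have hkey : ∀ b, b ≠ a → (f : Matrix (Fin n) (Fin n) F) r a = 0 ∧
      (f : Matrix (Fin n) (Fin n) F) r b = 0 := by
    intro b hba
    by_contra hne
    have hne' : ((f : Matrix (Fin n) (Fin n) F) *ᵥ Pi.single a 1) r ≠ 0 ∨
        ((f : Matrix (Fin n) (Fin n) F) *ᵥ Pi.single b 1) r ≠ 0 := by
      rw [hentry, hentry]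
      by_contra h
      push Not at h
      exact hne h
    have hx1 : ((f : Matrix (Fin n) (Fin n) F) *ᵥ Pi.single a 1) k₁ ≠ 0 := by rw [hentry]; exact hk₁
    have hx2 : ((f : Matrix (Fin n) (Fin n) F) *ᵥ Pi.single a 1) k₂ ≠ 0 := by rw [hentry]; exact hk₂
    have hx3 : ((f : Matrix (Fin n) (Fin n) F) *ᵥ Pi.single a 1) k₃ ≠ 0 := by rw [hentry]; exact hk₃
    have hab : a ≠ b := Ne.symm hba
    have n12 := not_both_kill hne' hz12
    have n13 := not_both_kill hne' hz13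
    have n23 := not_both_kill hne' hz23
    by_cases c1 : ((f : Matrix (Fin n) (Fin n) F) *ᵥ Pi.single a 1 +
        ζ₁ • ((f : Matrix (Fin n) (Fin n) F) *ᵥ Pi.single b 1)) r = 0
    · have c2 : ¬ _ := fun h => n12 ⟨c1, h⟩
      have c3 : ¬ _ := fun h => n13 ⟨c1, h⟩
      exact q2_core hz23 (hW a b hab ζ₂ hz2) (hW a b hab ζ₃ hz3) (Ne.symm hk₂₁) (Ne.symm hk₃₁)
        (Ne.symm hk₃₂) hr1 hr2 hr3 hx1 hx2 hx3 c2 c3
    · by_cases c2 : ((f : Matrix (Fin n) (Fin n) F) *ᵥ Pi.single a 1 +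
          ζ₂ • ((f : Matrix (Fin n) (Fin n) F) *ᵥ Pi.single b 1)) r = 0
      · have c3 : ¬ _ := fun h => n23 ⟨c2, h⟩
        exact q2_core hz13 (hW a b hab ζ₁ hz1) (hW a b hab ζ₃ hz3) (Ne.symm hk₂₁) (Ne.symm hk₃₁)
          (Ne.symm hk₃₂) hr1 hr2 hr3 hx1 hx2 hx3 c1 c3
      · exact q2_core hz12 (hW a b hab ζ₁ hz1) (hW a b hab ζ₂ hz2) (Ne.symm hk₂₁) (Ne.symm hk₃₁)
          (Ne.symm hk₃₂) hr1 hr2 hr3 hx1 hx2 hx3 c1 c2
  -- row `r` of `f` vanishes
  have hdet : (f : Matrix (Fin n) (Fin n) F).det ≠ 0 := by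
    have : IsUnit (f : Matrix (Fin n) (Fin n) F).det :=
      (Matrix.isUnit_iff_isUnit_det _).mp ⟨f, rfl⟩
    exact this.ne_zero
  apply hdet
  apply Matrix.det_eq_zero_of_row_eq_zero r
  intro b
  by_cases hba : b = a
  · obtain ⟨b', hb'⟩ : ∃ b' : Fin n, b' ≠ a := by
      by_cases h0 : (⟨0, by omega⟩ : Fin n) = a
      · exact ⟨⟨1, by omega⟩, fun h => by rw [← h0] at h; simp [Fin.ext_iff] at h⟩
      · exact ⟨_, h0⟩
    rw [hba]
    exact (hkey b' hb').1
  · exact (hkey b hba).2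

end Cfsg.Agent.Lib.Helper70.UMon
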