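/-
helper70, project UMON (S5655). MODULE UMON-[Q2-DOWN].
PROVED by helper37 (statement unchanged).
Sheet: Cfsg/Agent/Lib/Helper70/UMon/UMON_SHEET.md

The case `q = 2`: from a vector of `UX σ M` of weight `≥ 6` to one of weight exactly `4`.
Tools: helper13's `ux_tv` with `c = 1` (`x, y ∈ UX → x + hf σ x y • y ∈ UX`; `1 + σ 1 = 0`), `ux_map`, `q2_trans`.
`ω` denotes an element with `ω² + ω + 1 = 0` (any `x ≠ 0, 1`); weights of vectors of `UX` are even.
(a) FULL WEIGHT `w = n` (so `n` is even): `d := diag(ω, ω, ω, ω², ω², ω², 1, …)` (determinant `ω⁹ = 1`, an element of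
`NU σ n`: product of `dg2`'s); `hf σ (d v) v = Σ d_k N(v k) = 3 ω + 3 ω² + (n - 6) = ω + ω² = 1`; so
`d v + v = (d + 1) v ∈ UX` has weight exactly `6` (`ω + 1 = ω² ≠ 0`).  Continue with (b).
(b) `6 ≤ w < n`: by `q2_trans` the vector `x = Σ_{k ∈ S} e_k` (`S = supp v`) is in `UX`.  Pick `s₀, s₁, s₂ ∈ S` distinct and
`t₀ ∉ S`; `y := e_{t₀} + ω e_{s₁} + ω e_{s₂} + Σ_{k ∈ S \ {s₀,s₁,s₂}} e_k` has weight `w`, so `y ∈ UX` (`q2_trans`).
`hf σ y x = Σ_{k ∈ S \ {s₀}} y_k = (w - 3) + 2 ω = 1` (`w` even, characteristic 2).  `y + x ∈ UX` has the coordinates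
`1` at `s₀, t₀`, `ω + 1 ≠ 0` at `s₁, s₂` and `0` elsewhere: weight `4`.
-/
import Mathlib
import Cfsg.Agent.Lib.Helper70.UMon.Defs
import Cfsg.Agent.Lib.Helper70.UMon.MonoApi
import Cfsg.Agent.Lib.Helper70.UMon.Q2Trans
import Cfsg.Agent.Lib.Helper70.UMon.Q2Start

set_option autoImplicit false

namespace Cfsg.Agent.Lib.Helper70.UMon

open Matrix Module Cfsg.Agent.S0837 Cfsg.Agent.S0781 Cfsg.Agent.S2644 Cfsg.Agent.Lib.Helper37
open Cfsg.Agent.Lib.Helper13 (UX)
open Cfsg.Agent.Lib.Helper94.Mono (monGL mem_monGL slGL mem_slGL colMono diagUnit dg dg2)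
open Cfsg.Agent.Lib.Helper94.SUSub (MemM)

variable {F : Type*} [Field F] [Fintype F] {σ : F →+* F} {n : ℕ}

/-- a primitive cube root of unity in `F_4` -/
theorem FCtx.exists_omega (hC : FCtx σ 2) : ∃ ω : F, ω ≠ 0 ∧ ω ≠ 1 ∧ ω * ω + ω + 1 = 0 := by
  classical
  have hcard : 2 < Fintype.card F := by rw [hC.card]; norm_num
  obtain ⟨ω, hω⟩ : ∃ ω : F, ω ∉ ({0, 1} : Finset F) := by
    by_contra hno
    push Not at hno
    have : (Finset.univ : Finset F) ⊆ {0, 1} := fun x _ => hno x
    have := Finset.card_le_card this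
    rw [Finset.card_univ] at this
    have h2' : ({0, 1} : Finset F).card ≤ 2 := Finset.card_le_two
    omega
  simp only [Finset.mem_insert, Finset.mem_singleton, not_or] at hω
  refine ⟨ω, hω.1, hω.2, ?_⟩
  have h3 := hC.norm_one hω.1
  rw [hC.frob] at h3
  have h4 : (ω - 1) * (ω * ω + ω + 1) = 0 := by linear_combination h3
  exact (mul_eq_zero.mp h4).resolve_left (sub_ne_zero.mpr hω.2)

/-- (b): from a vector of weight `3 ≤ w < n` to a vector of weight four -/
theorem q2_down_lt (hC : FCtx σ 2) {M : Subgroup (GL (Fin n) F)} (hM : Over σ M)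
    {v : Fin n → F} (hv : v ∈ UX σ M) (h3 : 3 ≤ (supp v).card) (hlt : (supp v).card < n) :
    ∃ v' ∈ UX σ M, (supp v').card = 4 := by
  classical
  have h2 := hC.two_eq_zero
  have hMU : M ≤ UG σ n := fun g hg => (Subgroup.mem_inf.mp (hM.le hg)).1
  obtain ⟨ω, hω0, hω1, hω⟩ := hC.exists_omega
  have hω1' : ω + 1 ≠ 0 := by
    intro h
    apply hω1
    linear_combination h - h2
  obtain ⟨s₀, hs₀, s₁, hs₁, s₂, hs₂, h01, h02, h12⟩ := Finset.two_lt_card.mp (by omega : 2 < (supp v).card)
  obtain ⟨t₀, ht₀⟩ : ∃ t₀, t₀ ∉ supp v := by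
    by_contra h
    push Not at h
    have : supp v = Finset.univ := Finset.eq_univ_iff_forall.mpr h
    rw [this, Finset.card_univ, Fintype.card_fin] at hlt
    exact lt_irrefl _ hlt
  have ht0 : t₀ ≠ s₀ := fun h => ht₀ (h ▸ hs₀)
  have ht1 : t₀ ≠ s₁ := fun h => ht₀ (h ▸ hs₁)
  have ht2 : t₀ ≠ s₂ := fun h => ht₀ (h ▸ hs₂)
  -- the indicator vector of the support
  set x : Fin n → F := fun k => if k ∈ supp v then 1 else 0 with hx
  have hsx : supp x = supp v := by
    ext k
    rw [mem_supp]
    by_cases hk : k ∈ supp v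
    · simp [hx, hk]
    · simp [hx, hk]
  have hxU : x ∈ UX σ M := q2_trans hC hM hv (by rw [hsx]) hlt
  set z : Fin n → F := Pi.single s₀ 1 + Pi.single t₀ 1 + (ω + 1) • Pi.single s₁ 1 +
    (ω + 1) • Pi.single s₂ 1 with hz
  have hz_apply : ∀ k, z k = (if k = s₀ then 1 else 0) + (if k = t₀ then 1 else 0) +
      (ω + 1) * (if k = s₁ then 1 else 0) + (ω + 1) * (if k = s₂ then 1 else 0) := by
    intro k
    simp [hz, Pi.single_apply]
  have hz0 : z s₀ = 1 := by
    rw [hz_apply]; simp [h01, h02, Ne.symm ht0]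
  have hzt : z t₀ = 1 := by
    rw [hz_apply]; simp [ht0, ht1, ht2]
  have hz1 : z s₁ = ω + 1 := by
    rw [hz_apply]; simp [Ne.symm h01, h12, Ne.symm ht1]
  have hz2 : z s₂ = ω + 1 := by
    rw [hz_apply]; simp [Ne.symm h02, Ne.symm h12, Ne.symm ht2]
  have hzo : ∀ k, k ≠ s₀ → k ≠ t₀ → k ≠ s₁ → k ≠ s₂ → z k = 0 := by
    intro k a1 a2 a3 a4
    rw [hz_apply]; simp [a1, a2, a3, a4]
  -- `y = x + z` has the same weight as `v`
  have hsy : supp (x + z) = insert t₀ ((supp v).erase s₀) := by
    ext k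
    rw [mem_supp, Finset.mem_insert, Finset.mem_erase, Pi.add_apply]
    by_cases k0 : k = s₀
    · subst k0
      rw [hz0]
      simp only [hx, if_pos hs₀]
      constructor
      · intro h; exact absurd (by linear_combination h2) h
      · rintro (h | h)
        · exact absurd h.symm ht0
        · exact absurd rfl h.1
    · by_cases kt : k = t₀
      · subst kt
        rw [hzt]
        simp only [hx, if_neg ht₀, zero_add]
        exact ⟨fun _ => by simp, fun _ => one_ne_zero⟩
      · by_cases k1 : k = s₁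
        · subst k1
          rw [hz1]
          simp only [hx, if_pos hs₁]
          constructor
          · intro _; exact Or.inr ⟨k0, hs₁⟩
          · intro _ h
            apply hω0
            linear_combination h - h2
        · by_cases k2 : k = s₂
          · subst k2
            rw [hz2]
            simp only [hx, if_pos hs₂]
            constructor
            · intro _; exact Or.inr ⟨k0, hs₂⟩
            · intro _ h
              apply hω0
              linear_combination h - h2
          · rw [hzo k k0 kt k1 k2, add_zero]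
            by_cases hk : k ∈ supp v
            · simp [hx, hk, k0, kt]
            · simp [hx, hk, kt]
  have hcy : (supp (x + z)).card = (supp v).card := by
    rw [hsy, Finset.card_insert_of_notMem, Finset.card_erase_of_mem hs₀]
    · have : 0 < (supp v).card := by omega
      omega
    · intro h
      exact ht₀ (Finset.mem_of_mem_erase h)
  have hyU : x + z ∈ UX σ M := q2_trans hC hM hv hcy hlt
  -- `hf σ (x + z) x = 1`
  have hxs0 : x s₀ = 1 := by simp [hx, hs₀]
  have hxs1 : x s₁ = 1 := by simp [hx, hs₁]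
  have hxs2 : x s₂ = 1 := by simp [hx, hs₂]
  have hxt0 : x t₀ = 0 := by simp [hx, ht₀]
  have hhf : hf σ (x + z) x = 1 := by
    rw [hf_add_left, hxU.1, zero_add, hz, hf_add_left, hf_add_left, hf_add_left, hf_smul_left,
      hf_smul_left, hf_single_left, hf_single_left, hf_single_left, hf_single_left, hxs0, hxs1, hxs2,
      hxt0, map_one, map_zero]
    linear_combination (ω + 1) * h2
  have h1σ : (1 : F) + σ 1 = 0 := by rw [map_one]; linear_combination h2
  have hres := Cfsg.Agent.Lib.Helper13.ux_tv σ hMU hyU hxU 1 h1σ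
  rw [hhf, mul_one, one_smul] at hres
  have hzz : x + z + x = z := by
    ext k
    simp only [Pi.add_apply]
    linear_combination (x k) * h2
  rw [hzz] at hres
  refine ⟨z, hres, ?_⟩
  have hsz : supp z = {s₀, t₀, s₁, s₂} := by
    ext k
    rw [mem_supp]
    simp only [Finset.mem_insert, Finset.mem_singleton]
    by_cases k0 : k = s₀
    · subst k0; rw [hz0]; simp
    · by_cases kt : k = t₀
      · subst kt; rw [hzt]; simp
      · by_cases k1 : k = s₁
        · subst k1; rw [hz1]; simp [hω1']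
        · by_cases k2 : k = s₂
          · subst k2; rw [hz2]; simp [hω1']
          · rw [hzo k k0 kt k1 k2]; simp [k0, kt, k1, k2]
  rw [hsz, Finset.card_insert_of_notMem, Finset.card_insert_of_notMem, Finset.card_insert_of_notMem,
    Finset.card_singleton]
  · simpa using h12
  · simp [ht1, ht2]
  · simp [Ne.symm ht0, h01, h02]

/-- (a): from a vector of full weight to a vector of weight six -/
theorem q2_down_full (hC : FCtx σ 2) (hn : 6 ≤ n) {M : Subgroup (GL (Fin n) F)} (hM : Over σ M)
    {v : Fin n → F} (hv : v ∈ UX σ M) (hfull : ∀ k, v k ≠ 0) :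
    ∃ v' ∈ UX σ M, (supp v').card = 6 := by
  classical
  have h2 := hC.two_eq_zero
  have := hC.charP_two
  have hMU : M ≤ UG σ n := fun g hg => (Subgroup.mem_inf.mp (hM.le hg)).1
  obtain ⟨ω, hω0, hω1, hω⟩ := hC.exists_omega
  have hsv : supp v = Finset.univ := by
    ext k; simp [mem_supp, hfull k]
  have hneven : ((n : ℕ) : F) = 0 := by
    have he := q2_even hC hv.1
    rw [hsv, Finset.card_univ, Fintype.card_fin] at he
    exact (CharP.cast_eq_zero_iff F 2 n).mpr (even_iff_two_dvd.mp he)
  obtain ⟨T, -, hT⟩ := Finset.exists_subset_card_eq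
    (show 6 ≤ (Finset.univ : Finset (Fin n)).card by rw [Finset.card_univ, Fintype.card_fin]; exact hn)
  obtain ⟨S₁, hS₁T, hS₁⟩ := Finset.exists_subset_card_eq (show 3 ≤ T.card by omega)
  set S₂ := T \ S₁ with hS₂def
  have hS₂ : S₂.card = 3 := by
    rw [hS₂def, Finset.card_sdiff_of_subset hS₁T]; omega
  have hdisj : ∀ k, k ∈ S₁ → k ∉ S₂ := by
    intro k hk hk2
    exact (Finset.mem_sdiff.mp hk2).2 hk
  let ωu : Fˣ := Units.mk0 ω hω0
  have hωu3 : ωu ^ 3 = 1 := by
    apply Units.ext
    rw [Units.val_pow_eq_pow_val, Units.val_mk0, Units.val_one]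
    have h3 := hC.norm_one hω0
    rw [hC.frob] at h3
    linear_combination h3
  let d : Fin n → Fˣ := fun k => (if k ∈ S₁ then ωu else 1) * (if k ∈ S₂ then ωu ^ 2 else 1)
  have hprod : ∏ k, d k = 1 := by
    show ∏ k, ((if k ∈ S₁ then ωu else 1) * (if k ∈ S₂ then ωu ^ 2 else 1)) = 1
    rw [Finset.prod_mul_distrib, Finset.prod_ite_mem, Finset.prod_ite_mem, Finset.univ_inter,
      Finset.univ_inter, Finset.prod_const, Finset.prod_const, hS₁, hS₂, hωu3, one_mul, ← pow_mul]
    calc ωu ^ (2 * 3) = (ωu ^ 3) ^ 2 := by rw [← pow_mul]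
      _ = 1 := by rw [hωu3, one_pow]
  have hgNU : (mono (1 : Equiv.Perm (Fin n)) d : GL (Fin n) F) ∈ NU σ n := hC.mono_mem_NU 1 d hprod
  have hdval : ∀ k, ((d k : Fˣ) : F) = 1 + (if k ∈ S₁ then ω + 1 else 0) + (if k ∈ S₂ then ω * ω + 1 else 0) := by
    intro k
    by_cases hk1 : k ∈ S₁
    · have hk2 := hdisj k hk1
      simp only [d, if_pos hk1, if_neg hk2, mul_one, Units.val_mk0, ωu, add_zero]
      linear_combination -h2
    · by_cases hk2 : k ∈ S₂
      · simp only [d, if_neg hk1, if_pos hk2, one_mul, Units.val_pow_eq_pow_val, Units.val_mk0, ωu,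
          add_zero]
        linear_combination -h2
      · simp only [d, if_neg hk1, if_neg hk2, one_mul, Units.val_one, add_zero]
  have hgv : ∀ k, (((mono (1 : Equiv.Perm (Fin n)) d : GL (Fin n) F) : Matrix (Fin n) (Fin n) F) *ᵥ v) k =
      (d k : F) * v k := by
    intro k
    rw [mono_mulVec]
    rfl
  have hxU := Cfsg.Agent.Lib.Helper13.ux_map σ (mono 1 d) (hM.ge hgNU) (NU_le_UG hgNU) hv
  have hhf : hf σ (((mono (1 : Equiv.Perm (Fin n)) d : GL (Fin n) F) : Matrix (Fin n) (Fin n) F) *ᵥ v) v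
      = 1 := by
    unfold hf
    have e1 : ∀ k, (((mono (1 : Equiv.Perm (Fin n)) d : GL (Fin n) F) : Matrix (Fin n) (Fin n) F) *ᵥ v) k *
        σ (v k) = 1 + (if k ∈ S₁ then ω + 1 else 0) + (if k ∈ S₂ then ω * ω + 1 else 0) := by
      intro k
      rw [hgv, mul_assoc, hC.norm_one (hfull k), mul_one, hdval]
    rw [Finset.sum_congr rfl (fun k _ => e1 k), Finset.sum_add_distrib, Finset.sum_add_distrib,
      Finset.sum_ite_mem, Finset.sum_ite_mem, Finset.univ_inter, Finset.univ_inter, Finset.sum_const,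
      Finset.sum_const, Finset.sum_const, hS₁, hS₂, Finset.card_univ, Fintype.card_fin, nsmul_eq_mul,
      nsmul_eq_mul, nsmul_eq_mul, mul_one, hneven]
    push_cast
    linear_combination (ω * ω + ω + 2) * h2 + hω
  have h1σ : (1 : F) + σ 1 = 0 := by rw [map_one]; linear_combination h2
  have hres := Cfsg.Agent.Lib.Helper13.ux_tv σ hMU hxU hv 1 h1σ
  rw [hhf, mul_one, one_smul] at hres
  refine ⟨_, hres, ?_⟩
  have hsupp : supp ((((mono (1 : Equiv.Perm (Fin n)) d : GL (Fin n) F) : Matrix (Fin n) (Fin n) F) *ᵥ v)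
      + v) = T := by
    ext k
    rw [mem_supp, Pi.add_apply, hgv, hdval]
    have hvk := hfull k
    by_cases hk1 : k ∈ S₁
    · have hk2 := hdisj k hk1
      simp only [if_pos hk1, if_neg hk2, add_zero]
      constructor
      · intro _; exact hS₁T hk1
      · intro _ h
        have h' : (ω + 1) * v k = 0 := by linear_combination h - (v k) * h2
        rcases mul_eq_zero.mp h' with h'' | h''
        · apply hω1; linear_combination h'' - h2
        · exact hvk h''
    · by_cases hk2 : k ∈ S₂
      · simp only [if_neg hk1, if_pos hk2, add_zero]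
        constructor
        · intro _; exact (Finset.mem_sdiff.mp hk2).1
        · intro _ h
          have h' : ω * v k = 0 := by linear_combination (v k) * hω - h + (v k) * h2
          rcases mul_eq_zero.mp h' with h'' | h''
          · exact hω0 h''
          · exact hvk h''
      · simp only [if_neg hk1, if_neg hk2, add_zero]
        constructor
        · intro h; exact absurd (by linear_combination (v k) * h2) h
        · intro hkT
          exact absurd (Finset.mem_sdiff.mpr ⟨hkT, hk1⟩) hk2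
  rw [hsupp, hT]

theorem q2_down (hC : FCtx σ 2) (hn : 7 ≤ n) {M : Subgroup (GL (Fin n) F)} (hM : Over σ M)
    {v : Fin n → F} (hv : v ∈ UX σ M) (h6 : 6 ≤ (supp v).card) :
    ∃ v' ∈ UX σ M, (supp v').card = 4 := by
  classical
  by_cases hlt : (supp v).card < n
  · exact q2_down_lt hC hM hv (by omega) hlt
  · have hle : (supp v).card ≤ n := by
      have := Finset.card_le_univ (supp v)
      rwa [Fintype.card_fin] at this
    have heq : (supp v).card = n := by omega
    have hfull : ∀ k, v k ≠ 0 := by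
      intro k
      have : supp v = Finset.univ := by
        apply Finset.eq_univ_of_card
        rw [heq, Fintype.card_fin]
      rw [← mem_supp, this]
      exact Finset.mem_univ k
    obtain ⟨v', hv', hc'⟩ := q2_down_full hC (by omega) hM hv hfull
    exact q2_down_lt hC hM hv' (by omega) (by omega)

end Cfsg.Agent.Lib.Helper70.UMon
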