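/-
helper70, project UMON (S5655). MODULE UMON-[Q2-UP].
Proved by helper25 (hedge), statement unchanged.
Sheet: Cfsg/Agent/Lib/Helper70/UMon/UMON_SHEET.md

The case `q = 2`: if all vectors of weight 4 are in `UX σ M` then all isotropic (= even weight) vectors are.

Proof.  Induction on the (even) weight `w` of `v`.  `w = 0`: `v = 0` (`tvGL σ 0 c = 1`).  `w = 2`: `q2_weight_two`.
`w = 4`: hypothesis.  `w ≥ 6`: by induction all vectors of weight `w - 2` are in `UX`.  Let `S ⊆ Fin n` with `|S| = w - 2`,
`s₁, s₂ ∈ S`, `t₁, t₂ ∉ S` distinct (`w ≤ n`), `y := Σ_{k ∈ S} e_k ∈ UX`, and for `λ ≠ 0`: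
`x_λ := e_{s₁} + ω e_{s₂} + λ e_{t₁} + e_{t₂}` (weight 4, in `UX`).  `hf σ y x_λ = σ 1 + σ ω = 1 + ω² = ω`.  By helper13's
`ux_tv` (`c = 1`): `u_λ := y + ω • x_λ ∈ UX`, with coordinates `1` on `S \ {s₁,s₂}`, `1 + ω = ω²` at `s₁`, `1 + ω² = ω` at `s₂`,
`ω λ` at `t₁`, `ω` at `t₂`: weight `w`, product of the non-zero coordinates `ω² λ`.
If `w < n`: `q2_trans` from `u_1` (choose `S ∪ {t₁,t₂}` of the right size) to `v`.  If `w = n`: `S ∪ {t₁,t₂} = Fin n`, choose
`λ := (∏ v k) / ω²`, then `q2_trans_full` from `u_λ` to `v`.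
-/
import Mathlib
import Cfsg.Agent.Lib.Helper70.UMon.Defs
import Cfsg.Agent.Lib.Helper70.UMon.MonoApi
import Cfsg.Agent.Lib.Helper70.UMon.Q2Trans
import Cfsg.Agent.Lib.Helper70.UMon.Q2Start

set_option autoImplicit false

namespace Cfsg.Agent.Lib.Helper70.UMon

open Matrix Module Cfsg.Agent.S0837 Cfsg.Agent.S0781 Cfsg.Agent.S2644 Cfsg.Agent.Lib.Helper37
open Cfsg.Agent.Lib.Helper13 (UX)
open Cfsg.Agent.Lib.Helper94.Mono (monGL mem_monGL slGL mem_slGL colMono diagUnit dg dg2)
open Cfsg.Agent.Lib.Helper94.SUSub (MemM)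

variable {F : Type*} [Field F] [Fintype F] {σ : F →+* F} {n : ℕ}

theorem q2up_card (hC : FCtx σ 2) : Fintype.card F = 4 := by
  rw [hC.card]; norm_num

theorem q2up_two (hC : FCtx σ 2) : (2 : F) = 0 := by
  have h4 : (4 : F) = 0 := by
    have h := card_nsmul_eq_zero (G := F) (x := (1 : F))
    rw [q2up_card hC, nsmul_eq_mul, mul_one] at h
    exact_mod_cast h
  have : (2 : F) * 2 = 0 := by rw [← h4]; norm_num
  exact mul_self_eq_zero.mp this

theorem q2up_cube (hC : FCtx σ 2) {x : F} (hx : x ≠ 0) : x ^ 3 = 1 := by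
  have h := FiniteField.pow_card x
  rw [q2up_card hC] at h
  exact mul_left_cancel₀ hx (by linear_combination h)

theorem q2up_norm (hC : FCtx σ 2) {x : F} (hx : x ≠ 0) : x * σ x = 1 := by
  rw [hC.frob, ← pow_succ', q2up_cube hC hx]

theorem q2up_exists_omega (hC : FCtx σ 2) : ∃ ω : F, ω ≠ 0 ∧ ω ≠ 1 := by
  classical
  have hlt : ({0, 1} : Finset F).card < (Finset.univ : Finset F).card := by
    rw [Finset.card_univ, q2up_card hC]
    exact lt_of_le_of_lt (Finset.card_le_two) (by norm_num)
  obtain ⟨e, -, he⟩ := Finset.exists_mem_notMem_of_card_lt_card hlt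
  simp only [Finset.mem_insert, Finset.mem_singleton, not_or] at he
  exact ⟨e, he.1, he.2⟩

theorem q2up_hf_self (hC : FCtx σ 2) (v : Fin n → F) : hf σ v v = ((supp v).card : F) := by
  classical
  unfold hf
  have e : ∀ i, v i * σ (v i) = if v i ≠ 0 then (1 : F) else 0 := by
    intro i
    by_cases h : v i = 0
    · simp [h]
    · rw [if_pos h]; exact q2up_norm hC h
  rw [Finset.sum_congr rfl (fun i _ => e i), Finset.sum_boole]
  have hs : Finset.univ.filter (fun i => v i ≠ 0) = supp v := by
    ext i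
    simp [mem_supp]
  rw [hs]

theorem q2up_cast_even (hC : FCtx σ 2) {w : ℕ} (hw : Even w) : (w : F) = 0 := by
  obtain ⟨k, rfl⟩ := hw
  rw [Nat.cast_add, ← two_mul, q2up_two hC, zero_mul]

theorem q2up_even_of_iso (hC : FCtx σ 2) {v : Fin n → F} (hv : hf σ v v = 0) :
    Even (supp v).card := by
  by_contra hodd
  rw [Nat.not_even_iff_odd] at hodd
  obtain ⟨k, hk⟩ := hodd
  rw [q2up_hf_self hC, hk, Nat.cast_add, Nat.cast_one, Nat.cast_mul, Nat.cast_ofNat, q2up_two hC,
    zero_mul, zero_add] at hv
  exact one_ne_zero hv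

omit [Fintype F] in
theorem q2up_tv_zero (c : F) : tv σ (0 : Fin n → F) c = 1 := by
  apply Matrix.toLin'.injective
  apply LinearMap.ext
  intro x
  rw [Matrix.toLin'_apply, tv_mulVec, smul_zero, add_zero, Matrix.toLin'_one]
  rfl

omit [Fintype F] in
theorem q2up_zero_mem (M : Subgroup (GL (Fin n) F)) : (0 : Fin n → F) ∈ UX σ M := by
  refine ⟨hf_zero_left σ _, fun c _ => ?_⟩
  have : tvGL σ (0 : Fin n → F) c (hf_zero_left σ _) = 1 := Units.ext (q2up_tv_zero c)
  rw [this]
  exact M.one_mem

theorem q2_up (hC : FCtx σ 2) (hn : 6 ≤ n) {M : Subgroup (GL (Fin n) F)} (hM : Over σ M)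
    (h4 : ∀ v : Fin n → F, (supp v).card = 4 → v ∈ UX σ M) :
    ∀ v : Fin n → F, hf σ v v = 0 → v ∈ UX σ M := by
  classical
  have h2 : (2 : F) = 0 := q2up_two hC
  have hMU : M ≤ UG σ n := fun g hg => (Subgroup.mem_inf.mp (hM.le hg)).1
  obtain ⟨ω, hω0, hω1⟩ := q2up_exists_omega hC
  have hω3 : ω ^ 3 = 1 := q2up_cube hC hω0
  have hω : ω ^ 2 + ω + 1 = 0 := by
    have h : (ω - 1) * (ω ^ 2 + ω + 1) = 0 := by linear_combination hω3
    rcases mul_eq_zero.mp h with h | h
    · exact absurd (sub_eq_zero.mp h) hω1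
    · exact h
  have hsω : σ ω = ω ^ 2 := hC.frob ω
  have h1ω : (1 : F) + ω ≠ 0 := by
    intro h
    have : ω ^ 2 = 0 := by linear_combination hω - h
    exact hω0 ((pow_eq_zero_iff (two_ne_zero)).mp this)
  have h1ωω : (1 : F) + ω * ω ≠ 0 := by
    intro h
    have : ω = 0 := by linear_combination hω - h
    exact hω0 this
  have hκ : (1 : F) + ω ^ 2 = ω := by linear_combination hω - ω * h2
  suffices H : ∀ w, ∀ v : Fin n → F, hf σ v v = 0 → (supp v).card = w → v ∈ UX σ M from
    fun v hv => H _ v hv rfl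
  intro w
  induction w using Nat.strong_induction_on with
  | _ w ih =>
  intro v hv hw
  have hev : Even w := hw ▸ q2up_even_of_iso hC hv
  have hcases : w = 0 ∨ w = 2 ∨ w = 4 ∨ 6 ≤ w := by
    obtain ⟨k, hk⟩ := hev
    omega
  rcases hcases with rfl | rfl | rfl | h6
  · -- weight 0
    have hv0 : v = 0 := by
      funext i
      by_contra hi
      have : i ∈ supp v := mem_supp.mpr hi
      rw [Finset.card_eq_zero.mp hw] at this
      exact absurd this (Finset.notMem_empty _)
    rw [hv0]
    exact q2up_zero_mem M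
  · -- weight 2
    obtain ⟨a, b, hab, hs⟩ := Finset.card_eq_two.mp hw
    have ha : v a ≠ 0 := mem_supp.mp (by rw [hs]; simp)
    have hb : v b ≠ 0 := mem_supp.mp (by rw [hs]; simp)
    have hv' : v = v a • Pi.single a 1 + v b • Pi.single b 1 := by
      funext k
      simp only [Pi.add_apply, Pi.smul_apply, Pi.single_apply, smul_eq_mul]
      by_cases hka : k = a
      · subst hka; simp [hab]
      · by_cases hkb : k = b
        · subst hkb; simp [hka]
        · have : k ∉ supp v := by rw [hs]; simp [hka, hkb]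
          have hk0 : v k = 0 := by
            by_contra h; exact this (mem_supp.mpr h)
          simp [hka, hkb, hk0]
    rw [hv']
    exact q2_weight_two hC (by omega) hM hab ha hb
  · exact h4 v hw
  · -- weight ≥ 6
    obtain ⟨T, hT⟩ : ∃ T, T = supp v := ⟨_, rfl⟩
    have hTw : T.card = w := by rw [hT, hw]
    have hwn : w ≤ n := by
      have := Finset.card_le_univ T
      rw [Fintype.card_fin] at this
      omega
    obtain ⟨U, hUT, hU3⟩ := Finset.exists_subset_card_eq (show 3 ≤ T.card by omega)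
    obtain ⟨s₁, s₂, t₁, h12, h1t, h2t, rfl⟩ := Finset.card_eq_three.mp hU3
    obtain ⟨t₂, ht₂T, ht₂U⟩ := Finset.exists_mem_notMem_of_card_lt_card
      (show ({s₁, s₂, t₁} : Finset (Fin n)).card < T.card by omega)
    simp only [Finset.mem_insert, Finset.mem_singleton, not_or] at ht₂U
    obtain ⟨hd1, hd2, hdt⟩ := ht₂U
    have h1t' : t₂ ≠ s₁ := hd1
    have h2t' : t₂ ≠ s₂ := hd2
    have htt : t₂ ≠ t₁ := hdt
    have hs₁T : s₁ ∈ T := hUT (by simp)
    have hs₂T : s₂ ∈ T := hUT (by simp)
    have ht₁T : t₁ ∈ T := hUT (by simp)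
    -- the vector y
    obtain ⟨y, hy⟩ : ∃ y : Fin n → F, y = fun k => if k ∈ T ∧ k ≠ t₁ ∧ k ≠ t₂ then (1 : F) else 0 :=
      ⟨_, rfl⟩
    have hysupp : supp y = (T.erase t₁).erase t₂ := by
      ext k
      rw [mem_supp, hy]
      simp only [Finset.mem_erase]
      by_cases h : k ∈ T ∧ k ≠ t₁ ∧ k ≠ t₂
      · simp [h]
      · simp only [if_neg h]
        constructor
        · intro h'; exact absurd rfl h'
        · intro h'; exact absurd ⟨h'.2.2, h'.2.1, h'.1⟩ h
    have hycard : (supp y).card = w - 2 := by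
      rw [hysupp, Finset.card_erase_of_mem, Finset.card_erase_of_mem ht₁T, hTw]
      · omega
      · exact Finset.mem_erase.mpr ⟨htt, ht₂T⟩
    have hyiso : hf σ y y = 0 := by
      rw [q2up_hf_self hC, hycard]
      apply q2up_cast_even hC
      obtain ⟨k, hk⟩ := hev
      exact ⟨k - 1, by omega⟩
    have hyU : y ∈ UX σ M := ih (w - 2) (by omega) y hyiso hycard
    have hy1 : y s₁ = 1 := by
      rw [hy]; simp [hs₁T, h1t, h1t'.symm]
    have hy2 : y s₂ = 1 := by
      rw [hy]; simp [hs₂T, h2t, h2t'.symm]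
    have hyt1 : y t₁ = 0 := by
      rw [hy]; simp
    have hyt2 : y t₂ = 0 := by
      rw [hy]; simp
    -- the vectors x lam
    obtain ⟨x, hx⟩ : ∃ x : F → Fin n → F, x = fun lam =>
        Pi.single s₁ 1 + ω • Pi.single s₂ 1 + lam • Pi.single t₁ 1 + Pi.single t₂ 1 := ⟨_, rfl⟩
    have hxk : ∀ lam k, x lam k = if k = s₁ then 1 else if k = s₂ then ω else if k = t₁ then lam
        else if k = t₂ then 1 else 0 := by
      intro lam k
      rw [hx]
      simp only [Pi.add_apply, Pi.smul_apply, Pi.single_apply, smul_eq_mul]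
      by_cases e1 : k = s₁
      · subst e1; simp [h12, h1t, h1t'.symm]
      · by_cases e2 : k = s₂
        · subst e2; simp [e1, h2t, h2t'.symm]
        · by_cases e3 : k = t₁
          · subst e3; simp [e1, e2, htt.symm]
          · by_cases e4 : k = t₂
            · subst e4; simp [e1, e2, e3]
            · simp [e1, e2, e3, e4]
    have hxcard : ∀ lam, lam ≠ 0 → (supp (x lam)).card = 4 := by
      intro lam hlam
      have : supp (x lam) = {s₁, s₂, t₁, t₂} := by
        ext k
        rw [mem_supp, hxk]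
        simp only [Finset.mem_insert, Finset.mem_singleton]
        by_cases e1 : k = s₁
        · simp [e1]
        · by_cases e2 : k = s₂
          · simp [e2, hω0, h12.symm]
          · by_cases e3 : k = t₁
            · simp [e3, hlam, h1t.symm, h2t.symm]
            · by_cases e4 : k = t₂
              · simp [e4, h1t', h2t', htt]
              · simp [e1, e2, e3, e4]
      rw [this, Finset.card_insert_of_notMem, Finset.card_insert_of_notMem,
        Finset.card_insert_of_notMem, Finset.card_singleton]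
      · simp [htt.symm]
      · simp [h2t, h2t'.symm]
      · simp [h12, h1t, h1t'.symm]
    have hyx : ∀ lam, hf σ y (x lam) = ω := by
      intro lam
      rw [hx]
      simp only [hf_add_right, hf_smul_right, hf_single_right, hy1, hy2, hyt1, hyt2, hsω]
      linear_combination hκ
    have h11 : (1 : F) + σ 1 = 0 := by rw [map_one]; linear_combination h2
    have huU : ∀ lam, lam ≠ 0 → y + ω • x lam ∈ UX σ M := by
      intro lam hlam
      have := Cfsg.Agent.Lib.Helper13.ux_tv σ hMU hyU (h4 (x lam) (hxcard lam hlam)) 1 h11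
      rwa [one_mul, hyx] at this
    have huk : ∀ lam k, (y + ω • x lam) k = if k = s₁ then 1 + ω else if k = s₂ then 1 + ω * ω
        else if k = t₁ then ω * lam else if k = t₂ then ω else if k ∈ T then 1 else 0 := by
      intro lam k
      simp only [Pi.add_apply, Pi.smul_apply, smul_eq_mul, hxk]
      by_cases e1 : k = s₁
      · subst e1; simp [hy1]
      · by_cases e2 : k = s₂
        · subst e2; simp [e1, hy2]
        · by_cases e3 : k = t₁
          · subst e3; simp [e1, e2, hyt1]
          · by_cases e4 : k = t₂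
            · subst e4; simp [e1, e2, e3, hyt2]
            · simp [e1, e2, e3, e4, hy]
    have husupp : ∀ lam, lam ≠ 0 → supp (y + ω • x lam) = T := by
      intro lam hlam
      ext k
      rw [mem_supp, huk]
      by_cases e1 : k = s₁
      · simp [e1, h1ω, hs₁T]
      · by_cases e2 : k = s₂
        · simp [e2, h1ωω, hs₂T, h12.symm]
        · by_cases e3 : k = t₁
          · simp [e3, hω0, hlam, ht₁T, h1t.symm, h2t.symm]
          · by_cases e4 : k = t₂
            · simp [e4, hω0, ht₂T, h1t', h2t', htt]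
            · simp [e1, e2, e3, e4]
    rcases lt_or_eq_of_le hwn with hlt | heq
    · -- w < n
      have hu := huU 1 one_ne_zero
      refine q2_trans hC hM hu ?_ ?_
      · rw [husupp 1 one_ne_zero, ← hT]
      · rw [husupp 1 one_ne_zero, hTw]; exact hlt
    · -- w = n : full weight
      have hTuniv : T = Finset.univ := by
        apply Finset.eq_univ_of_card
        rw [hTw, heq, Fintype.card_fin]
      have hvfull : ∀ k, v k ≠ 0 := by
        intro k
        apply mem_supp.mp
        rw [← hT, hTuniv]; exact Finset.mem_univ k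
      obtain ⟨P, hP⟩ : ∃ P : F, P = ∏ k, v k := ⟨_, rfl⟩
      have hP0 : P ≠ 0 := by
        rw [hP]; exact Finset.prod_ne_zero_iff.mpr (fun k _ => hvfull k)
      have hlam : P * ω ≠ 0 := mul_ne_zero hP0 hω0
      have hu := huU (P * ω) hlam
      have hufull : ∀ k, (y + ω • x (P * ω)) k ≠ 0 := by
        intro k
        apply mem_supp.mp
        rw [husupp _ hlam, hTuniv]; exact Finset.mem_univ k
      refine q2_trans_full hC hM hu hufull hvfull ?_
      rw [← hP]
      have hfac : ∀ k, (y + ω • x (P * ω)) k =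
          (if k = s₁ then 1 + ω else 1) * (if k = s₂ then 1 + ω * ω else 1) *
            (if k = t₁ then ω * (P * ω) else 1) * (if k = t₂ then ω else 1) := by
        intro k
        rw [huk]
        by_cases e1 : k = s₁
        · subst e1; simp [h12, h1t, h1t'.symm]
        · by_cases e2 : k = s₂
          · subst e2; simp [e1, h2t, h2t'.symm]
          · by_cases e3 : k = t₁
            · subst e3; simp [e1, e2, htt.symm]
            · by_cases e4 : k = t₂
              · subst e4; simp [e1, e2, e3]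
              · simp [e1, e2, e3, e4, hTuniv]
      rw [Finset.prod_congr rfl (fun k _ => hfac k)]
      simp only [Finset.prod_mul_distrib, Finset.prod_ite_eq', Finset.mem_univ, if_true]
      linear_combination (-(P * ω ^ 3)) * hω - (P * (ω ^ 3 + 1)) * hω3

end Cfsg.Agent.Lib.Helper70.UMon
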