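/-
helper70, project UMON (S5655).  The case `q = 2`: assembly.
-/
import Mathlib
import Cfsg.Agent.Lib.Helper70.UMon.Defs
import Cfsg.Agent.Lib.Helper70.UMon.Q2Start
import Cfsg.Agent.Lib.Helper70.UMon.Q2Trans
import Cfsg.Agent.Lib.Helper70.UMon.Q2Down
import Cfsg.Agent.Lib.Helper70.UMon.Q2Up
import Cfsg.Agent.Lib.Helper70.UMon.NonTI

set_option autoImplicit false

namespace Cfsg.Agent.Lib.Helper70.UMon

open Matrix Module Cfsg.Agent.S0837 Cfsg.Agent.S0781 Cfsg.Agent.S2644 Cfsg.Agent.Lib.Helper37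
open Cfsg.Agent.Lib.Helper13 (UX)
open Cfsg.Agent.Lib.Helper94.Mono (monGL mem_monGL slGL mem_slGL colMono diagUnit dg dg2)

variable {F : Type*} [Field F] [Fintype F] {σ : F →+* F} {n : ℕ}

/-- **`q = 2`**: an overgroup of `N` in `SU_n(2)` which is not monomial is `SU_n(2)`. -/
theorem q2_main (hC : FCtx σ 2) (hn : 13 ≤ n) {M : Subgroup (GL (Fin n) F)} (hM : Over σ M)
    (hnm : ¬ M ≤ monGL (Fin n) F) : SUn σ n ≤ M := by
  obtain ⟨v, hv, h4⟩ := q2_start hC (by omega) hM hnm
  -- a vector of weight exactly four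
  obtain ⟨v₄, hv₄, hc₄⟩ : ∃ v' ∈ UX σ M, (supp v').card = 4 := by
    rcases Nat.lt_or_ge (supp v).card 6 with hlt | hge
    · -- weight 4 or 5; use the vector itself if its weight is 4, otherwise go through `q2_down`
      by_cases h : (supp v).card = 4
      · exact ⟨v, hv, h⟩
      · -- weight 5 is impossible: the weight of an isotropic vector is even
        exfalso
        have h5 : (supp v).card = 5 := by omega
        obtain ⟨hv0, _⟩ := hv
        obtain ⟨r, hr⟩ := q2_even hC hv0
        omega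
    · exact q2_down hC (by omega) hM hv hge
  have hall4 : ∀ w : Fin n → F, (supp w).card = 4 → w ∈ UX σ M := fun w hw =>
    q2_trans hC hM hv₄ (by rw [hw, hc₄]) (by rw [hc₄]; omega)
  exact su_le_of_all_ux hC (by omega) (q2_up hC (by omega) hM hall4)

end Cfsg.Agent.Lib.Helper70.UMon
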